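import Cfsg.Prelude.Def_MonsterType
import Cfsg.Agent.Lib.PGroup.Extraspecial

/-!
# A large extraspecial 2-subgroup and one of its conjugates

Aschbacher's lemmas on `Q`, `z` and `y = z^g ∈ Q`: the structure of `⟨Q, Q^g⟩`.

* `Hub Q z`: the consequences of "large extraspecial with centre `⟨z⟩`" that are used, transported
  along conjugation by `Hub.conj`.
* `Hub.self_mem_conj`: `z^g ∈ Q` implies `z ∈ Q^g`.
* `Hub.centralizer_four`, `Hub.join_cases`: the subgroup `R` and `X / R ≅ S₃`.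
-/

set_option autoImplicit false

namespace Cfsg.Agent.LargeExtraspecial

open scoped commutatorElement

variable {G : Type*} [Group G]

theorem mem_conj_iff {Q : Subgroup G} {g x : G} :
    x ∈ Q.map (MulAut.conj g).toMonoidHom ↔ g⁻¹ * x * g ∈ Q := by
  constructor
  · rintro ⟨r, hr, rfl⟩
    have e : g⁻¹ * (g * r * g⁻¹) * g = r := by group
    show g⁻¹ * (g * r * g⁻¹) * g ∈ Q
    rw [e]; exact hr
  · intro h; exact ⟨_, h, by simp [mul_assoc]⟩

theorem mem_centralizer_pair {a b x : G} :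
    x ∈ Subgroup.centralizer ((Subgroup.closure ({a, b} : Set G) : Subgroup G) : Set G) ↔
      Commute x a ∧ Commute x b := by
  constructor
  · intro h
    exact ⟨(h a (Subgroup.subset_closure (Set.mem_insert _ _))).symm,
      (h b (Subgroup.subset_closure (Set.mem_insert_of_mem _ rfl))).symm⟩
  · rintro ⟨ha, hb⟩ w hw
    have hle : Subgroup.closure ({a, b} : Set G) ≤ Subgroup.centralizer ({x} : Set G) := by
      rw [Subgroup.closure_le]
      rintro w (rfl | rfl)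
      exacts [Subgroup.mem_centralizer_singleton_iff.mpr ha.eq.symm,
        Subgroup.mem_centralizer_singleton_iff.mpr hb.eq.symm]
    exact Subgroup.mem_centralizer_singleton_iff.mp (hle hw)

/-- The elements of a four-group. -/
theorem mem_four {a b x : G} (ha : a * a = 1) (hb : b * b = 1) (hab : Commute a b)
    (hx : x ∈ Subgroup.closure ({a, b} : Set G)) : x = 1 ∨ x = a ∨ x = b ∨ x = a * b := by
  have hba : b * a = a * b := hab.eq.symm
  have e1 : ∀ t, a * (a * t) = t := fun t => by rw [← mul_assoc, ha, one_mul]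
  have e2 : ∀ t, b * (b * t) = t := fun t => by rw [← mul_assoc, hb, one_mul]
  have e3 : ∀ t, b * (a * t) = a * (b * t) := fun t => by rw [← mul_assoc, hba, mul_assoc]
  induction hx using Subgroup.closure_induction with
  | mem x hx => rcases hx with rfl | rfl <;> tauto
  | one => tauto
  | mul u v _ _ hu hv =>
    rcases hu with rfl | rfl | rfl | rfl <;> rcases hv with rfl | rfl | rfl | rfl <;>
      simp [mul_assoc, ha, hb, hba, e1, e2, e3]
  | inv u _ hu =>
    rcases hu with rfl | rfl | rfl | rfl <;>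
      simp [inv_eq_of_mul_eq_one_right ha, inv_eq_of_mul_eq_one_right hb, hba]

/-- What is used of a large extraspecial subgroup `Q` with centre `{1, z}`. -/
structure Hub (Q : Subgroup G) (z : G) : Prop where
  ne_one : z ≠ 1
  sq : z * z = 1
  mem : z ∈ Q
  central : ∀ q ∈ Q, Commute q z
  comm : ∀ q ∈ Q, ∀ r ∈ Q, q * r * q⁻¹ = r ∨ q * r * q⁻¹ = r * z
  sq_cases : ∀ q ∈ Q, q * q = 1 ∨ q * q = z
  self : ∀ c : G, (∀ q ∈ Q, Commute c q) → c = 1 ∨ c = z
  normalizes : ∀ c : G, Commute c z → ∀ q ∈ Q, c * q * c⁻¹ ∈ Q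
  dcc : ∀ D : Subgroup G, D ≤ Q → z ∈ D → ∀ x ∈ Q,
    (∀ w ∈ Q, (∀ d ∈ D, Commute w d) → Commute x w) → x ∈ D

theorem Hub.of_isLargeExtraspecial [Finite G] {Q : Subgroup G}
    (hQ : Cfsg.IsLargeExtraspecial Q) {z : G}
    (hz : (Subgroup.center ↥Q).map Q.subtype = Subgroup.zpowers z) (hz2 : orderOf z = 2) :
    Hub Q z := by
  obtain ⟨hex, hC, hN, -⟩ := hQ
  have : Fact (Nat.Prime 2) := ⟨Nat.prime_two⟩
  have hsq : z * z = 1 := by rw [← pow_two, ← hz2]; exact pow_orderOf_eq_one z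
  have hcases : ∀ w ∈ Subgroup.zpowers z, w = 1 ∨ w = z := by
    intro w hw
    obtain ⟨n, rfl⟩ := Subgroup.mem_zpowers_iff.mp hw
    rcases Int.even_or_odd n with ⟨m, rfl⟩ | ⟨m, rfl⟩
    · left; rw [← two_mul, zpow_mul, zpow_two, hsq, one_zpow]
    · right; rw [zpow_add, zpow_one, zpow_mul, zpow_two, hsq, one_zpow, one_mul]
  have hcent : ∀ w : ↥Q, w ∈ Subgroup.center ↥Q → (w : G) = 1 ∨ (w : G) = z := fun w hw =>
    hcases _ (hz ▸ ⟨w, hw, rfl⟩)
  have hzmem : z ∈ (Subgroup.center ↥Q).map Q.subtype := hz ▸ Subgroup.mem_zpowers z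
  obtain ⟨zQ, hzQ, hzQz⟩ := hzmem
  have hmem : z ∈ Q := hzQz ▸ zQ.2
  have hcentral : ∀ q ∈ Q, Commute q z := fun q hq => by
    rw [← hzQz]; exact congrArg Subtype.val (Subgroup.mem_center_iff.mp hzQ ⟨q, hq⟩)
  refine ⟨fun h => ?_, hsq, hmem, hcentral, fun q hq r hr => ?_, fun q hq => ?_, fun c hc => ?_,
    fun c hc q hq => ?_, fun D hDQ hzD x hx h => ?_⟩
  · rw [h, orderOf_one] at hz2; omega
  · rcases hcent _ (Cfsg.Agent.PGroup.special_commutator_mem_center hex.1 ⟨q, hq⟩ ⟨r, hr⟩) with h | h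
      <;> simp only [commutatorElement_def, Subgroup.coe_mul, Subgroup.coe_inv] at h
    · exact Or.inl (mul_inv_eq_one.mp h)
    · exact Or.inr (by rw [eq_mul_of_mul_inv_eq h, (hcentral r hr).eq])
  · rcases hcent _ (Cfsg.Agent.PGroup.special_pow_mem_center hex.1 (⟨q, hq⟩ : ↥Q)) with h | h
      <;> simp only [pow_two, Subgroup.coe_mul] at h
    exacts [Or.inl h, Or.inr h]
  · have : c ∈ Subgroup.centralizer (Q : Set G) := fun q hq => (hc q hq).symm
    rw [hC, hz] at this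
    exact hcases c this
  · refine (Subgroup.mem_normalizer_iff.mp (hN ?_) q).mp hq
    rw [hz]
    intro w hw
    rcases hcases w hw with rfl | rfl
    · simp
    · exact hc.eq.symm
  · have hle : Subgroup.center ↥Q ≤ D.subgroupOf Q := fun w hw => by
      rcases hcent w hw with h | h <;> show (w : G) ∈ D <;> rw [h]
      exacts [D.one_mem, hzD]
    have hx' : (⟨x, hx⟩ : ↥Q) ∈ Subgroup.centralizer
        ((Subgroup.centralizer ((D.subgroupOf Q : Subgroup ↥Q) : Set ↥Q) : Subgroup ↥Q) : Set ↥Q) := by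
      intro w hw
      refine Subtype.ext (h w w.2 fun d hd => ?_).eq.symm
      exact congrArg Subtype.val (hw ⟨d, hDQ hd⟩ hd).symm
    rw [Cfsg.Agent.PGroup.centralizer_centralizer_extraspecial hex hle] at hx'
    exact hx'

namespace Hub

variable {Q : Subgroup G} {z y : G}

theorem conj (h : Hub Q z) (g : G) :
    Hub (Q.map (MulAut.conj g).toMonoidHom) (g * z * g⁻¹) := by
  have cm : ∀ a b : G, Commute a b → Commute (g * a * g⁻¹) (g * b * g⁻¹) :=
    fun a b hab => hab.map (MulAut.conj g).toMonoidHom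
  have key : ∀ q ∈ Q.map (MulAut.conj g).toMonoidHom, ∃ r ∈ Q, q = g * r * g⁻¹ :=
    fun q hq => ⟨_, mem_conj_iff.mp hq, by group⟩
  refine ⟨fun e => h.ne_one (by simpa using e), ?_, ⟨z, h.mem, rfl⟩, fun q hq => ?_,
    fun q hq r hr => ?_, fun q hq => ?_, fun c hc => ?_, fun c hc q hq => ?_,
    fun D hDQ hzD x hx hD => ?_⟩
  · simp [mul_assoc, ← mul_assoc z z, h.sq]
  · obtain ⟨r, hr, rfl⟩ := key q hq; exact cm _ _ (h.central r hr)
  · obtain ⟨q, hq', rfl⟩ := key q hq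
    obtain ⟨r, hr', rfl⟩ := key r hr
    have e : g * q * g⁻¹ * (g * r * g⁻¹) * (g * q * g⁻¹)⁻¹ = g * (q * r * q⁻¹) * g⁻¹ := by group
    rcases h.comm q hq' r hr' with e' | e' <;> rw [e, e']
    · exact Or.inl rfl
    · exact Or.inr (by group)
  · obtain ⟨q, hq', rfl⟩ := key q hq
    have e : g * q * g⁻¹ * (g * q * g⁻¹) = g * (q * q) * g⁻¹ := by group
    rcases h.sq_cases q hq' with e' | e' <;> rw [e, e'] <;> simp
  · have hh : g⁻¹ * c * g = 1 ∨ g⁻¹ * c * g = z := h.self _ fun q hq => by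
      have h1 := (hc _ ⟨q, hq, rfl⟩).map (MulAut.conj g⁻¹).toMonoidHom
      simp [mul_assoc] at h1
      simpa [mul_assoc] using h1
    rcases hh with e | e
    · left; calc c = g * (g⁻¹ * c * g) * g⁻¹ := by group
        _ = 1 := by rw [e]; group
    · right; calc c = g * (g⁻¹ * c * g) * g⁻¹ := by group
        _ = _ := by rw [e]
  · obtain ⟨r, hr, rfl⟩ := key q hq
    have hcz : Commute (g⁻¹ * c * g) z := by
      have h1 := hc.map (MulAut.conj g⁻¹).toMonoidHom
      simp [mul_assoc] at h1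
      simpa [mul_assoc] using h1
    have := h.normalizes _ hcz r hr
    rw [mem_conj_iff]
    have e : g⁻¹ * (c * (g * r * g⁻¹) * c⁻¹) * g = g⁻¹ * c * g * r * (g⁻¹ * c * g)⁻¹ := by group
    rw [e]; exact this
  · obtain ⟨x, hx', rfl⟩ := key x hx
    have := h.dcc (D.comap (MulAut.conj g).toMonoidHom) (fun d hd => by
        have := mem_conj_iff.mp (hDQ hd)
        simpa [mul_assoc] using this) hzD x hx' (fun w hw hwd => by
        have h1 := hD (g * w * g⁻¹) ⟨w, hw, rfl⟩ (fun d hd => by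
          have hd' : g⁻¹ * d * g ∈ D.comap (MulAut.conj g).toMonoidHom := by
            show g * (g⁻¹ * d * g) * g⁻¹ ∈ D
            rw [show g * (g⁻¹ * d * g) * g⁻¹ = d by group]; exact hd
          have := cm _ _ (hwd _ hd')
          rwa [show g * (g⁻¹ * d * g) * g⁻¹ = d by group] at this)
        have h2 := h1.map (MulAut.conj g⁻¹).toMonoidHom
        simp [mul_assoc] at h2
        exact h2)
    exact this

/-- Two conjugates of `Q` with the same central involution coincide. -/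
theorem conj_eq (h : Hub Q z) {a b : G} (hab : a * z * a⁻¹ = b * z * b⁻¹) :
    Q.map (MulAut.conj a).toMonoidHom = Q.map (MulAut.conj b).toMonoidHom := by
  have one : ∀ a b : G, a * z * a⁻¹ = b * z * b⁻¹ →
      Q.map (MulAut.conj a).toMonoidHom ≤ Q.map (MulAut.conj b).toMonoidHom := by
    intro a b hab x hx
    rw [mem_conj_iff] at hx ⊢
    have hc : Commute (b⁻¹ * a) z := by
      show b⁻¹ * a * z = z * (b⁻¹ * a)
      calc b⁻¹ * a * z = b⁻¹ * (a * z * a⁻¹) * a := by group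
        _ = z * (b⁻¹ * a) := by rw [hab]; group
    have := h.normalizes _ hc _ hx
    have e : b⁻¹ * x * b = b⁻¹ * a * (a⁻¹ * x * a) * (b⁻¹ * a)⁻¹ := by group
    rw [e]; exact this
  exact le_antisymm (one a b hab) (one b a hab.symm)

theorem inv_z (h : Hub Q z) : z⁻¹ = z := inv_eq_of_mul_eq_one_right h.sq

theorem exists_not_commute (h : Hub Q z) {x : G} (h1 : x ≠ 1) (h2 : x ≠ z) :
    ∃ q ∈ Q, ¬ Commute x q := by
  by_contra hcon; push Not at hcon
  exact (h.self x hcon).elim h1 h2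

theorem centralizer_of_self (h : Hub Q z) (hy : y ∈ Q) {x : G} (hx : x ∈ Q)
    (hc : ∀ p ∈ Q, Commute p y → Commute x p) : x ∈ Subgroup.closure ({z, y} : Set G) := by
  refine h.dcc _ ?_ (Subgroup.subset_closure (Set.mem_insert _ _)) x hx fun w hw hwd => ?_
  · rw [Subgroup.closure_le]; rintro w (rfl | rfl)
    exacts [h.mem, hy]
  · exact hc w hw (hwd y (Subgroup.subset_closure (Set.mem_insert_of_mem _ rfl)))

/-- If `z^g ∈ Q` then `z ∈ Q^g`. -/
theorem self_mem_conj (h : Hub Q z) (g : G) (hy : g * z * g⁻¹ ∈ Q) (hne : g * z * g⁻¹ ≠ z)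
    (hP : ∃ p₁ ∈ Q, ∃ p₂ ∈ Q, Commute p₁ (g * z * g⁻¹) ∧ Commute p₂ (g * z * g⁻¹) ∧
      ¬ Commute p₁ p₂) :
    z ∈ Q.map (MulAut.conj g).toMonoidHom := by
  have h' := h.conj g
  set y := g * z * g⁻¹
  set Q' := Q.map (MulAut.conj g).toMonoidHom
  have hzy : Commute z y := (h.central y hy).symm
  by_cases hcase : ∃ v ∈ Q', v * z * v⁻¹ = z * y
  · obtain ⟨v, hv, hvz⟩ := hcase
    obtain ⟨q, hq, hqy⟩ := h.exists_not_commute h'.ne_one hne
    have hq2 : q * y * q⁻¹ = y * z := (h.comm q hq y hy).resolve_left fun e =>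
      hqy (Commute.symm (mul_inv_eq_iff_eq_mul.mp e))
    have hqz : q * z * q⁻¹ = z := by rw [(h.central q hq).eq]; group
    have hc : (q * v) * z * (q * v)⁻¹ = g * z * g⁻¹ := by
      calc (q * v) * z * (q * v)⁻¹ = q * (v * z * v⁻¹) * q⁻¹ := by group
        _ = (q * z * q⁻¹) * (q * y * q⁻¹) := by rw [hvz]; group
        _ = z * (y * z) := by rw [hqz, hq2]
        _ = y := by rw [← mul_assoc, hzy.eq, mul_assoc, h.sq, mul_one]
    have hmem : (q * v) * y * (q * v)⁻¹ ∈ Q' := by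
      show _ ∈ Q.map (MulAut.conj g).toMonoidHom
      rw [← h.conj_eq hc]; exact ⟨y, hy, rfl⟩
    have hvy : v * y * v⁻¹ = y := by rw [(h'.central v hv).eq]; group
    have e : (q * v) * y * (q * v)⁻¹ = y * z := by
      calc (q * v) * y * (q * v)⁻¹ = q * (v * y * v⁻¹) * q⁻¹ := by group
        _ = y * z := by rw [hvy, hq2]
    rw [e] at hmem
    exact (Q'.mul_mem_cancel_left h'.mem).mp hmem
  push Not at hcase
  by_contra hz
  -- elements of `Q'` moved by `z` only inside `⟨y⟩` are fixed by it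
  have star : ∀ v ∈ Q', z * v * z⁻¹ = v * y → False := by
    intro v hv e
    apply hcase v⁻¹ (Q'.inv_mem hv)
    have e1 : z * v = v * (y * z) := by rw [← mul_assoc, ← e]; group
    calc v⁻¹ * z * v⁻¹⁻¹ = v⁻¹ * (z * v) := by group
      _ = z * y := by rw [e1, inv_mul_cancel_left, hzy.eq]
  have hzN : ∀ q ∈ Q', z * q * z⁻¹ ∈ Q' := h'.normalizes z hzy
  let D : Subgroup G := Subgroup.closure ({y} ∪ {x | ∃ q ∈ Q', x = z * q * z⁻¹ * q⁻¹})
  have hDQ : D ≤ Q' := by
    rw [Subgroup.closure_le]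
    rintro x (rfl | ⟨q, hq, rfl⟩)
    · exact h'.mem
    · exact Q'.mul_mem (hzN q hq) (Q'.inv_mem hq)
  have hzz : ∀ t : G, z * (z * t) = t := fun t => by rw [← mul_assoc, h.sq, one_mul]
  have hDz : ∀ x ∈ D, Commute z x := by
    intro x hx
    have hle : D ≤ Subgroup.centralizer ({z} : Set G) := by
      rw [Subgroup.closure_le]
      rintro x (rfl | ⟨q, hq, rfl⟩)
      · exact Subgroup.mem_centralizer_singleton_iff.mpr hzy.eq.symm
      · set r := z * q * z⁻¹ * q⁻¹ with hr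
        have hrQ : r ∈ Q' := Q'.mul_mem (hzN q hq) (Q'.inv_mem hq)
        have hrz : z * r * z⁻¹ = r⁻¹ := by rw [hr, h.inv_z]; simp [mul_assoc, hzz, h.inv_z]
        rcases h'.sq_cases r hrQ with e | e
        · rw [inv_eq_of_mul_eq_one_right e] at hrz
          exact Subgroup.mem_centralizer_singleton_iff.mpr
            (mul_inv_eq_iff_eq_mul.mp hrz).symm
        · exfalso; refine star r hrQ ?_
          rw [hrz]; exact inv_eq_of_mul_eq_one_right (by rw [← mul_assoc, e, h'.sq])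
    exact (Subgroup.mem_centralizer_singleton_iff.mp (hle hx)).symm
  have hyD : y ∈ D := Subgroup.subset_closure (Or.inl rfl)
  have hCD : ∀ w ∈ Q', (∀ d ∈ D, Commute w d) → Commute z w := by
    intro w hw hwd
    set e := w⁻¹ * (z * w * z⁻¹) with he
    have heQ : e ∈ Q' := Q'.mul_mem (Q'.inv_mem hw) (hzN w hw)
    have hcen : ∀ s ∈ Q', Commute e s := by
      intro s hs
      have hq : z * s * z⁻¹ ∈ Q' := hzN s hs
      obtain ⟨q, hqQ, rfl⟩ : ∃ q ∈ Q', s = z * q * z⁻¹ :=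
        ⟨_, hq, by rw [h.inv_z]; simp [mul_assoc, hzz, h.sq]⟩
      -- both `w` and `z w z⁻¹` induce the same commutator on `z q z⁻¹`
      have hwr := hwd _ (Subgroup.subset_closure (Or.inr ⟨q, hqQ, rfl⟩) : z * q * z⁻¹ * q⁻¹ ∈ D)
      rcases h'.comm w hw q hqQ with e' | e'
      · have e1 : w * (z * q * z⁻¹) * w⁻¹ = z * q * z⁻¹ := by
          calc w * (z * q * z⁻¹) * w⁻¹
              = (w * (z * q * z⁻¹ * q⁻¹)) * w⁻¹ * (w * q * w⁻¹) := by group
            _ = _ := by rw [hwr.eq, e']; group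
        have e2 : (z * w * z⁻¹) * (z * q * z⁻¹) * (z * w * z⁻¹)⁻¹ = z * q * z⁻¹ := by
          calc _ = z * (w * q * w⁻¹) * z⁻¹ := by group
            _ = _ := by rw [e']
        show e * (z * q * z⁻¹) = z * q * z⁻¹ * e
        calc e * (z * q * z⁻¹) = w⁻¹ * ((z * w * z⁻¹) * (z * q * z⁻¹) * (z * w * z⁻¹)⁻¹) * w * e := by
              rw [he]; group
          _ = w⁻¹ * (w * (z * q * z⁻¹) * w⁻¹) * w * e := by rw [e1, e2]
          _ = _ := by group
      · have e1 : w * (z * q * z⁻¹) * w⁻¹ = z * q * z⁻¹ * y := by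
          calc w * (z * q * z⁻¹) * w⁻¹
              = (w * (z * q * z⁻¹ * q⁻¹)) * w⁻¹ * (w * q * w⁻¹) := by group
            _ = _ := by rw [hwr.eq, e']; group
        have e2 : (z * w * z⁻¹) * (z * q * z⁻¹) * (z * w * z⁻¹)⁻¹ = z * q * z⁻¹ * y := by
          calc _ = z * (w * q * w⁻¹) * z⁻¹ := by group
            _ = z * q * z⁻¹ * (z * y * z⁻¹) := by rw [e']; group
            _ = _ := by rw [hzy.eq, mul_inv_cancel_right]
        show e * (z * q * z⁻¹) = z * q * z⁻¹ * e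
        calc e * (z * q * z⁻¹) = w⁻¹ * ((z * w * z⁻¹) * (z * q * z⁻¹) * (z * w * z⁻¹)⁻¹) * w * e := by
              rw [he]; group
          _ = w⁻¹ * (w * (z * q * z⁻¹) * w⁻¹) * w * e := by rw [e1, e2]
          _ = _ := by group
    rcases h'.self e hcen with e1 | e1
    · rw [he, inv_mul_eq_one] at e1
      exact mul_inv_eq_iff_eq_mul.mp e1.symm
    · rw [he, inv_mul_eq_iff_eq_mul] at e1
      exact absurd e1 (star w hw)
  -- the action of `C_Q(y)` on `Q'`
  have htriv : ∀ p ∈ Q, Commute p y → ∀ w ∈ Q', Commute z w →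
      p * w * p⁻¹ = w ∨ p * w * p⁻¹ = w * y := by
    intro p hp hpy w hw hzw
    set e := w⁻¹ * (p * w * p⁻¹) with he
    have heQ' : e ∈ Q' := Q'.mul_mem (Q'.inv_mem hw) (h'.normalizes p hpy w hw)
    have heQ : e ∈ Q := by
      have h1 := h.normalizes w⁻¹ (hzw.symm.inv_left) p hp
      have e2 : e = w⁻¹ * p * w⁻¹⁻¹ * p⁻¹ := by rw [he]; group
      rw [e2]; exact Q.mul_mem h1 (Q.inv_mem hp)
    have hep : p * w * p⁻¹ = w * e := by rw [he, mul_inv_cancel_left]
    have hey : Commute e y := h'.central e heQ'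
    -- `Q ∩ Q'` centralises `C_Q(y)`
    have hec : ∀ s ∈ Q, Commute s y → Commute e s := by
      intro s hs hsy
      rcases h.comm s hs e heQ with e1 | e1
      · exact (mul_inv_eq_iff_eq_mul.mp e1 : s * e = e * s).symm
      · exfalso; apply hz
        have := h'.normalizes s hsy e heQ'
        rw [e1] at this
        exact (Q'.mul_mem_cancel_left heQ').mp this
    have hcl := h.centralizer_of_self hy heQ hec
    rcases mem_four h.sq h'.sq hzy hcl with e1 | e1 | e1 | e1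
    · exact Or.inl (by rw [hep, e1, mul_one])
    · exact absurd (e1 ▸ heQ') hz
    · exact Or.inr (by rw [hep, e1])
    · exact absurd ((Q'.mul_mem_cancel_right h'.mem).mp (e1 ▸ heQ')) hz
  have hd : ∀ p ∈ Q, Commute p y → ∀ q ∈ Q', q⁻¹ * (p * q * p⁻¹) ∈ D := by
    intro p hp hpy q hq
    have hpq := h'.normalizes p hpy q hq
    refine h'.dcc D hDQ hyD _ (Q'.mul_mem (Q'.inv_mem hq) hpq) fun w hw hwd => ?_
    have hzw := hCD w hw hwd
    have hpyp : p * y * p⁻¹ = y := by rw [hpy.eq]; group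
    have hwy : Commute w y := h'.central w hw
    -- `w` has the same commutator with `q` and with `p q p⁻¹`
    have e2 : w * (p * q * p⁻¹) * w⁻¹ = (p * w * p⁻¹) * (p * q * p⁻¹) * (p * w * p⁻¹)⁻¹ := by
      rcases htriv p hp hpy w hw hzw with e | e <;> rw [e]
      have hyc := h'.central _ hpq
      calc w * (p * q * p⁻¹) * w⁻¹ = w * (p * q * p⁻¹ * y) * y⁻¹ * w⁻¹ := by group
        _ = w * (y * (p * q * p⁻¹)) * y⁻¹ * w⁻¹ := by rw [hyc.eq]
        _ = w * y * (p * q * p⁻¹) * (w * y)⁻¹ := by group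
    show q⁻¹ * (p * q * p⁻¹) * w = w * (q⁻¹ * (p * q * p⁻¹))
    rw [← eq_mul_inv_iff_mul_eq]
    rcases h'.comm w hw q hq with e | e
    · have e3 : w * (p * q * p⁻¹) * w⁻¹ = p * q * p⁻¹ := by
        rw [e2]; calc _ = p * (w * q * w⁻¹) * p⁻¹ := by group
          _ = _ := by rw [e]
      calc q⁻¹ * (p * q * p⁻¹) = (w * q * w⁻¹)⁻¹ * (w * (p * q * p⁻¹) * w⁻¹) := by rw [e, e3]
        _ = _ := by group
    · have e3 : w * (p * q * p⁻¹) * w⁻¹ = p * q * p⁻¹ * y := by
        rw [e2]; calc _ = p * (w * q * w⁻¹) * p⁻¹ := by group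
          _ = p * q * p⁻¹ * (p * y * p⁻¹) := by rw [e]; group
          _ = _ := by rw [hpyp]
      calc q⁻¹ * (p * q * p⁻¹) = y⁻¹ * (q⁻¹ * (p * q * p⁻¹)) * y := by
            have hyc : Commute (q⁻¹ * (p * q * p⁻¹)) y :=
              h'.central _ (Q'.mul_mem (Q'.inv_mem hq) hpq)
            rw [mul_assoc y⁻¹, hyc.eq, inv_mul_cancel_left]
        _ = (w * q * w⁻¹)⁻¹ * (w * (p * q * p⁻¹) * w⁻¹) := by rw [e, e3]; group
        _ = _ := by group
  obtain ⟨p₁, hp₁, p₂, hp₂, c₁, c₂, hnc⟩ := hP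
  have hcomm12 : p₁ * p₂ * p₁⁻¹ = p₂ * z := (h.comm p₁ hp₁ p₂ hp₂).resolve_left fun e =>
    hnc (mul_inv_eq_iff_eq_mul.mp e)
  have hzfix : ∀ q ∈ Q', Commute z q := by
    intro q hq
    have m1 := hd p₁ hp₁ c₁ q hq
    have m2 := hd p₂ hp₂ c₂ q hq
    set d₁ := q⁻¹ * (p₁ * q * p₁⁻¹) with hd₁
    set d₂ := q⁻¹ * (p₂ * q * p₂⁻¹) with hd₂
    have s1 : p₁ * q * p₁⁻¹ = q * d₁ := by rw [hd₁, mul_inv_cancel_left]
    have s2 : p₂ * q * p₂⁻¹ = q * d₂ := by rw [hd₂, mul_inv_cancel_left]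
    clear_value d₁ d₂
    have hy1 : ∀ x : G, ∀ t ∈ ({1, y} : Set G), x ∈ Q' → x * t = t * x := by
      rintro x t (rfl | rfl) hx
      exacts [by simp, h'.central x hx]
    have hd12 : ∃ t ∈ ({1, y} : Set G), d₁ * d₂ = d₂ * d₁ * t := by
      rcases h'.comm d₁ (hDQ m1) d₂ (hDQ m2) with e | e
      · exact ⟨1, by simp, by rw [mul_one]; exact mul_inv_eq_iff_eq_mul.mp e⟩
      · refine ⟨y, by simp, ?_⟩
        rw [mul_inv_eq_iff_eq_mul.mp e, mul_assoc, ← (h'.central d₁ (hDQ m1)).eq, ← mul_assoc]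
    have t12 : ∃ t ∈ ({1, y} : Set G), p₁ * d₂ * p₁⁻¹ = d₂ * t := by
      rcases htriv p₁ hp₁ c₁ d₂ (hDQ m2) (hDz d₂ m2) with e | e
      exacts [⟨1, by simp, by rw [e, mul_one]⟩, ⟨y, by simp, e⟩]
    have t21 : ∃ t ∈ ({1, y} : Set G), p₂ * d₁ * p₂⁻¹ = d₁ * t := by
      rcases htriv p₂ hp₂ c₂ d₁ (hDQ m1) (hDz d₁ m1) with e | e
      exacts [⟨1, by simp, by rw [e, mul_one]⟩, ⟨y, by simp, e⟩]
    obtain ⟨a, ha, ea⟩ := hd12
    obtain ⟨b, hb, eb⟩ := t12
    obtain ⟨c, hc, ec⟩ := t21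
    have hyc : ∀ t ∈ ({1, y} : Set G), t * t = 1 := by
      rintro t (rfl | rfl); exacts [one_mul 1, h'.sq]
    have hprod : ∀ t ∈ ({1, y} : Set G), ∀ u ∈ ({1, y} : Set G), t * u ∈ ({1, y} : Set G) := by
      rintro t (rfl | rfl) u (rfl | rfl) <;> simp [h'.sq]
    have X : (p₁ * p₂) * q * (p₁ * p₂)⁻¹ = ((p₂ * p₁) * q * (p₂ * p₁)⁻¹) * (a * b * c) := by
      have X1 : (p₁ * p₂) * q * (p₁ * p₂)⁻¹ = q * (d₁ * d₂) * b := by
        calc _ = p₁ * (p₂ * q * p₂⁻¹) * p₁⁻¹ := by group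
          _ = (p₁ * q * p₁⁻¹) * (p₁ * d₂ * p₁⁻¹) := by rw [s2]; group
          _ = _ := by rw [s1, eb]; group
      have X2 : (p₂ * p₁) * q * (p₂ * p₁)⁻¹ = q * (d₂ * d₁) * c := by
        calc _ = p₂ * (p₁ * q * p₁⁻¹) * p₂⁻¹ := by group
          _ = (p₂ * q * p₂⁻¹) * (p₂ * d₁ * p₂⁻¹) := by rw [s1]; group
          _ = _ := by rw [s2, ec]; group
      have hab : a * b * c = c * (a * b) := by
        rcases ha with rfl | rfl <;> rcases hb with rfl | rfl <;> rcases hc with rfl | rfl <;>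
          simp [mul_assoc, h'.sq]
      rw [X1, X2, ea, hab, mul_assoc (q * (d₂ * d₁)) c, ← mul_assoc c c, hyc c hc, one_mul]
      group
    have hswap : p₁ * p₂ = p₂ * p₁ * z := by
      rw [mul_inv_eq_iff_eq_mul.mp hcomm12, mul_assoc, ← (h.central p₁ hp₁).eq, ← mul_assoc]
    have hpfix : Commute (p₂ * p₁) y := c₂.mul_left c₁
    have hfin : z * q * z⁻¹ = q * (a * b * c) := by
      have hWy : (p₂ * p₁) * (a * b * c) = (a * b * c) * (p₂ * p₁) := by
        have : a * b * c ∈ ({1, y} : Set G) := hprod _ (hprod a ha b hb) c hc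
        rcases this with e | e
        · rw [e]; simp
        · rw [Set.mem_singleton_iff.mp e]; exact hpfix.eq
      have X' := X
      rw [hswap] at X'
      calc z * q * z⁻¹ = (p₂ * p₁)⁻¹ * ((p₂ * p₁ * z) * q * (p₂ * p₁ * z)⁻¹) * (p₂ * p₁) := by group
        _ = q * (p₂ * p₁)⁻¹ * ((a * b * c) * (p₂ * p₁)) := by rw [X']; group
        _ = _ := by rw [← hWy]; group
    rcases hprod _ (hprod a ha b hb) c hc with e | e
    · rw [e, mul_one] at hfin; exact mul_inv_eq_iff_eq_mul.mp hfin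
    · rw [Set.mem_singleton_iff.mp e] at hfin; exact (star q hq hfin).elim
  exact (h'.self z hzfix).elim h.ne_one fun e => hne e.symm

end Hub

end Cfsg.Agent.LargeExtraspecial
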