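import Cfsg.Agent.Lib.Components.GenFitting
import Cfsg.Agent.Lib.Coprime.Commutator
import Cfsg.Agent.Lib.LargeExtraspecial.Pair
import Cfsg.Agent.Lib.TI.Extraspecial

/-!
# Involution centralisers with extraspecial generalized Fitting subgroup

* `Hub.of_setting`: `F*(C(z)) = Q` extraspecial gives `Hub Q z`.
* `Hub.exists_noncommuting_pair`: `C_Q(y)` is not abelian when `|Q| ≥ 32`.
* `Hub.exists_mem_centralizer_not_commute`: `C_Q(A)` only centralises `⟨z⟩` in itself, `A ≤ C(z)` of odd order.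
-/

set_option autoImplicit false

namespace Cfsg.Agent.LargeExtraspecial

open Subgroup

variable {G : Type*} [Group G] {Q : Subgroup G} {z : G}

/-- The facts on `Q` used from "large extraspecial", without the condition on odd subgroups. -/
theorem Hub.of_centralizer [Finite G] (hex : Cfsg.IsExtraspecial 2 ↥Q)
    (hz : (center ↥Q).map Q.subtype = zpowers z) (hz2 : orderOf z = 2)
    (hC : centralizer (Q : Set G) = (center ↥Q).map Q.subtype)
    (hN : centralizer ({z} : Set G) ≤ normalizer (Q : Set G)) : Hub Q z := by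
  have : Fact (Nat.Prime 2) := ⟨Nat.prime_two⟩
  have hsq : z * z = 1 := by rw [← pow_two, ← hz2]; exact pow_orderOf_eq_one z
  have hne : z ≠ 1 := fun e => by rw [e, orderOf_one] at hz2; omega
  have hcases : ∀ w ∈ zpowers z, w = 1 ∨ w = z := by
    intro w hw
    obtain ⟨n, rfl⟩ := mem_zpowers_iff.mp hw
    rcases Int.even_or_odd n with ⟨m, rfl⟩ | ⟨m, rfl⟩
    · left; rw [← two_mul, zpow_mul, zpow_two, hsq, one_zpow]
    · right; rw [zpow_add, zpow_one, zpow_mul, zpow_two, hsq, one_zpow, one_mul]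
  have hcent : ∀ w : ↥Q, w ∈ center ↥Q → (w : G) = 1 ∨ (w : G) = z := fun w hw =>
    hcases _ (hz ▸ ⟨w, hw, rfl⟩)
  obtain ⟨zQ, hzQ, hzQz⟩ : z ∈ (center ↥Q).map Q.subtype := hz ▸ mem_zpowers z
  have hmem : z ∈ Q := hzQz ▸ zQ.2
  have hcentral : ∀ q ∈ Q, Commute q z := fun q hq => by
    rw [← hzQz]; exact congrArg Subtype.val (mem_center_iff.mp hzQ ⟨q, hq⟩)
  refine ⟨hne, hsq, hmem, hcentral, fun q hq r hr => ?_, fun q hq => ?_, fun c hc => ?_,
    fun c hc q hq => ?_, fun D hDQ hzD x hx h => ?_⟩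
  · rcases hcent _ (PGroup.special_commutator_mem_center hex.1 ⟨q, hq⟩ ⟨r, hr⟩) with h | h
      <;> simp only [commutatorElement_def, Subgroup.coe_mul, Subgroup.coe_inv] at h
    · exact Or.inl (mul_inv_eq_one.mp h)
    · exact Or.inr (by rw [eq_mul_of_mul_inv_eq h, (hcentral r hr).eq])
  · rcases hcent _ (PGroup.special_pow_mem_center hex.1 (⟨q, hq⟩ : ↥Q)) with h | h
      <;> simp only [pow_two, Subgroup.coe_mul] at h
    exacts [Or.inl h, Or.inr h]
  · have : c ∈ centralizer (Q : Set G) := fun q hq => (hc q hq).symm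
    rw [hC, hz] at this
    exact hcases c this
  · exact (mem_normalizer_iff.mp (hN (mem_centralizer_singleton_iff.mpr hc.eq)) q).mp hq
  · have hle : center ↥Q ≤ D.subgroupOf Q := fun w hw => by
      rcases hcent w hw with h | h <;> show (w : G) ∈ D <;> rw [h]
      exacts [D.one_mem, hzD]
    have hx' : (⟨x, hx⟩ : ↥Q) ∈ centralizer
        ((centralizer ((D.subgroupOf Q : Subgroup ↥Q) : Set ↥Q) : Subgroup ↥Q) : Set ↥Q) := by
      intro w hw
      refine Subtype.ext (h w w.2 fun d hd => ?_).eq.symm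
      exact congrArg Subtype.val (hw ⟨d, hDQ hd⟩ hd).symm
    rw [PGroup.centralizer_centralizer_extraspecial hex hle] at hx'
    exact hx'

/-- `z` an involution, `Q = F*(C(z))` extraspecial: the facts used, and `Z(Q) = ⟨z⟩ = C(Q)`. -/
theorem Hub.of_setting [Finite G] (hz2 : orderOf z = 2) (hQC : Q ≤ centralizer ({z} : Set G))
    (hF : (Cfsg.generalizedFittingSubgroup ↥(centralizer ({z} : Set G))).map
      (centralizer ({z} : Set G)).subtype = Q)
    (hex : Cfsg.IsExtraspecial 2 ↥Q) :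
    Hub Q z ∧ (center ↥Q).map Q.subtype = zpowers z ∧
      centralizer (Q : Set G) = zpowers z := by
  set C := centralizer ({z} : Set G)
  have hzC : z ∈ C := mem_centralizer_singleton_iff.mpr rfl
  have hzcen : (⟨z, hzC⟩ : C) ∈ center C := mem_center_iff.mpr fun c =>
    Subtype.ext (mem_centralizer_singleton_iff.mp c.2)
  have hmem : z ∈ Q := hF ▸ ⟨_, TI.mem_genFitting_of_central hzcen, rfl⟩
  have hZ : (center ↥Q).map Q.subtype = zpowers z := by
    refine (eq_of_le_of_card_ge ?_ ?_).symm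
    · exact zpowers_le.mpr ⟨⟨z, hmem⟩, mem_center_iff.mpr fun q => Subtype.ext
        (mem_centralizer_singleton_iff.mp (hQC q.2)), rfl⟩
    rw [card_map_of_injective Q.subtype_injective, hex.2, Nat.card_zpowers, hz2]
  have hC : centralizer (Q : Set G) = (center ↥Q).map Q.subtype := by
    refine le_antisymm (fun c hc => ?_) ?_
    · have hcC : c ∈ C := mem_centralizer_singleton_iff.mpr (hc z hmem).symm
      have hcF : (⟨c, hcC⟩ : C) ∈ centralizer (Cfsg.generalizedFittingSubgroup C : Set C) :=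
        mem_centralizer_iff.mpr fun w hw => Subtype.ext (hc (C.subtype w) (hF ▸ mem_map_of_mem C.subtype hw))
      have hcQ : C.subtype ⟨c, hcC⟩ ∈ Q :=
        hF ▸ mem_map_of_mem C.subtype (Components.centralizer_generalizedFittingSubgroup_le hcF)
      exact ⟨⟨c, hcQ⟩, mem_center_iff.mpr fun q => Subtype.ext (hc q q.2), rfl⟩
    · rintro _ ⟨w, hw, rfl⟩
      exact mem_centralizer_iff.mpr fun q hq => congrArg Subtype.val (mem_center_iff.mp hw ⟨q, hq⟩)
  refine ⟨Hub.of_centralizer hex hZ hz2 hC ?_, hZ, hC.trans hZ⟩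
  rw [← hF]
  refine le_trans ?_ ((Cfsg.generalizedFittingSubgroup C).le_normalizer_map C.subtype)
  rw [normalizer_eq_top, ← MonoidHom.range_eq_map, range_subtype]

variable {y : G}

/-- For `|Q| ≥ 32` the centraliser in `Q` of an element of `Q` is not abelian. -/
theorem Hub.exists_noncommuting_pair [Finite G] (h : Hub Q z) (hQ : 32 ≤ Nat.card ↥Q) (hy : y ∈ Q)
    (hy2 : y * y = 1) :
    ∃ p₁ ∈ Q, ∃ p₂ ∈ Q, Commute p₁ y ∧ Commute p₂ y ∧ ¬ Commute p₁ p₂ := by
  by_contra hno
  push Not at hno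
  have hzy : Commute z y := (h.central y hy).symm
  have h4 : ∀ x ∈ Q, Commute x y → x = 1 ∨ x = z ∨ x = y ∨ x = z * y := fun x hx hxy =>
    mem_four h.sq hy2 hzy (h.centralizer_of_self hy hx fun p hp hpy => hno x hx p hp hxy hpy)
  classical
  have hsub : ∃ q0 : G, ∀ x ∈ Q, x ∈ ({1, z, y, z * y} : Finset G) ∪
      ({1, z, y, z * y} : Finset G).image (q0 * ·) := by
    by_cases hall : ∀ x ∈ Q, Commute x y
    · exact ⟨1, fun x hx => Finset.mem_union_left _ (by simpa using h4 x hx (hall x hx))⟩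
    push Not at hall
    obtain ⟨q0, hq0, hq0y⟩ := hall
    refine ⟨q0, fun x hx => ?_⟩
    by_cases hxy : Commute x y
    · exact Finset.mem_union_left _ (by simpa using h4 x hx hxy)
    refine Finset.mem_union_right _ (Finset.mem_image.mpr ⟨q0⁻¹ * x, ?_, mul_inv_cancel_left q0 x⟩)
    have e1 := (h.comm q0 hq0 y hy).resolve_left fun e => hq0y (mul_inv_eq_iff_eq_mul.mp e)
    have e2 := (h.comm x hx y hy).resolve_left fun e => hxy (mul_inv_eq_iff_eq_mul.mp e)
    have hc : Commute (q0⁻¹ * x) y := by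
      refine mul_inv_eq_iff_eq_mul.mp ?_
      calc q0⁻¹ * x * y * (q0⁻¹ * x)⁻¹ = q0⁻¹ * (x * y * x⁻¹) * q0 := by group
        _ = q0⁻¹ * (q0 * y * q0⁻¹) * q0 := by rw [e1, e2]
        _ = y := by group
    simpa using h4 _ (mul_mem (inv_mem hq0) hx) hc
  obtain ⟨q0, hsub⟩ := hsub
  set T := ({1, z, y, z * y} : Finset G)
  have hle : Nat.card ↥Q ≤ Nat.card ↥(T ∪ T.image (q0 * ·)) :=
    Nat.card_le_card_of_injective (fun x : Q => ⟨(x : G), hsub x x.2⟩)
      fun a b e => Subtype.ext (congrArg (fun u : ↥(T ∪ T.image (q0 * ·)) => (u : G)) e)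
  rw [Nat.card_eq_fintype_card (α := ↥(T ∪ T.image (q0 * ·))), Fintype.card_coe] at hle
  have := Finset.card_union_le T (T.image (q0 * ·))
  have := Finset.card_image_le (s := T) (f := (q0 * ·))
  have : T.card ≤ 4 := Finset.card_le_four
  omega

/-- An element of `C_Q(A)` outside `⟨z⟩` does not centralise `C_Q(A)`. -/
theorem Hub.exists_mem_centralizer_not_commute [Finite G] (h : Hub Q z) (hQ2 : IsPGroup 2 ↥Q)
    {A : Subgroup G} (hA : A ≤ centralizer ({z} : Set G)) (hodd : Odd (Nat.card ↥A)) {x : G}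
    (hx : x ∈ Q) (hxA : ∀ a ∈ A, Commute a x) (h1 : x ≠ 1) (h2 : x ≠ z) :
    ∃ r ∈ Q, (∀ a ∈ A, Commute a r) ∧ ¬ Commute x r := by
  by_contra hno
  push Not at hno
  have hAN : A ≤ normalizer (Q : Set G) := fun a ha => mem_normalizer_iff.mpr fun q => by
    have hc : Commute a z := mem_centralizer_singleton_iff.mp (hA ha)
    refine ⟨h.normalizes a hc q, fun hq => ?_⟩
    have := h.normalizes a⁻¹ hc.inv_left _ hq
    simpa [mul_assoc] using this
  have hcop : (Nat.card A).Coprime (Nat.card Q) := by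
    have : Fact (Nat.Prime 2) := ⟨Nat.prime_two⟩
    obtain ⟨n, hn⟩ := hQ2.exists_card_eq
    rw [hn]
    exact Nat.Coprime.pow_right n hodd.coprime_two_right
  have : Fact (Nat.Prime 2) := ⟨Nat.prime_two⟩
  have : Group.IsNilpotent ↥Q := hQ2.isNilpotent
  have hQsol : Group.IsSolvable ↥Q := inferInstance
  have hcom : ⁅Q, A⁆ ≤ centralizer ({x} : Set G) := by
    rw [commutator_le]
    intro q hq a ha
    rw [commutatorElement_def, mem_centralizer_singleton_iff]
    have hqq : a * q⁻¹ * a⁻¹ ∈ Q :=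
      h.normalizes a (mem_centralizer_singleton_iff.mp (hA ha)) _ (inv_mem hq)
    have hax : a * x * a⁻¹ = x := by rw [(hxA a ha).eq, mul_inv_cancel_right]
    have haz : a * z * a⁻¹ = z := by
      rw [mem_centralizer_singleton_iff.mp (hA ha), mul_inv_cancel_right]
    have key : x * (q * a * q⁻¹ * a⁻¹) * x⁻¹ = q * a * q⁻¹ * a⁻¹ := by
      have e0 : x * (q * a * q⁻¹ * a⁻¹) * x⁻¹
          = (x * q * x⁻¹) * (a * (x * q * x⁻¹)⁻¹ * a⁻¹) := by
        calc _ = (x * q * x⁻¹) * (x * (a * q⁻¹ * a⁻¹) * x⁻¹) := by group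
          _ = (x * q * x⁻¹) * ((a * x * a⁻¹) * (a * q⁻¹ * a⁻¹) * (a * x * a⁻¹)⁻¹) := by rw [hax]
          _ = _ := by group
      rcases h.comm x hx q hq with e | e <;> rw [e0, e]
      · group
      · calc q * z * (a * (q * z)⁻¹ * a⁻¹) = q * z * (a * z * a⁻¹)⁻¹ * (a * q⁻¹ * a⁻¹) := by group
          _ = q * a * q⁻¹ * a⁻¹ := by rw [haz]; group
    exact (mul_inv_eq_iff_eq_mul.mp key).symm
  refine (h.self x (fun q hq => ?_)).elim h1 h2
  obtain ⟨c, hc, m, hm, rfl⟩ :=
    Coprime.exists_centralizer_mul_commutator hAN hcop (Or.inr hQsol) hq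
  exact (hno c hc.1 fun a ha => mem_centralizer_iff.mp hc.2 a ha).mul_right
    (mem_centralizer_singleton_iff.mp (hcom hm)).symm

/-- An odd order subgroup of `C(z)` normalised by a subgroup `R ≤ Q` is centralised by it. -/
theorem Hub.commute_of_odd_normalized [Finite G] (h : Hub Q z) (hQ2 : IsPGroup 2 ↥Q)
    {K R : Subgroup G} (hR : R ≤ Q) (hK : Odd (Nat.card ↥K))
    (hRK : R ≤ normalizer (K : Set G)) {k : G} (hk : k ∈ K) (hkz : Commute k z) :
    ∀ r ∈ R, Commute k r := by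
  intro r hr
  have hmem : k * r * k⁻¹ * r⁻¹ ∈ K ⊓ Q := by
    refine Subgroup.mem_inf.mpr ⟨?_, mul_mem (h.normalizes k hkz r (hR hr)) (inv_mem (hR hr))⟩
    rw [show k * r * k⁻¹ * r⁻¹ = k * (r * k⁻¹ * r⁻¹) by group]
    exact mul_mem hk ((mem_normalizer_iff.mp (hRK hr) _).mp (inv_mem hk))
  have hd : K ⊓ Q = ⊥ := by
    have : Fact (Nat.Prime 2) := ⟨Nat.prime_two⟩
    obtain ⟨n, hn⟩ := hQ2.exists_card_eq
    refine (Subgroup.disjoint_of_coprime_natCard ?_).eq_bot
    rw [hn]
    exact Nat.Coprime.pow_right n hK.coprime_two_right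
  rw [hd, mem_bot, mul_inv_eq_one, mul_inv_eq_iff_eq_mul] at hmem
  exact hmem

end Cfsg.Agent.LargeExtraspecial
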