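import Cfsg.Agent.Lib.LargeExtraspecial.SmithTransfer

/-!
# The two main transfer lemmas

* `Hub.hom_eq_one_of_small`: a homomorphism of `C(z)` to a group of order at most two that kills
  involutions (and elements squaring to conjugates of `z` in `E ∖ z`) is trivial.
* `Hub.hom_eq_one_of_wc`: the same for every homomorphism if `z` is weakly closed in `E`.
* `…_of_transfer`: the same, assuming only that the transfer of the homomorphism is trivial.
-/

set_option autoImplicit false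

namespace Cfsg.Agent.LargeExtraspecial

open Subgroup

variable {G : Type*} [Group G] {A : Type*} [CommGroup A] {E : Subgroup G} {z : G}

theorem atCoset_one {H : Subgroup G} (χ : ↥H →* A) (q : G ⧸ H) : atCoset χ q 1 = 1 := by
  rw [atCoset, mul_one, inv_mul_cancel, extOne_one]

theorem atCoset_inv {H : Subgroup G} (χ : ↥H →* A) {q : G ⧸ H} {p : G} (hp : p • q = q) :
    atCoset χ q p⁻¹ * atCoset χ q p = 1 := by
  rw [← atCoset_mul χ (inv_smul_eq_iff.mpr hp.symm) hp, inv_mul_cancel, atCoset_one]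

theorem orderOf_out_conj {H : Subgroup G} (q : G ⧸ H) (p : G) :
    orderOf (q.out⁻¹ * p * q.out) = orderOf p := by
  simpa using MulEquiv.orderOf_eq (MulAut.conj q.out⁻¹) p

/-- An element with nontrivial value of least order has order a power of 2. -/
theorem exists_min_order [Finite G] {H : Subgroup G} (χ : ↥H →* A) (hsq : ∀ a, χ a * χ a = 1)
    (hχ : ∃ a, χ a ≠ 1) :
    ∃ t : ↥H, χ t ≠ 1 ∧ (∀ a : ↥H, orderOf (a : G) < orderOf (t : G) → χ a = 1) ∧
      ∃ m, orderOf (t : G) = 2 ^ m := by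
  classical
  have hex : ∃ n, ∃ a : ↥H, χ a ≠ 1 ∧ orderOf (a : G) = n :=
    let ⟨a, ha⟩ := hχ; ⟨_, a, ha, rfl⟩
  obtain ⟨t, ht, htn⟩ := Nat.find_spec hex
  have hmin : ∀ a : ↥H, orderOf (a : G) < orderOf (t : G) → χ a = 1 := fun a ha => by
    by_contra hne
    exact Nat.find_min hex (htn ▸ ha) ⟨a, hne, rfl⟩
  refine ⟨t, ht, hmin, ?_⟩
  obtain ⟨m, r, hr, hmr⟩ := Nat.exists_eq_two_pow_mul_odd (orderOf_pos (t : G)).ne'
  refine ⟨m, ?_⟩
  rcases hr with ⟨k, rfl⟩
  rcases Nat.eq_zero_or_pos k with rfl | hk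
  · simpa using hmr
  exfalso
  apply ht
  have hpow : χ (t ^ (2 * k + 1)) = χ t := by
    rw [map_pow, pow_succ, pow_mul, pow_two, hsq, one_pow, one_mul]
  rw [← hpow]
  refine hmin _ ?_
  rw [SubgroupClass.coe_pow, orderOf_pow, hmr,
    Nat.gcd_eq_right (dvd_mul_left _ _), Nat.mul_div_cancel _ (by omega)]
  exact lt_mul_of_one_lt_right (by positivity) (by omega)

/-- Smith: homomorphisms of `C(z)` with at most two values and trivial transfer that kill
involutions. -/
theorem Hub.hom_eq_one_of_small_of_transfer [Finite G] (h : Hub E z)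
    (hE : E ≤ centralizer ({z} : Set G)) (hcard : 32 ≤ Nat.card ↥E)
    (χ : ↥(centralizer ({z} : Set G)) →* A) (hT : ∀ g, MonoidHom.transfer χ g = 1)
    (hsq : ∀ a, χ a * χ a = 1) (htwo : ∀ a b, χ a ≠ 1 → χ b ≠ 1 → χ a = χ b)
    (hinv : ∀ a : ↥(centralizer ({z} : Set G)), orderOf (a : G) ≤ 2 → χ a = 1)
    (hone : ∀ a : ↥(centralizer ({z} : Set G)), (a : G) * a ∈ E → (a : G) * a ≠ z →
      (∃ g : G, g * z * g⁻¹ = (a : G) * a) → χ a = 1)
    (a : ↥(centralizer ({z} : Set G))) : χ a = 1 := by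
  classical
  by_contra ha
  obtain ⟨t, htχ, hmin, m, hm⟩ := exists_min_order χ hsq ⟨a, ha⟩
  haveI : Fintype (G ⧸ centralizer ({z} : Set G)) := Fintype.ofFinite _
  refine Hub.moved_prod_ne_one (t := (t : G)) χ hT hsq t.2 htχ hmin h.sq ?_
  have htz : Commute (t : G) z := mem_centralizer_singleton_iff.mp t.2
  have hext : ∀ g ∈ centralizer ({z} : Set G), orderOf g < orderOf (t : G) → extOne χ g = 1 :=
    fun g hg hlt => by rw [extOne_of_mem χ hg]; exact hmin ⟨g, hg⟩ hlt
  have hsqA : ∀ q : G ⧸ centralizer ({z} : Set G), ∀ p : G, p • q = q →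
      atCoset χ q p * atCoset χ q p = 1 := fun q p hp => by
    rw [atCoset, extOne_of_mem χ ((smul_eq_iff_out p q).mp hp)]; exact hsq _
  have hsmall : ∀ q : G ⧸ centralizer ({z} : Set G), ∀ p : G, p • q = q → orderOf p ≤ 2 →
      atCoset χ q p = 1 := fun q p hp ho => by
    rw [atCoset, extOne_of_mem χ ((smul_eq_iff_out p q).mp hp)]
    refine hinv _ ?_
    show orderOf (q.out⁻¹ * p * q.out) ≤ 2
    rwa [orderOf_out_conj]
  have hz2 : orderOf z ≤ 2 := orderOf_le_of_pow_eq_one (by norm_num) (by rw [pow_two, h.sq])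
  -- the good elements
  let P : G ⧸ centralizer ({z} : Set G) → G → Prop := fun q s =>
    s ∈ E ∧ s ∉ fixE E z q ∧ (t : G) * s * (t : G)⁻¹ * s⁻¹ ∈ fixE E z q ∧
      atCoset χ q ((t : G) * s * (t : G)⁻¹ * s⁻¹) = 1
  have hexP : ∀ q, Moved z (t : G) q → ∃ s, P q s := by
    intro q hq
    obtain ⟨ht', hz', hq1⟩ := hq
    set ω := q.out * z * q.out⁻¹ with hω
    have hω2 : ω * ω = 1 := by
      rw [hω, show q.out * z * q.out⁻¹ * (q.out * z * q.out⁻¹) = q.out * (z * z) * q.out⁻¹ by group,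
        h.sq]; group
    have hωz : Commute ω z := ((smul_iff_commute z q).mp hz').symm
    have hωne : ω ≠ z := fun e => hq1 (by
      rw [← QuotientGroup.out_eq' q, QuotientGroup.eq, mul_one, inv_mem_iff,
        mem_centralizer_singleton_iff]
      exact mul_inv_eq_iff_eq_mul.mp e)
    -- the fixing subgroup is proper
    obtain ⟨f, hf, hfC⟩ : ∃ f ∈ E, f ∉ fixE E z q := by
      by_contra hno
      push Not at hno
      rcases h.self ω (fun y hy => ((smul_iff_commute y q).mp (hno y hy).2).symm) with e | e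
      · exact h.ne_one (conj_eq_one_iff.mp e)
      · exact hωne e
    have hΛmul : ∀ p p', p ∈ fixE E z q → p' ∈ fixE E z q →
        atCoset χ q (p * p') = atCoset χ q p * atCoset χ q p' :=
      fun p p' hp hp' => atCoset_mul χ hp.2 hp'.2
    have hΛz : atCoset χ q z = 1 := hsmall q z hz' hz2
    have hΛconj : ∀ e ∈ E, ∀ p ∈ fixE E z q, atCoset χ q (e * p * e⁻¹) = atCoset χ q p := by
      intro e he p hp
      rcases h.comm e he p hp.1 with r | r <;> rw [r]
      rw [atCoset_mul χ hp.2 hz', hΛz, mul_one]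
    by_cases hS : ∀ e ∈ E, (t : G) * e * (t : G)⁻¹ * e⁻¹ ∈ fixE E z q
    · by_cases hcov : ∀ y ∈ E, y ∈ fixE E z q ∨ f⁻¹ * y ∈ fixE E z q
      · -- `ω` is in `E`
        have hωE : ω ∈ E := h.mem_of_two_cosets hω2 hωz hf fun y hy => (hcov y hy).imp
          (fun r => (smul_iff_commute y q).mp r.2) (fun r => (smul_iff_commute _ q).mp r.2)
        refine ⟨f, hf, hfC, hS f hf, ?_⟩
        set d := (t : G) * f * (t : G)⁻¹ * f⁻¹
        have hd : d ∈ fixE E z q := hS f hf
        rcases h.sq_cases d hd.1 with r | r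
        · exact hsmall q d hd.2 (orderOf_le_of_pow_eq_one (by norm_num) (by rw [pow_two, r]))
        rw [atCoset, extOne_of_mem χ ((smul_eq_iff_out d q).mp hd.2)]
        have e2 : q.out⁻¹ * d * q.out * (q.out⁻¹ * d * q.out) = q.out⁻¹ * z * q.out := by
          calc _ = q.out⁻¹ * (d * d) * q.out := by group
            _ = _ := by rw [r]
        have hzc : z ∈ E.map (MulAut.conj q.out).toMonoidHom :=
          h.self_mem_conj q.out hωE hωne
            (h.exists_noncommuting_pair hcard hωE hω2)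
        refine hone _ ?_ ?_ ⟨q.out⁻¹, ?_⟩
        · show q.out⁻¹ * d * q.out * (q.out⁻¹ * d * q.out) ∈ E
          rw [e2]; exact mem_conj_iff.mp hzc
        · show q.out⁻¹ * d * q.out * (q.out⁻¹ * d * q.out) ≠ z
          rw [e2]
          intro e
          apply hωne
          calc ω = q.out * (q.out⁻¹ * z * q.out) * q.out⁻¹ :=
                (congrArg (fun w => q.out * w * q.out⁻¹) e).symm
            _ = z := by group
        · show q.out⁻¹ * z * q.out⁻¹⁻¹ = q.out⁻¹ * d * q.out * (q.out⁻¹ * d * q.out)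
          rw [e2, inv_inv]
      push Not at hcov
      obtain ⟨g, hg, hgC, hfgC⟩ := hcov
      set d₁ := (t : G) * f * (t : G)⁻¹ * f⁻¹ with hd₁
      set d₂ := (t : G) * g * (t : G)⁻¹ * g⁻¹ with hd₂
      by_cases u1 : atCoset χ q d₁ = 1
      · exact ⟨f, hf, hfC, hS f hf, u1⟩
      by_cases u2 : atCoset χ q d₂ = 1
      · exact ⟨g, hg, hgC, hS g hg, u2⟩
      refine ⟨f * g, mul_mem hf hg, ?_, hS _ (mul_mem hf hg), ?_⟩
      · intro hfg
        apply hfgC
        have hff : (f * f)⁻¹ ∈ fixE E z q := by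
          refine inv_mem ?_
          rcases h.sq_cases f hf with r | r <;> rw [r]
          exacts [one_mem _, ⟨h.mem, hz'⟩]
        simpa [mul_assoc] using mul_mem hff hfg
      · rw [show (t : G) * (f * g) * (t : G)⁻¹ * (f * g)⁻¹ = d₁ * (f * d₂ * f⁻¹) by
          rw [hd₁, hd₂]; group, hΛmul _ _ (hS f hf)
          (h.conj_mem_fixE ⟨ht', hz', hq1⟩ hf (hS g hg)), hΛconj f hf _ (hS g hg)]
        have hw : ∀ p, p ∈ fixE E z q → ∃ b, atCoset χ q p = χ b := fun p hp =>
          ⟨⟨_, (smul_eq_iff_out p q).mp hp.2⟩, extOne_of_mem χ _⟩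
        obtain ⟨b₁, hb₁⟩ := hw _ (hS f hf)
        obtain ⟨b₂, hb₂⟩ := hw _ (hS g hg)
        rw [hb₁] at u1 ⊢
        rw [hb₂] at u2 ⊢
        rw [htwo b₁ b₂ u1 u2]; exact hsq b₂
    push Not at hS
    obtain ⟨e, he, heS⟩ := hS
    have hm1 : 1 ≤ m := by
      rcases Nat.eq_zero_or_pos m with rfl | hp
      · rw [pow_zero, orderOf_eq_one_iff] at hm
        exact absurd (by rw [show t = 1 from Subtype.ext hm, map_one]) htχ
      · exact hp
    have hq' : Moved z (t : G) q := ⟨ht', hz', hq1⟩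
    obtain ⟨g, hg, hgS, htg⟩ := h.exists_move_into m (t := (t : G)) (by rw [← hm]; exact pow_orderOf_eq_one _)
      htz (moveS h (t := (t : G)) hq') ⟨h.mem, by
        rw [show (t : G) * z * (t : G)⁻¹ * z⁻¹ = 1 by rw [htz.eq]; group]; exact one_mem _⟩
      (fun p hp => ⟨h.normalizes _ htz p hp.1, by
        rw [show (t : G) * ((t : G) * p * (t : G)⁻¹) * (t : G)⁻¹ * ((t : G) * p * (t : G)⁻¹)⁻¹ =
          (t : G) * ((t : G) * p * (t : G)⁻¹ * p⁻¹) * (t : G)⁻¹ by group]
        exact h.tconj_mem_fixE htz hq' hp.2⟩) e he (fun c => heS c.2)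
    set s := (t : G) * g * (t : G)⁻¹ * g⁻¹ with hs
    have hsE : s ∈ E := mul_mem (h.normalizes _ htz g hg) (inv_mem hg)
    have hsC : s ∉ fixE E z q := fun c => hgS ⟨hg, c⟩
    refine ⟨s, hsE, hsC, htg.2, ?_⟩
    set u := (t : G) * (t : G)
    have hu : orderOf u < orderOf (t : G) := by
      rw [show u = (t : G) ^ 2 from (pow_two _).symm, hm]
      refine lt_of_le_of_lt (orderOf_le_of_pow_eq_one (n := 2 ^ (m - 1)) (by positivity) ?_) ?_
      · rw [← pow_mul, ← pow_succ', Nat.sub_add_cancel hm1, ← hm, pow_orderOf_eq_one]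
      · exact Nat.pow_lt_pow_right (by norm_num) (by omega)
    have huq : u • q = q := by rw [mul_smul, ht', ht']
    have hss : s * s ∈ fixE E z q := by
      rcases h.sq_cases s hsE with r | r <;> rw [r]
      exacts [one_mem _, ⟨h.mem, hz'⟩]
    have hug : u * g * u⁻¹ * g⁻¹ = ((t : G) * s * (t : G)⁻¹ * s⁻¹) * (s * s) := by
      rw [hs]; simp only [u]; group
    have hfgu : (g * u * g⁻¹) • q = q := by
      have h1 : (g * u * g⁻¹)⁻¹ = u⁻¹ * (u * g * u⁻¹ * g⁻¹) := by group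
      have h2 : (g * u * g⁻¹)⁻¹ • q = q := by
        rw [h1, mul_smul, hug, (mul_mem htg.2 hss).2, inv_smul_eq_iff, huq]
      exact (inv_smul_eq_iff.mp h2).symm
    have hΛu : atCoset χ q u = 1 :=
      hext _ ((smul_eq_iff_out u q).mp huq) (by rw [orderOf_out_conj]; exact hu)
    have hΛg : atCoset χ q (g * u * g⁻¹) = 1 := by
      refine hext _ ((smul_eq_iff_out _ q).mp hfgu) ?_
      rw [orderOf_out_conj, show orderOf (g * u * g⁻¹) = orderOf u by
        simpa using MulEquiv.orderOf_eq (MulAut.conj g) u]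
      exact hu
    have e1 : atCoset χ q (u * g * u⁻¹ * g⁻¹) = 1 := by
      have := atCoset_inv χ hfgu
      rw [hΛg, mul_one] at this
      rw [show u * g * u⁻¹ * g⁻¹ = u * (g * u * g⁻¹)⁻¹ by group,
        atCoset_mul χ huq (inv_smul_eq_iff.mpr hfgu.symm), hΛu, this, mul_one]
    have e2 : atCoset χ q (s * s) = 1 := by
      rcases h.sq_cases s hsE with r | r <;> rw [r]
      exacts [atCoset_one χ q, hΛz]
    rwa [hug, hΛmul _ _ htg.2 hss, e2, mul_one] at e1
  -- the pairing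
  have hPeq : ∀ q, Moved z (t : G) q → ∀ e ∈ E, (t : G) * e * (t : G)⁻¹ * e⁻¹ ∈ fixE E z q →
      P (e • q) = P q := by
    intro q hq e he hd
    obtain ⟨-, hfix, -, -⟩ := h.move hE htz hq he hd χ
    funext s
    simp only [P, hfix]
    refine propext (and_congr_right fun _ => and_congr_right fun _ => and_congr_right fun hs => ?_)
    have hc : e⁻¹ * ((t : G) * s * (t : G)⁻¹ * s⁻¹) * e ∈ fixE E z q := by
      simpa using h.conj_mem_fixE hq (inv_mem he) hs
    rw [atCoset_smul χ e hc.2]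
    rcases h.comm e⁻¹ (inv_mem he) _ hs.1 with r | r <;> rw [inv_inv] at r <;> rw [r]
    rw [atCoset_mul χ hs.2 hq.2.1, hsmall q z hq.2.1 hz2, mul_one]
  let σ : G ⧸ centralizer ({z} : Set G) → G := fun q => Classical.epsilon (P q)
  have hσ : ∀ q, Moved z (t : G) q → P q (σ q) := fun q hq => Classical.epsilon_spec (hexP q hq)
  refine Finset.prod_involution (fun q _ => σ q • q) ?_ ?_ ?_ ?_
  · intro q hq
    have hq' := (Finset.mem_filter.mp hq).2
    obtain ⟨hsE, -, hd, hΛ⟩ := hσ q hq'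
    obtain ⟨-, -, hd', hF⟩ := h.move hE htz hq' hsE hd χ
    rw [hF]
    have hconj : atCoset χ q ((σ q)⁻¹ * ((t : G) * σ q * (t : G)⁻¹ * (σ q)⁻¹) * σ q) = 1 := by
      rcases h.comm (σ q)⁻¹ (inv_mem hsE) _ hd.1 with r | r <;> rw [inv_inv] at r <;> rw [r]
      · exact hΛ
      · rw [atCoset_mul χ hd.2 hq'.2.1, hΛ, hsmall q z hq'.2.1 hz2, mul_one]
    rw [hconj, one_mul]
    exact hsqA q _ hq'.1
  · intro q hq _ e
    obtain ⟨hsE, hsC, -⟩ := hσ q (Finset.mem_filter.mp hq).2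
    exact hsC ⟨hsE, e⟩
  · intro q hq
    have hq' := (Finset.mem_filter.mp hq).2
    obtain ⟨hsE, -, hd, -⟩ := hσ q hq'
    exact Finset.mem_filter.mpr ⟨Finset.mem_univ _, (h.move hE htz hq' hsE hd χ).1⟩
  · intro q hq
    have hq' := (Finset.mem_filter.mp hq).2
    obtain ⟨hsE, -, hd, -⟩ := hσ q hq'
    show σ (σ q • q) • σ q • q = q
    rw [show σ (σ q • q) = σ q by simp only [σ]; rw [hPeq q hq' _ hsE hd], ← mul_smul]
    rcases h.sq_cases _ hsE with r | r <;> rw [r]
    exacts [one_smul _ q, hq'.2.1]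

/-- Smith: if `z` is weakly closed in `E` then a nontrivial homomorphism of `C(z)` killing `E`
with at most two values has nontrivial transfer. -/
theorem Hub.hom_eq_one_of_wc_of_transfer [Finite G] (h : Hub E z)
    (hE : E ≤ centralizer ({z} : Set G)) (hcard : 128 ≤ Nat.card ↥E)
    (wc : ∀ g : G, g * z * g⁻¹ ∈ E → g * z * g⁻¹ = z)
    (χ : ↥(centralizer ({z} : Set G)) →* A) (hkill : ∀ q ∈ E, extOne χ q = 1)
    (hT : ∀ g, MonoidHom.transfer χ g = 1) (hsq : ∀ a, χ a * χ a = 1)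
    (htwo : ∀ a b, χ a ≠ 1 → χ b ≠ 1 → χ a = χ b)
    (a : ↥(centralizer ({z} : Set G))) : χ a = 1 := by
  classical
  by_contra ha
  refine ha (h.hom_eq_one_of_small_of_transfer hE (by omega) χ hT hsq htwo ?_ ?_ a)
  swap
  · intro b hbE hbz ⟨g, hg⟩
    exact absurd (hg ▸ wc g (hg.symm ▸ hbE)) hbz
  intro u hu
  by_contra htχ
  have hu2 : (u : G) * u = 1 := by
    have h1 := pow_orderOf_eq_one (u : G)
    have hpos := orderOf_pos (u : G)
    interval_cases hh : orderOf (u : G)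
    · rw [pow_one] at h1; rw [h1, one_mul]
    · rwa [pow_two] at h1
  have hmin : ∀ b : ↥(centralizer ({z} : Set G)), orderOf (b : G) < orderOf (u : G) → χ b = 1 := by
    intro b hb
    have : orderOf (b : G) = 1 := by have := orderOf_pos (b : G); omega
    rw [show b = 1 from Subtype.ext (orderOf_eq_one_iff.mp this), map_one]
  haveI : Fintype (G ⧸ centralizer ({z} : Set G)) := Fintype.ofFinite _
  refine Hub.moved_prod_ne_one (t := (u : G)) χ hT hsq u.2 htχ hmin h.sq ?_
  have huz : Commute (u : G) z := mem_centralizer_singleton_iff.mp u.2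
  have hui : (u : G)⁻¹ = u := inv_eq_of_mul_eq_one_right hu2
  have hsqA : ∀ q : G ⧸ centralizer ({z} : Set G), ∀ p : G, p • q = q →
      atCoset χ q p * atCoset χ q p = 1 := fun q p hp => by
    rw [atCoset, extOne_of_mem χ ((smul_eq_iff_out p q).mp hp)]; exact hsq _
  -- the pairs
  let P2 : Subgroup G → G × G → Prop := fun C ab =>
    ab.1 ∈ E ∧ ab.2 ∈ E ∧ ab.1 ∉ C ∧ ab.2 ∉ C ∧ ab.1⁻¹ * ab.2 ∉ C ∧
      (u : G) * ab.1 * (u : G)⁻¹ * ab.1⁻¹ ∈ C ∧ (u : G) * ab.2 * (u : G)⁻¹ * ab.2⁻¹ ∈ C ∧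
      Commute ((u : G) * ab.1 * (u : G)⁻¹ * ab.1⁻¹) ab.2
  set Ω := Finset.univ.filter (fun q : G ⧸ centralizer ({z} : Set G) => Moved z (u : G) q)
  rw [← Finset.prod_filter_mul_prod_filter_not Ω (fun q => ∃ ab, P2 (fixE E z q) ab)]
  have hbig : ∏ q ∈ Ω.filter (fun q => ∃ ab, P2 (fixE E z q) ab), atCoset χ q (u : G) = 1 := by
    set Ω2 := Ω.filter (fun q => ∃ ab, P2 (fixE E z q) ab) with hΩ2
    let τ : G ⧸ centralizer ({z} : Set G) → G × G :=
      fun q => Classical.epsilon (P2 (fixE E z q))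
    let K : G ⧸ centralizer ({z} : Set G) → Finset (G ⧸ centralizer ({z} : Set G)) := fun q =>
      {q, (τ q).1 • q, (τ q).2 • q, (τ q).1 • (τ q).2 • q}
    have hmemΩ : ∀ q ∈ Ω2, Moved z (u : G) q ∧ P2 (fixE E z q) (τ q) := fun q hq =>
      ⟨(Finset.mem_filter.mp (Finset.mem_filter.mp hq).1).2,
        Classical.epsilon_spec (Finset.mem_filter.mp hq).2⟩
    have hK : ∀ q ∈ Ω2, ∀ q' ∈ K q, q' ∈ Ω2 ∧ K q' = K q := by
      intro q hq q' hq'
      obtain ⟨hM, haE, hbE, -, -, -, hda, hdb, -⟩ := hmemΩ q hq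
      set a := (τ q).1
      set b := (τ q).2
      obtain ⟨Ma, Ca, -, -⟩ := h.move hE huz hM haE hda χ
      obtain ⟨Mb, Cb, -, -⟩ := h.move hE huz hM hbE hdb χ
      obtain ⟨Mab, Cab, -, -⟩ := h.move hE huz Mb haE (Cb ▸ hda) χ
      rw [Cb] at Cab
      have hzfix : ∀ r : G ⧸ centralizer ({z} : Set G), Moved z (u : G) r →
          ∀ w ∈ E, (w * w) • r = r := fun r hr w hw => by
        rcases h.sq_cases w hw with e | e <;> rw [e]
        exacts [one_smul _ r, hr.2.1]
      have hswap : b • a • q = a • b • q := by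
        rcases h.comm b hbE a haE with e | e
        · rw [← mul_smul, mul_inv_eq_iff_eq_mul.mp e, mul_smul]
        · rw [← mul_smul, mul_inv_eq_iff_eq_mul.mp e, mul_smul, mul_smul, Mb.2.1]
      have haa : a • a • q = q := by rw [← mul_smul]; exact hzfix q hM a haE
      have hbb : b • b • q = q := by rw [← mul_smul]; exact hzfix q hM b hbE
      have haab : a • a • b • q = b • q := by rw [← mul_smul]; exact hzfix _ Mb a haE
      have hbba : b • b • a • q = a • q := by rw [← mul_smul]; exact hzfix _ Ma b hbE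
      have hτ : ∀ r, fixE E z r = fixE E z q → τ r = τ q := fun r hr => by simp only [τ, hr]
      have hKr : ∀ r, fixE E z r = fixE E z q → K r = {r, a • r, b • r, a • b • r} := fun r hr => by
        show ({r, (τ r).1 • r, (τ r).2 • r, (τ r).1 • (τ r).2 • r} : Finset _) = _
        rw [hτ r hr]
      have hin : ∀ r, Moved z (u : G) r → fixE E z r = fixE E z q → r ∈ Ω2 := fun r hr hr' =>
        Finset.mem_filter.mpr ⟨Finset.mem_filter.mpr ⟨Finset.mem_univ _, hr⟩,
          hr' ▸ (Finset.mem_filter.mp hq).2⟩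
      have hba : b • a • b • q = a • q := by rw [← hswap, hbba]
      simp only [K, Finset.mem_insert, Finset.mem_singleton] at hq'
      rcases hq' with rfl | rfl | rfl | rfl
      · exact ⟨hq, rfl⟩
      · refine ⟨hin _ Ma Ca, ?_⟩
        rw [hKr _ Ca, hKr q rfl, haa, hswap, haab]
        ext r; simp only [Finset.mem_insert, Finset.mem_singleton]; tauto
      · refine ⟨hin _ Mb Cb, ?_⟩
        rw [hKr _ Cb, hKr q rfl, hbb]
        ext r; simp only [Finset.mem_insert, Finset.mem_singleton]; tauto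
      · refine ⟨hin _ Mab Cab, ?_⟩
        rw [hKr _ Cab, hKr q rfl, hba, haab, haa]
        ext r; simp only [Finset.mem_insert, Finset.mem_singleton]; tauto
    rw [← Finset.prod_fiberwise_of_maps_to (g := K) (t := Ω2.image K)
      (fun q hq => Finset.mem_image_of_mem K hq)]
    refine Finset.prod_eq_one fun k hk => ?_
    obtain ⟨q, hq, rfl⟩ := Finset.mem_image.mp hk
    have hfib : Ω2.filter (fun r => K r = K q) = K q := by
      ext r
      refine ⟨fun hr => ?_, fun hr => Finset.mem_filter.mpr (hK q hq r hr)⟩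
      rw [← (Finset.mem_filter.mp hr).2]
      simp [K]
    rw [hfib]
    obtain ⟨hM, haE, hbE, haC, hbC, habC, hda, hdb, hcomm⟩ := hmemΩ q hq
    simp only [K]
    set a := (τ q).1
    set b := (τ q).2
    obtain ⟨Ma, Ca, hA', Fa⟩ := h.move hE huz hM haE hda χ
    obtain ⟨Mb, Cb, hB', Fb⟩ := h.move hE huz hM hbE hdb χ
    obtain ⟨Mab, -, hAB', Fab⟩ := h.move hE huz Mb haE (Cb ▸ hda) χ
    set da := a⁻¹ * ((u : G) * a * (u : G)⁻¹ * a⁻¹) * a with hdaDef
    have hcomm' : Commute da b := by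
      rw [hdaDef]
      rcases h.comm a⁻¹ (inv_mem haE) _ hda.1 with e | e <;> rw [inv_inv] at e <;> rw [e]
      exacts [hcomm, hcomm.mul_left (h.central b hbE).symm]
    have hbda : b⁻¹ * da * b = da := by rw [mul_assoc, hcomm'.eq, inv_mul_cancel_left]
    rw [atCoset_smul χ b (by rw [hbda]; exact hA'.2), hbda, Fb] at Fab
    have hne1 : ∀ w ∈ E, w ∉ fixE E z q → w • q ≠ q := fun w hw hwC e => hwC ⟨hw, e⟩
    have hab : a • b • q ≠ q := fun e => habC ⟨E.mul_mem (E.inv_mem haE) hbE, by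
      show (a⁻¹ * b) • q = q
      have haa : a • a • q = q := by
        rw [← mul_smul]
        rcases h.sq_cases a haE with r | r <;> rw [r]
        exacts [one_smul _ q, hM.2.1]
      rw [mul_smul, inv_smul_eq_iff]
      exact smul_left_cancel a (e.trans haa.symm)⟩
    have d01 : q ≠ a • q := (hne1 a haE haC).symm
    have d02 : q ≠ b • q := (hne1 b hbE hbC).symm
    have d12 : a • q ≠ b • q := fun e => habC ⟨E.mul_mem (E.inv_mem haE) hbE, by
      show (a⁻¹ * b) • q = q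
      rw [mul_smul, ← e, inv_smul_smul]⟩
    have d13 : a • q ≠ a • b • q := fun e => d02 (smul_left_cancel a e)
    have d23 : b • q ≠ a • b • q := fun e => hne1 a haE haC (by
      have h1 : (a : G) • b • q = b • q := e.symm
      have h2 : (b⁻¹ * a * b) • q = q := by rw [mul_smul, mul_smul, h1, inv_smul_smul]
      rcases h.comm b⁻¹ (inv_mem hbE) a haE with r | r <;> rw [inv_inv] at r <;> rw [r] at h2
      · exact h2
      · rwa [mul_smul, hM.2.1] at h2)
    rw [Finset.prod_insert (by simp [d01, d02, hab.symm]), Finset.prod_insert (by simp [d12, d13]),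
      Finset.prod_insert (by simp [d23]), Finset.prod_singleton, Fa, Fb, Fab]
    have sq1 := hsqA q _ hM.1
    have sq2 := hsqA q _ hA'.2
    have sq3 := hsqA q _ hB'.2
    calc _ = (atCoset χ q (u : G) * atCoset χ q (u : G)) *
          (atCoset χ q (u : G) * atCoset χ q (u : G)) *
          (atCoset χ q da * atCoset χ q da) *
          (atCoset χ q (b⁻¹ * ((u : G) * b * (u : G)⁻¹ * b⁻¹) * b) *
            atCoset χ q (b⁻¹ * ((u : G) * b * (u : G)⁻¹ * b⁻¹) * b)) := by ac_rfl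
      _ = 1 := by rw [sq1, sq2, sq3]; simp
  rw [hbig, one_mul]
  set Ω1 := Ω.filter (fun q => ¬ ∃ ab, P2 (fixE E z q) ab)
  -- four cosets only
  have hfour : ∀ q, Moved z (u : G) q → (¬ ∃ ab, P2 (fixE E z q) ab) →
      ∀ p ∈ fixE E z q, atCoset χ q p = 1 := by
    intro q hq hno p hp
    set C := fixE E z q with hC
    have hzC : z ∈ C := h.z_mem_fixE hq
    have hωz : Commute (q.out * z * q.out⁻¹) z := ((smul_iff_commute z q).mp hq.2.1).symm
    have hωne : q.out * z * q.out⁻¹ ≠ z := fun e => hq.2.2 (by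
      rw [← QuotientGroup.out_eq' q, QuotientGroup.eq, mul_one, inv_mem_iff,
        mem_centralizer_singleton_iff]
      exact mul_inv_eq_iff_eq_mul.mp e)
    have hCeq : C = E ⊓ centralizer ({q.out * z * q.out⁻¹} : Set G) := by
      ext r
      rw [hC, mem_fixE, Subgroup.mem_inf, mem_centralizer_singleton_iff, smul_iff_commute]
      rfl
    have hsq' : ∀ w ∈ E, w * w ∈ C := fun w hw => by
      rcases h.sq_cases w hw with e | e <;> rw [e]
      exacts [one_mem _, hzC]
    -- images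
    have himgE : ∀ f ∈ E, (u : G) * f * (u : G)⁻¹ * f⁻¹ ∈ E := fun f hf =>
      mul_mem (h.normalizes _ huz f hf) (inv_mem hf)
    have himg : ∀ f ∈ E, ∀ w : G, w = (u : G) * f * (u : G)⁻¹ * f⁻¹ →
        (u : G) * w * (u : G)⁻¹ * w⁻¹ = (w * w)⁻¹ := fun f _ w hw => by
      rw [hw]; simp [mul_assoc, hui, ← mul_assoc (u : G) u, hu2]
    have hcen : ∀ w ∈ E, ∀ v ∈ E, Commute ((w * w)⁻¹) v := fun w hw v hv => by
      rcases h.sq_cases w hw with e | e <;> rw [e]
      · rw [inv_one]; exact Commute.one_left v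
      · rw [h.z_inv]; exact (h.central v hv).symm
    let S := moveS h (t := (u : G)) hq
    have hSm : ∀ w, w ∈ S ↔ w ∈ E ∧ (u : G) * w * (u : G)⁻¹ * w⁻¹ ∈ C := fun w => Iff.rfl
    have hbound : Nat.card ↥E ≤ 4 * Nat.card ↥C := by
      by_cases hA1 : ∀ f ∈ E, (u : G) * f * (u : G)⁻¹ * f⁻¹ ∈ C
      · by_cases htriv : ∀ y ∈ E, y ∈ C
        · have := Subgroup.card_le_of_le (K := C) htriv; omega
        push Not at htriv
        obtain ⟨a, haE, haC⟩ := htriv
        obtain ⟨y, hy, hrep, hc⟩ := h.exists_rep le_rfl (a := (u : G) * a * (u : G)⁻¹ * a⁻¹)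
          (himgE a haE)
        refine hc.trans ?_
        have : Nat.card ↥(E ⊓ centralizer ({(u : G) * a * (u : G)⁻¹ * a⁻¹} : Set G) : Subgroup G)
            ≤ 2 * Nat.card ↥C := by
          refine card_le_two_mul (y := a) fun b hb => ?_
          by_contra hcon
          push Not at hcon
          exact hno ⟨(a, b), haE, hb.1, haC, hcon.1, hcon.2, hA1 a haE, hA1 b hb.1,
            (mem_centralizer_singleton_iff.mp hb.2).symm⟩
        omega
      push Not at hA1
      obtain ⟨f₁, hf₁, haC⟩ := hA1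
      set a := (u : G) * f₁ * (u : G)⁻¹ * f₁⁻¹ with ha
      have haE : a ∈ E := himgE f₁ hf₁
      have hda : (u : G) * a * (u : G)⁻¹ * a⁻¹ ∈ C := by
        rw [himg f₁ hf₁ a rfl]; exact inv_mem (hsq' a haE)
      have hsec : ∀ b ∈ E, (u : G) * b * (u : G)⁻¹ * b⁻¹ ∈ C → b ∈ C ∨ a⁻¹ * b ∈ C := by
        intro b hb hdb
        by_contra hcon
        push Not at hcon
        exact hno ⟨(a, b), haE, hb, haC, hcon.1, hcon.2, hda, hdb,
          by rw [himg f₁ hf₁ a rfl]; exact hcen a haE b hb⟩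
      have hES : Nat.card ↥E ≤ 2 * Nat.card ↥S := by
        refine card_le_two_mul (y := f₁) fun f hf => ?_
        by_cases hfC : (u : G) * f * (u : G)⁻¹ * f⁻¹ ∈ C
        · exact Or.inl ⟨hf, hfC⟩
        have h1 := hsec _ (himgE f hf) (by
          rw [himg f hf _ rfl]; exact inv_mem (hsq' _ (himgE f hf)))
        refine Or.inr ⟨mul_mem (inv_mem hf₁) hf, ?_⟩
        rw [show (u : G) * (f₁⁻¹ * f) * (u : G)⁻¹ * (f₁⁻¹ * f)⁻¹ =
          f₁⁻¹ * (a⁻¹ * ((u : G) * f * (u : G)⁻¹ * f⁻¹)) * f₁⁻¹⁻¹ by rw [ha]; group]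
        exact h.conj_mem_fixE hq (inv_mem hf₁) (h1.resolve_left hfC)
      have hSC : Nat.card ↥S ≤ 2 * Nat.card ↥C :=
        card_le_two_mul (y := a) fun b hb => hsec b ((hSm b).mp hb).1 ((hSm b).mp hb).2
      omega
    have F : FourPair E z q.out := ⟨h, hcard, wc, hωz, hωne, hCeq ▸ hbound⟩
    exact F.extOne_conj_eq_one hE χ hkill hp.1 ((smul_iff_commute p q).mp hp.2)
  let P : G ⧸ centralizer ({z} : Set G) → G → Prop := fun q s =>
    s ∈ E ∧ s ∉ fixE E z q ∧ (u : G) * s * (u : G)⁻¹ * s⁻¹ ∈ fixE E z q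
  let σ : G ⧸ centralizer ({z} : Set G) → G := fun q => Classical.epsilon (P q)
  have hσ : ∀ q, Moved z (u : G) q → P q (σ q) := by
    intro q hq
    refine Classical.epsilon_spec ?_
    obtain ⟨f, hf, hfC⟩ : ∃ f ∈ E, f ∉ fixE E z q := by
      by_contra hno
      push Not at hno
      rcases h.self (q.out * z * q.out⁻¹)
        (fun y hy => ((smul_iff_commute y q).mp (hno y hy).2).symm) with e | e
      · exact h.ne_one (conj_eq_one_iff.mp e)
      · refine hq.2.2 ?_
        rw [← QuotientGroup.out_eq' q, QuotientGroup.eq, mul_one, inv_mem_iff,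
          mem_centralizer_singleton_iff]
        exact mul_inv_eq_iff_eq_mul.mp e
    obtain ⟨g, hg, hgC, htg⟩ := h.exists_move_into 1 (t := (u : G))
      (by rw [pow_one, pow_two, hu2]) huz _ (h.z_mem_fixE hq)
      (fun p hp => h.tconj_mem_fixE huz hq hp) f hf hfC
    exact ⟨g, hg, hgC, htg⟩
  have hmem1 : ∀ q ∈ Ω1, Moved z (u : G) q ∧ ¬ ∃ ab, P2 (fixE E z q) ab := fun q hq =>
    ⟨(Finset.mem_filter.mp (Finset.mem_filter.mp hq).1).2, (Finset.mem_filter.mp hq).2⟩
  refine Finset.prod_involution (fun q _ => σ q • q) ?_ ?_ ?_ ?_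
  · intro q hq
    obtain ⟨hq', hno⟩ := hmem1 q hq
    obtain ⟨hsE, -, hd⟩ := hσ q hq'
    obtain ⟨-, -, hd', hF⟩ := h.move hE huz hq' hsE hd χ
    rw [hF, hfour q hq' hno _ hd', one_mul]
    exact hsqA q _ hq'.1
  · intro q hq _ e
    obtain ⟨hsE, hsC, -⟩ := hσ q (hmem1 q hq).1
    exact hsC ⟨hsE, e⟩
  · intro q hq
    obtain ⟨hq', hno⟩ := hmem1 q hq
    obtain ⟨hsE, -, hd⟩ := hσ q hq'
    obtain ⟨hM, hfix, -, -⟩ := h.move hE huz hq' hsE hd χ
    exact Finset.mem_filter.mpr ⟨Finset.mem_filter.mpr ⟨Finset.mem_univ _, hM⟩, hfix ▸ hno⟩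
  · intro q hq
    obtain ⟨hq', -⟩ := hmem1 q hq
    obtain ⟨hsE, -, hd⟩ := hσ q hq'
    obtain ⟨-, hfix, -, -⟩ := h.move hE huz hq' hsE hd χ
    show σ (σ q • q) • σ q • q = q
    rw [show σ (σ q • q) = σ q by simp only [σ, P, hfix], ← mul_smul]
    rcases h.sq_cases _ hsE with r | r <;> rw [r]
    exacts [one_smul _ q, hq'.2.1]

/-- Smith: homomorphisms of `C(z)` with at most two values that kill involutions. -/
theorem Hub.hom_eq_one_of_small [Finite G] (h : Hub E z) (hE : E ≤ centralizer ({z} : Set G))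
    (hcard : 32 ≤ Nat.card ↥E) (hres : Cfsg.pResidual 2 G = ⊤)
    (χ : ↥(centralizer ({z} : Set G)) →* A) (hA : IsPGroup 2 A) (hsq : ∀ a, χ a * χ a = 1)
    (htwo : ∀ a b, χ a ≠ 1 → χ b ≠ 1 → χ a = χ b)
    (hinv : ∀ a : ↥(centralizer ({z} : Set G)), orderOf (a : G) ≤ 2 → χ a = 1)
    (hone : ∀ a : ↥(centralizer ({z} : Set G)), (a : G) * a ∈ E → (a : G) * a ≠ z →
      (∃ g : G, g * z * g⁻¹ = (a : G) * a) → χ a = 1)
    (a : ↥(centralizer ({z} : Set G))) : χ a = 1 :=
  h.hom_eq_one_of_small_of_transfer hE hcard χ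
    (fun g => Transfer.pResidual_le_ker (MonoidHom.transfer χ) hA (hres ▸ Subgroup.mem_top g))
    hsq htwo hinv hone a

/-- Smith: if `z` is weakly closed in `E` then `C(z)` has no index 2 subgroup. -/
theorem Hub.hom_eq_one_of_wc [Finite G] (h : Hub E z) (hE : E ≤ centralizer ({z} : Set G))
    (hE2 : IsPGroup 2 ↥E) (hcard : 128 ≤ Nat.card ↥E) (hres : Cfsg.pResidual 2 G = ⊤)
    (wc : ∀ g : G, g * z * g⁻¹ ∈ E → g * z * g⁻¹ = z)
    (χ : ↥(centralizer ({z} : Set G)) →* A) (hA : IsPGroup 2 A) (hsq : ∀ a, χ a * χ a = 1)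
    (htwo : ∀ a b, χ a ≠ 1 → χ b ≠ 1 → χ a = χ b)
    (a : ↥(centralizer ({z} : Set G))) : χ a = 1 :=
  h.hom_eq_one_of_wc_of_transfer hE hcard wc χ
    (fun q hq => by rw [extOne_of_mem χ (hE hq)]; exact h.hom_eq_one hE hE2 (by omega) hres χ hA hq)
    (fun g => Transfer.pResidual_le_ker (MonoidHom.transfer χ) hA (hres ▸ Subgroup.mem_top g))
    hsq htwo a

end Cfsg.Agent.LargeExtraspecial
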