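import Cfsg.Agent.Lib.LargeExtraspecial.Pair

/-!
# The structure of `X = ⟨Q, Q^g⟩` for two large extraspecial conjugates containing each other's centre

* `Pair`: the hypothesis; `Pair.R`, `Pair.E`, `Pair.X`, `Pair.V`.
* `Pair.R_eq_inf_centralizer`, `Pair.exists_hom`, `Pair.normalizer_eq`, `Pair.center_R` and relatives.
-/

set_option autoImplicit false

namespace Cfsg.Agent.LargeExtraspecial

open scoped commutatorElement

variable {G : Type*} [Group G]

theorem mem_normalizer_of_conj {H : Subgroup G} {x : G} (h1 : ∀ w ∈ H, x * w * x⁻¹ ∈ H)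
    (h2 : ∀ w ∈ H, x⁻¹ * w * x ∈ H) : x ∈ Subgroup.normalizer (H : Set G) := by
  refine Subgroup.mem_normalizer_iff.mpr fun w => ⟨h1 w, fun h => ?_⟩
  have := h2 _ h
  rwa [show x⁻¹ * (x * w * x⁻¹) * x = w by group] at this

/-- If the generators commute modulo `E`, so does the generated subgroup. -/
theorem commutator_mem_of_closure {E : Subgroup G} {S : Set G}
    (hS : S ⊆ (Subgroup.normalizer (E : Set G) : Set G)) (hgen : ∀ a ∈ S, ∀ b ∈ S, ⁅a, b⁆ ∈ E)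
    {x y : G} (hx : x ∈ Subgroup.closure S) (hy : y ∈ Subgroup.closure S) : ⁅x, y⁆ ∈ E := by
  have key : ∀ T : Set G, (∀ a ∈ S, ∀ r ∈ T, ⁅a, r⁆ ∈ E) →
      ∀ x ∈ Subgroup.closure S, ∀ r ∈ T, ⁅x, r⁆ ∈ E := by
    intro T hT x hx
    suffices h : x ∈ Subgroup.normalizer (E : Set G) ∧ ∀ r ∈ T, ⁅x, r⁆ ∈ E from h.2
    induction hx using Subgroup.closure_induction with
    | mem a ha => exact ⟨hS ha, hT a ha⟩
    | one => exact ⟨one_mem _, fun r _ => by simp⟩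
    | mul a b _ _ ha hb =>
      refine ⟨mul_mem ha.1 hb.1, fun r hr => ?_⟩
      have e : ⁅a * b, r⁆ = a * ⁅b, r⁆ * a⁻¹ * ⁅a, r⁆ := by simp only [commutatorElement_def]; group
      rw [e]
      exact E.mul_mem ((Subgroup.mem_normalizer_iff.mp ha.1 _).mp (hb.2 r hr)) (ha.2 r hr)
    | inv a _ ha =>
      refine ⟨inv_mem ha.1, fun r hr => ?_⟩
      have e : ⁅a⁻¹, r⁆ = a⁻¹ * ⁅a, r⁆⁻¹ * a⁻¹⁻¹ := by simp only [commutatorElement_def]; group
      rw [e]
      exact (Subgroup.mem_normalizer_iff.mp (inv_mem ha.1) _).mp (E.inv_mem (ha.2 r hr))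
  refine key _ (fun a ha r hr => ?_) x hx y hy
  have h1 := E.inv_mem (key _ (fun b hb a' ha' => hgen b hb a' ha') r hr a ha)
  rwa [commutatorElement_inv] at h1

/-- Two large extraspecial subgroups, conjugate to one another, containing each other's centre. -/
structure Pair (Q Q' : Subgroup G) (z y : G) : Prop where
  h : Hub Q z
  h' : Hub Q' y
  hy : y ∈ Q
  hz : z ∈ Q'
  ne : y ≠ z
  tgt : ∀ a b : G, a * z * a⁻¹ = b * y * b⁻¹ →
    Q.map (MulAut.conj a).toMonoidHom = Q'.map (MulAut.conj b).toMonoidHom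

theorem Pair.of_conj [Finite G] {Q : Subgroup G} {z : G} (h : Hub Q z) (g : G)
    (hy : g * z * g⁻¹ ∈ Q) (hne : g * z * g⁻¹ ≠ z)
    (hP : ∃ p₁ ∈ Q, ∃ p₂ ∈ Q, Commute p₁ (g * z * g⁻¹) ∧ Commute p₂ (g * z * g⁻¹) ∧
      ¬ Commute p₁ p₂) :
    Pair Q (Q.map (MulAut.conj g).toMonoidHom) z (g * z * g⁻¹) := by
  refine ⟨h, h.conj g, hy, h.self_mem_conj g hy hne hP, hne, fun a b hab => ?_⟩
  have e : Q.map (MulAut.conj a).toMonoidHom = Q.map (MulAut.conj (b * g)).toMonoidHom :=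
    h.conj_eq (by rw [hab]; group)
  rw [e, Subgroup.map_map]
  congr 1
  ext x; simp [mul_assoc]

namespace Pair

variable {Q Q' : Subgroup G} {z y : G}

theorem symm (p : Pair Q Q' z y) : Pair Q' Q y z :=
  ⟨p.h', p.h, p.hz, p.hy, p.ne.symm, fun a b hab => (p.tgt b a hab.symm).symm⟩

theorem commute_zy (p : Pair Q Q' z y) : Commute z y := (p.h.central y p.hy).symm

theorem exists_out (p : Pair Q Q' z y) :
    ∃ a ∈ Q, ¬ Commute a y ∧ a * y * a⁻¹ = z * y ∧ a * z * a⁻¹ = z := by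
  obtain ⟨a, ha, hay⟩ := p.h.exists_not_commute p.h'.ne_one p.ne
  refine ⟨a, ha, fun e => hay e.symm, ?_, by rw [(p.h.central a ha).eq, mul_inv_cancel_right]⟩
  rw [(p.h.comm a ha y p.hy).resolve_left fun e => hay (mul_inv_eq_iff_eq_mul.mp e).symm,
    p.commute_zy.eq]

theorem conj_y (p : Pair Q Q' z y) {q : G} (hq : q ∈ Q) :
    q * y * q⁻¹ = y ∨ q * y * q⁻¹ = z * y := by
  rcases p.h.comm q hq y p.hy with e | e
  · exact Or.inl e
  · exact Or.inr (by rw [e, p.commute_zy.eq])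

variable (Q Q' : Subgroup G) (z y : G)

/-- `E = Q ∩ Q'`. -/
abbrev E : Subgroup G := Q ⊓ Q'
/-- The four-group `⟨z, y⟩`. -/
abbrev V : Subgroup G := Subgroup.closure ({z, y} : Set G)
/-- `C_{Q'}(z) C_Q(y)`. -/
abbrev R : Subgroup G :=
  (Q' ⊓ Subgroup.centralizer ({z} : Set G)) ⊔ (Q ⊓ Subgroup.centralizer ({y} : Set G))

variable {Q Q' z y}

theorem mem_V_iff (p : Pair Q Q' z y) {x : G} :
    x ∈ V z y ↔ x = 1 ∨ x = z ∨ x = y ∨ x = z * y := by
  refine ⟨mem_four p.h.sq p.h'.sq p.commute_zy, ?_⟩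
  have mz : z ∈ V z y := Subgroup.subset_closure (Set.mem_insert _ _)
  have my : y ∈ V z y := Subgroup.subset_closure (Set.mem_insert_of_mem _ rfl)
  rintro (rfl | rfl | rfl | rfl)
  exacts [one_mem _, mz, my, mul_mem mz my]

theorem V_comm : V z y = V y z := by rw [V, V, Set.pair_comm]

theorem E_comm : E Q Q' = E Q' Q := inf_comm ..

theorem R_comm : R Q Q' z y = R Q' Q y z := sup_comm ..

theorem V_le_E (p : Pair Q Q' z y) : V z y ≤ E Q Q' := by
  rw [Subgroup.closure_le]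
  rintro w (rfl | rfl)
  exacts [⟨p.h.mem, p.hz⟩, ⟨p.hy, p.h'.mem⟩]

theorem E_commute (p : Pair Q Q' z y) {e f : G} (he : e ∈ E Q Q') (hf : f ∈ E Q Q') :
    Commute e f := by
  rcases p.h.comm e he.1 f hf.1 with a | a
  · exact mul_inv_eq_iff_eq_mul.mp a
  rcases p.h'.comm e he.2 f hf.2 with b | b
  · exact mul_inv_eq_iff_eq_mul.mp b
  · exact absurd (mul_left_cancel (a.symm.trans b)) p.ne.symm

theorem E_sq (p : Pair Q Q' z y) {e : G} (he : e ∈ E Q Q') : e * e = 1 := by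
  rcases p.h.sq_cases e he.1 with a | a
  · exact a
  rcases p.h'.sq_cases e he.2 with b | b
  · exact b
  · exact absurd (a.symm.trans b) p.ne.symm

theorem isElementaryAbelian_E (p : Pair Q Q' z y) : Cfsg.IsElementaryAbelian 2 (E Q Q') :=
  ⟨⟨⟨fun a b => Subtype.ext (p.E_commute a.2 b.2)⟩⟩, fun e he => by rw [pow_two]; exact p.E_sq he⟩

theorem conj_Q_E (p : Pair Q Q' z y) {q : G} (hq : q ∈ Q) {e : G} (he : e ∈ E Q Q') :
    q * e * q⁻¹ ∈ E Q Q' := by
  rcases p.h.comm q hq e he.1 with a | a <;> rw [a]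
  exacts [he, mul_mem he ⟨p.h.mem, p.hz⟩]

theorem Q_le_normalizer_E (p : Pair Q Q' z y) : Q ≤ Subgroup.normalizer (E Q Q' : Set G) :=
  fun q hq => mem_normalizer_of_conj (fun _ he => p.conj_Q_E hq he)
    (fun e he => by simpa using p.conj_Q_E (Q.inv_mem hq) he)

theorem Q_le_normalizer_V (p : Pair Q Q' z y) : Q ≤ Subgroup.normalizer (V z y : Set G) := by
  have one : ∀ q ∈ Q, ∀ w ∈ V z y, q * w * q⁻¹ ∈ V z y := by
    intro q hq w hw
    have hle : V z y ≤ (V z y).comap (MulAut.conj q).toMonoidHom := by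
      rw [Subgroup.closure_le]
      rintro w (rfl | rfl)
      · show q * w * q⁻¹ ∈ V w y
        rw [(p.h.central q hq).eq, mul_inv_cancel_right]
        exact Subgroup.subset_closure (Set.mem_insert _ _)
      · show q * w * q⁻¹ ∈ V z w
        rcases p.conj_y hq with e | e <;> rw [e]
        · exact Subgroup.subset_closure (Set.mem_insert_of_mem _ rfl)
        · exact (p.mem_V_iff).mpr (Or.inr (Or.inr (Or.inr rfl)))
    exact hle hw
  exact fun q hq => mem_normalizer_of_conj (one q hq)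
    (fun w hw => by simpa using one _ (Q.inv_mem hq) w hw)

/-- `x` centralises `V`. -/
def CV (z y x : G) : Prop := Commute x z ∧ Commute x y

theorem CV.inv {x : G} (h : CV z y x) : CV z y x⁻¹ := ⟨h.1.inv_left, h.2.inv_left⟩
theorem CV.mul {x w : G} (h : CV z y x) (k : CV z y w) : CV z y (x * w) :=
  ⟨h.1.mul_left k.1, h.2.mul_left k.2⟩

theorem CV.conj {x c : G} (hc : CV z y c) (hx : x ∈ Subgroup.normalizer (V z y : Set G)) :
    CV z y (x * c * x⁻¹) := by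
  have key : ∀ w ∈ V z y, Commute (x * c * x⁻¹) w := by
    intro w hw
    have h1 : x⁻¹ * w * x ∈ V z y := by
      simpa using (Subgroup.mem_normalizer_iff.mp (inv_mem hx) w).mp hw
    have h2 : Commute c (x⁻¹ * w * x) :=
      (mem_centralizer_pair.mpr ⟨hc.1, hc.2⟩ _ h1).symm
    have := h2.map (MulAut.conj x).toMonoidHom
    simpa [mul_assoc] using this
  exact ⟨key z (Subgroup.subset_closure (Set.mem_insert _ _)),
    key y (Subgroup.subset_closure (Set.mem_insert_of_mem _ rfl))⟩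

theorem CV.of_R (p : Pair Q Q' z y) {x : G} (hx : x ∈ R Q Q' z y) : CV z y x := by
  have hle : R Q Q' z y ≤ Subgroup.centralizer (V z y : Set G) := by
    refine sup_le (fun w hw => ?_) (fun w hw => ?_)
    · exact mem_centralizer_pair.mpr
        ⟨Subgroup.mem_centralizer_singleton_iff.mp hw.2, p.h'.central w hw.1⟩
    · exact mem_centralizer_pair.mpr
        ⟨p.h.central w hw.1, Subgroup.mem_centralizer_singleton_iff.mp hw.2⟩
  exact mem_centralizer_pair.mp (hle hx)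

theorem left_le_R : Q ⊓ Subgroup.centralizer ({y} : Set G) ≤ R Q Q' z y := le_sup_right
theorem right_le_R : Q' ⊓ Subgroup.centralizer ({z} : Set G) ≤ R Q Q' z y := le_sup_left

theorem mem_P (p : Pair Q Q' z y) {x : G} (hx : x ∈ Q) (hxy : Commute x y) : x ∈ R Q Q' z y :=
  left_le_R ⟨hx, Subgroup.mem_centralizer_singleton_iff.mpr hxy.eq⟩

theorem mem_P' (p : Pair Q Q' z y) {x : G} (hx : x ∈ Q') (hxz : Commute x z) : x ∈ R Q Q' z y :=
  right_le_R ⟨hx, Subgroup.mem_centralizer_singleton_iff.mpr hxz.eq⟩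

theorem E_le_R (p : Pair Q Q' z y) : E Q Q' ≤ R Q Q' z y :=
  fun _ he => p.mem_P he.1 (p.h'.central _ he.2)

theorem inf_eq_E (p : Pair Q Q' z y) :
    (Q' ⊓ Subgroup.centralizer ({z} : Set G)) ⊓ (Q ⊓ Subgroup.centralizer ({y} : Set G)) =
      E Q Q' :=
  le_antisymm (fun _ hx => ⟨hx.2.1, hx.1.1⟩) fun x hx =>
    ⟨⟨hx.2, Subgroup.mem_centralizer_singleton_iff.mpr (p.h.central x hx.1).eq⟩,
      hx.1, Subgroup.mem_centralizer_singleton_iff.mpr (p.h'.central x hx.2).eq⟩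

/-- `[Q, C(V)] ≤ C_Q(y)`. -/
theorem comm_Q_CV (p : Pair Q Q' z y) {q c : G} (hq : q ∈ Q) (hc : CV z y c) :
    q * c * q⁻¹ * c⁻¹ ∈ Q ∧ Commute (q * c * q⁻¹ * c⁻¹) y := by
  refine ⟨?_, ((hc.conj (p.Q_le_normalizer_V hq)).mul hc.inv).2⟩
  rw [show q * c * q⁻¹ * c⁻¹ = q * (c * q⁻¹ * c⁻¹) by group]
  exact Q.mul_mem hq (p.h.normalizes c hc.1 _ (Q.inv_mem hq))

theorem Q_conj_R (p : Pair Q Q' z y) {q r : G} (hq : q ∈ Q) (hr : r ∈ R Q Q' z y) :
    q * r * q⁻¹ ∈ R Q Q' z y := by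
  have h1 := p.comm_Q_CV hq (CV.of_R p hr)
  have := mul_mem (p.mem_P h1.1 h1.2) hr
  rwa [inv_mul_cancel_right] at this

theorem Q_le_normalizer_R (p : Pair Q Q' z y) : Q ≤ Subgroup.normalizer (R Q Q' z y : Set G) :=
  fun q hq => mem_normalizer_of_conj (fun _ hr => p.Q_conj_R hq hr)
    (fun r hr => by simpa using p.Q_conj_R (Q.inv_mem hq) hr)

theorem X_le_normalizer_R (p : Pair Q Q' z y) :
    Q ⊔ Q' ≤ Subgroup.normalizer (R Q Q' z y : Set G) :=
  sup_le p.Q_le_normalizer_R (by rw [R_comm]; exact p.symm.Q_le_normalizer_R)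

theorem X_le_normalizer_V (p : Pair Q Q' z y) :
    Q ⊔ Q' ≤ Subgroup.normalizer (V z y : Set G) :=
  sup_le p.Q_le_normalizer_V (by rw [V_comm]; exact p.symm.Q_le_normalizer_V)

theorem R_le_X : R Q Q' z y ≤ Q ⊔ Q' :=
  sup_le (inf_le_left.trans le_sup_right) (inf_le_left.trans le_sup_left)

theorem R_closure : R Q Q' z y = Subgroup.closure
    ({x | x ∈ Q ∧ Commute x y} ∪ {x | x ∈ Q' ∧ Commute x z}) := by
  refine le_antisymm (sup_le (fun x hx => Subgroup.subset_closure (Or.inr ?_))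
    (fun x hx => Subgroup.subset_closure (Or.inl ?_))) ?_
  · exact ⟨hx.1, Subgroup.mem_centralizer_singleton_iff.mp hx.2⟩
  · exact ⟨hx.1, Subgroup.mem_centralizer_singleton_iff.mp hx.2⟩
  · rw [Subgroup.closure_le]
    rintro x (⟨h1, h2⟩ | ⟨h1, h2⟩)
    · exact left_le_R ⟨h1, Subgroup.mem_centralizer_singleton_iff.mpr h2.eq⟩
    · exact right_le_R ⟨h1, Subgroup.mem_centralizer_singleton_iff.mpr h2.eq⟩

theorem comm_gen (p : Pair Q Q' z y) {a b : G} (ha : a ∈ Q) (hay : Commute a y)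
    (hb : b ∈ Q') (hbz : Commute b z) : ⁅a, b⁆ ∈ E Q Q' := by
  rw [commutatorElement_def]
  constructor
  · rw [show a * b * a⁻¹ * b⁻¹ = a * (b * a⁻¹ * b⁻¹) by group]
    exact Q.mul_mem ha (p.h.normalizes b hbz _ (Q.inv_mem ha))
  · exact Q'.mul_mem (p.h'.normalizes a hay b hb) (Q'.inv_mem hb)

theorem comm_R (p : Pair Q Q' z y) {a b : G} (ha : a ∈ R Q Q' z y) (hb : b ∈ R Q Q' z y) :
    ⁅a, b⁆ ∈ E Q Q' := by
  rw [R_closure] at ha hb
  refine commutator_mem_of_closure ?_ ?_ ha hb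
  · rintro x (⟨h1, -⟩ | ⟨h1, -⟩)
    · exact p.Q_le_normalizer_E h1
    · rw [E_comm]; exact p.symm.Q_le_normalizer_E h1
  · have hz' : z ∈ E Q Q' := ⟨p.h.mem, p.hz⟩
    have hy' : y ∈ E Q Q' := ⟨p.hy, p.h'.mem⟩
    rintro a (⟨a1, a2⟩ | ⟨a1, a2⟩) b (⟨b1, b2⟩ | ⟨b1, b2⟩)
    · rw [commutatorElement_def]
      rcases p.h.comm a a1 b b1 with e | e <;> rw [e]
      · simp
      · rw [(p.h.central b b1).eq, mul_inv_cancel_right]; exact hz'
    · exact p.comm_gen a1 a2 b1 b2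
    · rw [← commutatorElement_inv]; exact inv_mem (p.comm_gen b1 b2 a1 a2)
    · rw [commutatorElement_def]
      rcases p.h'.comm a a1 b b1 with e | e <;> rw [e]
      · simp
      · rw [(p.h'.central b b1).eq, mul_inv_cancel_right]; exact hy'

theorem R_le_normalizer_E (p : Pair Q Q' z y) :
    R Q Q' z y ≤ Subgroup.normalizer (E Q Q' : Set G) :=
  R_le_X.trans (sup_le p.Q_le_normalizer_E (by rw [E_comm]; exact p.symm.Q_le_normalizer_E))

theorem sq_R (p : Pair Q Q' z y) {r : G} (hr : r ∈ R Q Q' z y) : r ^ 2 ∈ E Q Q' := by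
  rw [R_closure] at hr
  suffices h : r ∈ R Q Q' z y ∧ r * r ∈ E Q Q' by rw [pow_two]; exact h.2
  induction hr using Subgroup.closure_induction with
  | mem x hx =>
    rcases hx with ⟨h1, h2⟩ | ⟨h1, h2⟩
    · refine ⟨p.mem_P h1 h2, ?_⟩
      rcases p.h.sq_cases x h1 with e | e <;> rw [e]
      exacts [one_mem _, ⟨p.h.mem, p.hz⟩]
    · refine ⟨p.mem_P' h1 h2, ?_⟩
      rcases p.h'.sq_cases x h1 with e | e <;> rw [e]
      exacts [one_mem _, ⟨p.hy, p.h'.mem⟩]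
  | one => simp
  | mul a b _ _ ha hb =>
    exact ⟨mul_mem ha.1 hb.1, by
      have e : a * b * (a * b) = a * a * (⁅a⁻¹, b⁆ * (b * b)) := by
        simp only [commutatorElement_def]; group
      rw [e]; exact mul_mem ha.2 (mul_mem (p.comm_R (inv_mem ha.1) hb.1) hb.2)⟩
  | inv a _ ha =>
    exact ⟨inv_mem ha.1, by rw [← mul_inv_rev]; exact inv_mem ha.2⟩

/-- `C(V) ∩ C(C_Q(y)) ≤ V`. -/
theorem mem_V_of_centralizes (p : Pair Q Q' z y) {c : G} (hc : CV z y c)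
    (hP : ∀ q ∈ Q, Commute q y → Commute c q) : c ∈ V z y := by
  obtain ⟨q₀, hq₀, hne, hq₀y, -⟩ := p.exists_out
  set a := q₀⁻¹ * (c * q₀ * c⁻¹) with ha
  have haQ : a ∈ Q := Q.mul_mem (Q.inv_mem hq₀) (p.h.normalizes c hc.1 q₀ hq₀)
  have hcq : c * q₀ * c⁻¹ = q₀ * a := by rw [ha, mul_inv_cancel_left]
  have hcz : c * z * c⁻¹ = z := by rw [hc.1.eq, mul_inv_cancel_right]
  have haP : ∀ q ∈ Q, Commute q y → Commute a q := by
    intro q hq hqy
    have hcq' : c * q * c⁻¹ = q := by rw [(hP q hq hqy).eq, mul_inv_cancel_right]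
    rcases p.h.comm q₀ hq₀ q hq with e | e
    · have e2 : (c * q₀ * c⁻¹) * q * (c * q₀ * c⁻¹)⁻¹ = q := by
        calc _ = c * (q₀ * (c⁻¹ * q * c) * q₀⁻¹) * c⁻¹ := by group
          _ = c * (q₀ * q * q₀⁻¹) * c⁻¹ := by
            rw [show c⁻¹ * q * c = q by rw [mul_assoc, ← (hP q hq hqy).eq, inv_mul_cancel_left]]
          _ = q := by rw [e, hcq']
      show a * q = q * a
      calc a * q = q₀⁻¹ * ((c * q₀ * c⁻¹) * q * (c * q₀ * c⁻¹)⁻¹) * (q₀ * a) := by rw [← hcq, ha]; group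
        _ = q₀⁻¹ * (q₀ * q * q₀⁻¹) * (q₀ * a) := by rw [e2, e]
        _ = q * a := by group
    · have e2 : (c * q₀ * c⁻¹) * q * (c * q₀ * c⁻¹)⁻¹ = q * z := by
        calc _ = c * (q₀ * (c⁻¹ * q * c) * q₀⁻¹) * c⁻¹ := by group
          _ = c * (q₀ * q * q₀⁻¹) * c⁻¹ := by
            rw [show c⁻¹ * q * c = q by rw [mul_assoc, ← (hP q hq hqy).eq, inv_mul_cancel_left]]
          _ = (c * q * c⁻¹) * (c * z * c⁻¹) := by rw [e]; group
          _ = _ := by rw [hcq', hcz]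
      show a * q = q * a
      calc a * q = q₀⁻¹ * ((c * q₀ * c⁻¹) * q * (c * q₀ * c⁻¹)⁻¹) * (q₀ * a) := by rw [← hcq, ha]; group
        _ = q₀⁻¹ * (q₀ * q * q₀⁻¹) * (q₀ * a) := by rw [e2, e]
        _ = q * a := by group
  have haV := p.h.centralizer_of_self p.hy haQ haP
  -- `q₀ a` and `q₀` have the same square
  have hsq : q₀ * a * (q₀ * a) = q₀ * q₀ := by
    have e : q₀ * a * (q₀ * a) = c * (q₀ * q₀) * c⁻¹ := by rw [← hcq]; group
    rw [e]
    rcases p.h.sq_cases q₀ hq₀ with e' | e' <;> rw [e']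
    · simp
    · exact hcz
  have hone : ∀ d, CV z y d → (∀ q ∈ Q, Commute q y → Commute d q) → Commute d q₀ →
      d ∈ V z y := by
    intro d hd hdP hdq
    have hall : ∀ q ∈ Q, Commute d q := by
      intro q hq
      rcases p.conj_y hq with e | e
      · exact hdP q hq (mul_inv_eq_iff_eq_mul.mp e)
      · have h1 : Commute (q₀⁻¹ * q) y := by
          show q₀⁻¹ * q * y = y * (q₀⁻¹ * q)
          calc q₀⁻¹ * q * y = q₀⁻¹ * (q * y * q⁻¹) * q := by group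
            _ = q₀⁻¹ * (q₀ * y * q₀⁻¹) * q := by rw [e, hq₀y]
            _ = y * (q₀⁻¹ * q) := by group
        have := hdq.mul_right (hdP _ (Q.mul_mem (Q.inv_mem hq₀) hq) h1)
        rwa [mul_inv_cancel_left] at this
    exact p.mem_V_iff.mpr ((p.h.self d hall).elim Or.inl (fun e => Or.inr (Or.inl e)))
  -- `a` lies in `{1, z}`, as `q₀ y` squares differently
  have ha1z : a = 1 ∨ a = z := by
    have hbad : a = y ∨ a = z * y → False := by
      intro hh
      have hay : Commute a z := p.h.central a haQ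
      have hqa : q₀ * a * q₀⁻¹ = a * z := by
        rcases hh with e | e <;> rw [e]
        · rw [hq₀y, p.commute_zy.eq]
        · calc q₀ * (z * y) * q₀⁻¹ = (q₀ * z * q₀⁻¹) * (q₀ * y * q₀⁻¹) := by group
            _ = z * (z * y) := by rw [(p.h.central q₀ hq₀).eq, mul_inv_cancel_right, hq₀y]
            _ = _ := by rw [mul_assoc, ← p.commute_zy.eq]
      have haa : a * a = 1 := p.E_sq (p.V_le_E haV)
      have e : q₀ * a * (q₀ * a) = (q₀ * a * q₀⁻¹) * (q₀ * q₀) * a := by group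
      have hzq : Commute (q₀ * q₀) a := by
        rcases p.h.sq_cases q₀ hq₀ with e' | e' <;> rw [e']
        · exact Commute.one_left _
        · exact hay.symm
      rw [hsq, hqa, mul_assoc, hzq.eq] at e
      have e1 : a * z * (a * (q₀ * q₀)) = z * (q₀ * q₀) := by
        rw [hay.eq, mul_assoc, ← mul_assoc a a, haa, one_mul]
      rw [e1] at e
      exact p.h.ne_one (mul_eq_right.mp e.symm)
    rcases p.mem_V_iff.mp haV with e | e | e | e
    exacts [Or.inl e, Or.inr e, (hbad (Or.inl e)).elim, (hbad (Or.inr e)).elim]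
  rcases ha1z with e | e
  · exact hone c hc hP (mul_inv_eq_iff_eq_mul.mp (by rw [hcq, e, mul_one]))
  · -- correct `c` by `y`
    have hy : y ∈ V z y := Subgroup.subset_closure (Set.mem_insert_of_mem _ rfl)
    have := hone (c * y) (hc.mul ⟨p.commute_zy.symm, Commute.refl y⟩)
      (fun q hq hqy => (hP q hq hqy).mul_left hqy.symm) ?_
    · exact (Subgroup.mul_mem_cancel_right _ hy).mp this
    · show c * y * q₀ = q₀ * (c * y)
      have h1 : y * q₀ = q₀ * (y * z) := by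
        have e3 : q₀ * (y * z) * q₀⁻¹ = y := by
          calc _ = (q₀ * y * q₀⁻¹) * (q₀ * z * q₀⁻¹) := by group
            _ = z * y * z := by rw [hq₀y, (p.h.central q₀ hq₀).eq, mul_inv_cancel_right]
            _ = y := by rw [p.commute_zy.eq, mul_assoc, p.h.sq, mul_one]
        exact (mul_inv_eq_iff_eq_mul.mp e3).symm
      have h2 : c * q₀ = q₀ * z * c := by rw [← e, ← hcq, inv_mul_cancel_right]
      calc c * y * q₀ = c * q₀ * (y * z) := by rw [mul_assoc c y, h1, ← mul_assoc]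
        _ = q₀ * (z * (c * y) * z) := by rw [h2]; group
        _ = q₀ * ((c * y) * z * z) := by rw [(hc.mul ⟨p.commute_zy.symm, Commute.refl y⟩).1.eq]
        _ = q₀ * (c * y) := by rw [mul_assoc, p.h.sq, mul_one]

theorem center_R (p : Pair Q Q' z y) :
    (Subgroup.center ↥(R Q Q' z y)).map (R Q Q' z y).subtype = V z y := by
  apply le_antisymm
  · rintro _ ⟨c, hc, rfl⟩
    refine p.mem_V_of_centralizes (CV.of_R p c.2) fun q hq hqy => ?_
    exact (congrArg Subtype.val (Subgroup.mem_center_iff.mp hc ⟨q, p.mem_P hq hqy⟩)).symm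
  · intro w hw
    refine ⟨⟨w, p.E_le_R (p.V_le_E hw)⟩, Subgroup.mem_center_iff.mpr fun r => Subtype.ext ?_, rfl⟩
    exact (mem_centralizer_pair.mpr (CV.of_R p r.2) w hw).symm

theorem comm_Q_E (p : Pair Q Q' z y) {q e : G} (hq : q ∈ Q) (he : e ∈ E Q Q') :
    ⁅q, e⁆ ∈ V z y := by
  rw [commutatorElement_def]
  rcases p.h.comm q hq e he.1 with a | a <;> rw [a]
  · simp
  · rw [(p.h.central e he.1).eq, mul_inv_cancel_right]
    exact Subgroup.subset_closure (Set.mem_insert _ _)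

theorem commutator_X_E (p : Pair Q Q' z y) : ⁅Q ⊔ Q', E Q Q'⁆ ≤ V z y := by
  rw [Subgroup.commutator_le]
  intro x hx e he
  rw [show Q ⊔ Q' = Subgroup.closure ((Q : Set G) ∪ Q') by
    rw [Subgroup.closure_union, Subgroup.closure_eq, Subgroup.closure_eq]] at hx
  suffices h : (x ∈ Subgroup.normalizer (E Q Q' : Set G) ∧ x ∈ Subgroup.normalizer (V z y : Set G)) ∧
      ∀ f ∈ E Q Q', ⁅x, f⁆ ∈ V z y from h.2 e he
  induction hx using Subgroup.closure_induction with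
  | mem a ha =>
    rcases ha with ha | ha
    · exact ⟨⟨p.Q_le_normalizer_E ha, p.Q_le_normalizer_V ha⟩, fun f hf => p.comm_Q_E ha hf⟩
    · refine ⟨⟨?_, ?_⟩, fun f hf => ?_⟩
      · rw [E_comm]; exact p.symm.Q_le_normalizer_E ha
      · rw [V_comm]; exact p.symm.Q_le_normalizer_V ha
      · rw [V_comm]; exact p.symm.comm_Q_E ha (by rw [E_comm]; exact hf)
  | one => exact ⟨⟨one_mem _, one_mem _⟩, fun f _ => by simp⟩
  | mul a b _ _ ha hb =>
    refine ⟨⟨mul_mem ha.1.1 hb.1.1, mul_mem ha.1.2 hb.1.2⟩, fun f hf => ?_⟩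
    have e : ⁅a * b, f⁆ = a * ⁅b, f⁆ * a⁻¹ * ⁅a, f⁆ := by simp only [commutatorElement_def]; group
    rw [e]
    exact mul_mem ((Subgroup.mem_normalizer_iff.mp ha.1.2 _).mp (hb.2 f hf)) (ha.2 f hf)
  | inv a _ ha =>
    refine ⟨⟨inv_mem ha.1.1, inv_mem ha.1.2⟩, fun f hf => ?_⟩
    have e : ⁅a⁻¹, f⁆ = a⁻¹ * ⁅a, f⁆⁻¹ * a⁻¹⁻¹ := by simp only [commutatorElement_def]; group
    rw [e]
    exact (Subgroup.mem_normalizer_iff.mp (inv_mem ha.1.2) _).mp (inv_mem (ha.2 f hf))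

theorem commutator_X_CV (p : Pair Q Q' z y) {x : G} (hx : x ∈ Q ⊔ Q') {c : G} (hc : CV z y c) :
    x * c * x⁻¹ * c⁻¹ ∈ R Q Q' z y := by
  rw [show Q ⊔ Q' = Subgroup.closure ((Q : Set G) ∪ Q') by
    rw [Subgroup.closure_union, Subgroup.closure_eq, Subgroup.closure_eq]] at hx
  suffices h : x ∈ Subgroup.normalizer (R Q Q' z y : Set G) ∧
      ∀ c, CV z y c → x * c * x⁻¹ * c⁻¹ ∈ R Q Q' z y from h.2 c hc
  clear hc c
  induction hx using Subgroup.closure_induction with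
  | mem a ha =>
    rcases ha with ha | ha
    · exact ⟨p.Q_le_normalizer_R ha, fun c hc =>
        p.mem_P (p.comm_Q_CV ha hc).1 (p.comm_Q_CV ha hc).2⟩
    · refine ⟨by rw [R_comm]; exact p.symm.Q_le_normalizer_R ha, fun c hc => ?_⟩
      exact p.mem_P' (p.symm.comm_Q_CV ha ⟨hc.2, hc.1⟩).1 (p.symm.comm_Q_CV ha ⟨hc.2, hc.1⟩).2
  | one => exact ⟨one_mem _, fun c _ => by simp⟩
  | mul a b _ _ ha hb =>
    refine ⟨mul_mem ha.1 hb.1, fun c hc => ?_⟩
    have e : a * b * c * (a * b)⁻¹ * c⁻¹ =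
        a * (b * c * b⁻¹ * c⁻¹) * a⁻¹ * (a * c * a⁻¹ * c⁻¹) := by group
    rw [e]
    exact mul_mem ((Subgroup.mem_normalizer_iff.mp ha.1 _).mp (hb.2 c hc)) (ha.2 c hc)
  | inv a _ ha =>
    refine ⟨inv_mem ha.1, fun c hc => ?_⟩
    have e : a⁻¹ * c * a⁻¹⁻¹ * c⁻¹ = a⁻¹ * (a * c * a⁻¹ * c⁻¹)⁻¹ * a⁻¹⁻¹ := by group
    rw [e]
    exact (Subgroup.mem_normalizer_iff.mp (inv_mem ha.1) _).mp (inv_mem (ha.2 c hc))

/-- The elements `1, a, b, ab, ba, aba`. -/
def six (a b w : G) : Prop :=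
  w = 1 ∨ w = a ∨ w = b ∨ w = a * b ∨ w = b * a ∨ w = a * b * a

theorem exists_cosets (p : Pair Q Q' z y) : ∃ a ∈ Q, ∃ b ∈ Q',
    (a * z * a⁻¹ = z ∧ a * y * a⁻¹ = z * y) ∧ (b * y * b⁻¹ = y ∧ b * z * b⁻¹ = z * y) ∧
    ∀ x ∈ Q ⊔ Q', ∃ w, six a b w ∧ w⁻¹ * x ∈ R Q Q' z y := by
  obtain ⟨a, ha, hna, hay, haz⟩ := p.exists_out
  obtain ⟨b, hb, hnb, hbz, hby⟩ := p.symm.exists_out
  rw [← p.commute_zy.eq] at hbz
  refine ⟨a, ha, b, hb, ⟨haz, hay⟩, ⟨hby, hbz⟩, ?_⟩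
  set R' := R Q Q' z y with hR'
  have hN := p.X_le_normalizer_R
  have conjR : ∀ x ∈ Q ⊔ Q', ∀ r ∈ R', x * r * x⁻¹ ∈ R' := fun x hx r hr =>
    (Subgroup.mem_normalizer_iff.mp (hN hx) r).mp hr
  have hyy := p.h'.sq
  have hzz := p.h.sq
  have aA : a ∈ Q ⊔ Q' := Subgroup.mem_sup_left ha
  have bB : b ∈ Q ⊔ Q' := Subgroup.mem_sup_right hb
  have zR : z ∈ R' := p.E_le_R ⟨p.h.mem, p.hz⟩
  have yR : y ∈ R' := p.E_le_R ⟨p.hy, p.h'.mem⟩
  have a2 : a * a ∈ R' := by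
    rcases p.h.sq_cases a ha with e | e <;> rw [e]
    exacts [one_mem _, zR]
  have b2 : b * b ∈ R' := by
    rcases p.h'.sq_cases b hb with e | e <;> rw [e]
    exacts [one_mem _, yR]
  have haw : a * (z * y) * a⁻¹ = y := by
    calc _ = (a * z * a⁻¹) * (a * y * a⁻¹) := by group
      _ = y := by rw [haz, hay, ← mul_assoc, hzz, one_mul]
  have hbw : b * (z * y) * b⁻¹ = z := by
    calc _ = (b * z * b⁻¹) * (b * y * b⁻¹) := by group
      _ = z := by rw [hby, hbz, mul_assoc, hyy, mul_one]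
  -- `bab⁻¹` and `aba⁻¹` lie in the same conjugate and agree modulo `R`
  set d := (b * a * b⁻¹) * (a * b * a⁻¹)⁻¹ with hd
  have hdR : d ∈ R' := by
    have hQ : Q.map (MulAut.conj b).toMonoidHom = Q'.map (MulAut.conj a).toMonoidHom :=
      p.tgt b a (by rw [hbz, hay])
    have h1 : a⁻¹ * d * a ∈ Q' := by
      have m1 : b * a * b⁻¹ ∈ Q.map (MulAut.conj b).toMonoidHom := ⟨a, ha, rfl⟩
      rw [hQ, mem_conj_iff] at m1
      have e : a⁻¹ * d * a = a⁻¹ * (b * a * b⁻¹) * a * b⁻¹ := by rw [hd]; group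
      rw [e]; exact Q'.mul_mem m1 (Q'.inv_mem hb)
    have dz : d * z * d⁻¹ = z := by
      have s1 : (a * b * a⁻¹)⁻¹ * z * (a * b * a⁻¹) = y := by
        calc _ = a * (b⁻¹ * (a⁻¹ * z * a) * b) * a⁻¹ := by group
          _ = a * (b⁻¹ * (a⁻¹ * (a * z * a⁻¹) * a) * b) * a⁻¹ := by rw [haz]
          _ = a * (b⁻¹ * z * b) * a⁻¹ := by group
          _ = a * (b⁻¹ * (b * (z * y) * b⁻¹) * b) * a⁻¹ := by rw [hbw]
          _ = a * (z * y) * a⁻¹ := by group
          _ = y := haw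
      calc d * z * d⁻¹
          = (b * a * b⁻¹) * ((a * b * a⁻¹)⁻¹ * z * (a * b * a⁻¹)) * (b * a * b⁻¹)⁻¹ := by rw [hd]; group
        _ = b * (a * (b⁻¹ * y * b) * a⁻¹) * b⁻¹ := by rw [s1]; group
        _ = b * (a * (b⁻¹ * (b * y * b⁻¹) * b) * a⁻¹) * b⁻¹ := by rw [hby]
        _ = b * (a * y * a⁻¹) * b⁻¹ := by group
        _ = z := by rw [hay]; exact hbw
    have dy : d * y * d⁻¹ = y := by
      have s1 : (a * b * a⁻¹)⁻¹ * y * (a * b * a⁻¹) = z := by
        calc _ = a * (b⁻¹ * (a⁻¹ * y * a) * b) * a⁻¹ := by group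
          _ = a * (b⁻¹ * (a⁻¹ * (a * (z * y) * a⁻¹) * a) * b) * a⁻¹ := by rw [haw]
          _ = a * (b⁻¹ * (z * y) * b) * a⁻¹ := by group
          _ = a * (b⁻¹ * (b * z * b⁻¹) * b) * a⁻¹ := by rw [hbz]
          _ = a * z * a⁻¹ := by group
          _ = z := haz
      calc d * y * d⁻¹
          = (b * a * b⁻¹) * ((a * b * a⁻¹)⁻¹ * y * (a * b * a⁻¹)) * (b * a * b⁻¹)⁻¹ := by rw [hd]; group
        _ = b * (a * (b⁻¹ * z * b) * a⁻¹) * b⁻¹ := by rw [s1]; group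
        _ = b * (a * (b⁻¹ * (b * (z * y) * b⁻¹) * b) * a⁻¹) * b⁻¹ := by rw [hbw]
        _ = b * (a * (z * y) * a⁻¹) * b⁻¹ := by group
        _ = y := by rw [haw, hby]
    have hcv := CV.conj (x := a⁻¹) (⟨mul_inv_eq_iff_eq_mul.mp dz, mul_inv_eq_iff_eq_mul.mp dy⟩ : CV z y d)
      (inv_mem (p.Q_le_normalizer_V ha))
    rw [inv_inv] at hcv
    have h2 := conjR a aA _ (p.mem_P' h1 hcv.1)
    rwa [show a * (a⁻¹ * d * a) * a⁻¹ = d by group] at h2
  -- closure under left multiplication by `a`, `b` and `R`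
  let M : G → Prop := fun x => ∃ w, six a b w ∧ w⁻¹ * x ∈ R'
  have six_mem : ∀ w, six a b w → w ∈ Q ⊔ Q' := by
    rintro w (rfl | rfl | rfl | rfl | rfl | rfl)
    exacts [one_mem _, aA, bB, mul_mem aA bB, mul_mem bB aA, mul_mem (mul_mem aA bB) aA]
  have MR : ∀ r ∈ R', ∀ x, M x → M (r * x) := by
    rintro r hr x ⟨w, hw, hwx⟩
    refine ⟨w, hw, ?_⟩
    have := conjR w⁻¹ (inv_mem (six_mem w hw)) r hr
    rw [show w⁻¹ * (r * x) = w⁻¹ * r * w⁻¹⁻¹ * (w⁻¹ * x) by group]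
    exact mul_mem this hwx
  have Mw : ∀ w v r, r ∈ R' → six a b v → w = v * r → ∀ x, w⁻¹ * x ∈ R' → M x := by
    rintro w v r hr hv rfl x hx
    refine ⟨v, hv, ?_⟩
    rw [show v⁻¹ * x = r * ((v * r)⁻¹ * x) by group]
    exact mul_mem hr hx
  have conjR' : ∀ x ∈ Q ⊔ Q', ∀ r ∈ R', x⁻¹ * r * x ∈ R' := fun x hx r hr => by
    simpa using conjR x⁻¹ (inv_mem hx) r hr
  have Ma : ∀ x, M x → M (a * x) := by
    rintro x ⟨w, hw, hwx⟩
    have e0 : (a * w)⁻¹ * (a * x) ∈ R' := by rwa [mul_inv_rev, mul_assoc, inv_mul_cancel_left]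
    rcases hw with e | e | e | e | e | e <;> subst w
    · exact Mw _ a 1 (one_mem _) (Or.inr (Or.inl rfl)) rfl _ e0
    · exact Mw _ 1 (a * a) a2 (Or.inl rfl) (by simp) _ e0
    · exact Mw _ (a * b) 1 (one_mem _) (Or.inr (Or.inr (Or.inr (Or.inl rfl)))) (by simp) _ e0
    · refine Mw _ b (b⁻¹ * (a * a) * b) (conjR' b bB _ a2) (Or.inr (Or.inr (Or.inl rfl))) ?_ _ e0
      group
    · refine Mw _ (a * b * a) 1 (one_mem _) (Or.inr (Or.inr (Or.inr (Or.inr (Or.inr rfl))))) ?_ _ e0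
      group
    · refine Mw _ (b * a) ((b * a)⁻¹ * (a * a) * (b * a)) (conjR' _ (mul_mem bB aA) _ a2)
        (Or.inr (Or.inr (Or.inr (Or.inr (Or.inl rfl))))) ?_ _ e0
      group
  -- `b a b ≡ a b a`
  obtain ⟨r₀, hr₀, hbab⟩ : ∃ r₀ ∈ R', b * a * b = a * b * a * r₀ := by
    refine ⟨(a * b * a)⁻¹ * d * (a * b * a) * ((a * a)⁻¹ * (b * b)), mul_mem
      (conjR' _ (mul_mem (mul_mem aA bB) aA) _ hdR) (mul_mem (inv_mem a2) b2), ?_⟩
    rw [hd]; group
  have Mb : ∀ x, M x → M (b * x) := by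
    rintro x ⟨w, hw, hwx⟩
    have e0 : (b * w)⁻¹ * (b * x) ∈ R' := by rwa [mul_inv_rev, mul_assoc, inv_mul_cancel_left]
    rcases hw with e | e | e | e | e | e <;> subst w
    · exact Mw _ b 1 (one_mem _) (Or.inr (Or.inr (Or.inl rfl))) rfl _ e0
    · exact Mw _ (b * a) 1 (one_mem _) (Or.inr (Or.inr (Or.inr (Or.inr (Or.inl rfl))))) (by simp) _ e0
    · exact Mw _ 1 (b * b) b2 (Or.inl rfl) (by simp) _ e0
    · refine Mw _ (a * b * a) r₀ hr₀ (Or.inr (Or.inr (Or.inr (Or.inr (Or.inr rfl))))) ?_ _ e0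
      rw [← hbab]; group
    · refine Mw _ a (a⁻¹ * (b * b) * a) (conjR' a aA _ b2) (Or.inr (Or.inl rfl)) ?_ _ e0
      group
    · refine Mw _ (a * b) ((a * a) * (a⁻¹ * r₀ * a)) (mul_mem a2 (conjR' a aA _ hr₀))
        (Or.inr (Or.inr (Or.inr (Or.inl rfl)))) ?_ _ e0
      calc b * (a * b * a) = (b * a * b) * a := by group
        _ = _ := by rw [hbab]; group
  have Mq : ∀ q ∈ Q, ∀ x, M x → M (q * x) := by
    intro q hq x hx
    rcases p.conj_y hq with e | e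
    · exact MR q (p.mem_P hq (mul_inv_eq_iff_eq_mul.mp e)) x hx
    · have hqa : Commute (q * a⁻¹) y := by
        have : (q * a⁻¹) * (z * y) * (q * a⁻¹)⁻¹ = z * y := by
          calc (q * a⁻¹) * (z * y) * (q * a⁻¹)⁻¹
              = q * (a⁻¹ * (a * y * a⁻¹) * a) * q⁻¹ := by rw [hay]; group
            _ = z * y := by rw [← e]; group
        have hcz : Commute (q * a⁻¹) z := p.h.central _ (Q.mul_mem hq (Q.inv_mem ha))
        have h3 := (Commute.mul_right hcz (mul_inv_eq_iff_eq_mul.mp this : Commute _ (z * y)))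
        rwa [← mul_assoc, hzz, one_mul] at h3
      have := MR _ (p.mem_P (Q.mul_mem hq (Q.inv_mem ha)) hqa) _ (Ma x hx)
      rwa [← mul_assoc, inv_mul_cancel_right] at this
  have Mq' : ∀ q ∈ Q', ∀ x, M x → M (q * x) := by
    intro q hq x hx
    rcases p.symm.conj_y hq with e | e
    · exact MR q (p.mem_P' hq (mul_inv_eq_iff_eq_mul.mp e)) x hx
    · rw [← p.commute_zy.eq] at e
      have hqb : Commute (q * b⁻¹) z := by
        have : (q * b⁻¹) * (z * y) * (q * b⁻¹)⁻¹ = z * y := by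
          calc (q * b⁻¹) * (z * y) * (q * b⁻¹)⁻¹
              = q * (b⁻¹ * (b * z * b⁻¹) * b) * q⁻¹ := by rw [hbz]; group
            _ = z * y := by rw [← e]; group
        have hcy : Commute (q * b⁻¹) y := p.h'.central _ (Q'.mul_mem hq (Q'.inv_mem hb))
        have h3 := (Commute.mul_right (mul_inv_eq_iff_eq_mul.mp this : Commute _ (z * y)) hcy)
        rwa [mul_assoc, hyy, mul_one] at h3
      have := MR _ (p.mem_P' (Q'.mul_mem hq (Q'.inv_mem hb)) hqb) _ (Mb x hx)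
      rwa [← mul_assoc, inv_mul_cancel_right] at this
  intro x hx
  rw [show Q ⊔ Q' = Subgroup.closure ((Q : Set G) ∪ Q') by
    rw [Subgroup.closure_union, Subgroup.closure_eq, Subgroup.closure_eq]] at hx
  show M x
  induction hx using Subgroup.closure_induction_left with
  | one => exact ⟨1, Or.inl rfl, by simp⟩
  | mul_left s hs t _ ht => rcases hs with hs | hs; exacts [Mq s hs t ht, Mq' s hs t ht]
  | inv_mul_cancel s hs t _ ht =>
    rcases hs with hs | hs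
    exacts [Mq _ (Q.inv_mem hs) t ht, Mq' _ (Q'.inv_mem hs) t ht]

theorem R_eq_inf_centralizer (p : Pair Q Q' z y) :
    R Q Q' z y = (Q ⊔ Q') ⊓ Subgroup.centralizer (V z y : Set G) := by
  refine le_antisymm (le_inf R_le_X fun r hr => mem_centralizer_pair.mpr (CV.of_R p hr)) ?_
  rintro x ⟨hx, hxV⟩
  obtain ⟨hxz, hxy⟩ := mem_centralizer_pair.mp hxV
  obtain ⟨a, ha, b, hb, ⟨haz, hay⟩, ⟨hby, hbz⟩, hcos⟩ := p.exists_cosets
  obtain ⟨w, hw, hwx⟩ := hcos x hx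
  have hcv : CV z y w := by
    have h1 : CV z y x := ⟨hxz, hxy⟩
    have := h1.mul (CV.of_R p hwx).inv
    rwa [show x * (w⁻¹ * x)⁻¹ = w by group] at this
  have cz : ∀ u, Commute u z → u * z * u⁻¹ = z := fun u h => by rw [h.eq, mul_inv_cancel_right]
  have cy : ∀ u, Commute u y → u * y * u⁻¹ = y := fun u h => by rw [h.eq, mul_inv_cancel_right]
  have hzy_ne_z : z * y ≠ z := fun e => p.h'.ne_one (mul_eq_left.mp e)
  have hzy_ne_y : z * y ≠ y := fun e => p.h.ne_one (mul_eq_right.mp e)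
  have haw : a * (z * y) * a⁻¹ = y := by
    calc _ = (a * z * a⁻¹) * (a * y * a⁻¹) := by group
      _ = y := by rw [haz, hay, ← mul_assoc, p.h.sq, one_mul]
  have h1 := cz w hcv.1
  have h2 := cy w hcv.2
  rcases hw with e | e | e | e | e | e <;> subst w
  · simpa using hwx
  · exact absurd (hay.symm.trans h2) hzy_ne_y
  · exact absurd (hbz.symm.trans h1) hzy_ne_z
  · refine absurd (Eq.trans ?_ h1) p.ne
    calc y = a * (b * z * b⁻¹) * a⁻¹ := by rw [hbz, haw]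
      _ = _ := by group
  · refine absurd (Eq.trans ?_ h1) hzy_ne_z
    calc z * y = b * (a * z * a⁻¹) * b⁻¹ := by rw [haz, hbz]
      _ = _ := by group
  · refine absurd (Eq.trans ?_ h1) p.ne
    calc y = a * (b * (a * z * a⁻¹) * b⁻¹) * a⁻¹ := by rw [haz, hbz, haw]
      _ = _ := by group

end Pair

end Cfsg.Agent.LargeExtraspecial
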