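import Cfsg.Prelude.Def_Transfer
import Cfsg.Prelude.Def_Solvable

/-!
Large extraspecial 2-subgroups: orthogonality of singular involutions is symmetric, and the groups
generated by the cores attached to a singular subgroup.
-/

set_option autoImplicit false

open scoped commutatorElement

namespace Cfsg.Agent.LargeExtraspecial

variable {G : Type*} [Group G]

theorem pCore_map_le {A B : Type*} [Group A] [Group B] (p : ℕ) (e : A ≃* B) :
    (Cfsg.pCore p A).map e.toMonoidHom ≤ Cfsg.pCore p B := by
  rw [Subgroup.map_le_iff_le_comap]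
  refine sSup_le fun N hN => ?_
  rw [← Subgroup.map_le_iff_le_comap]
  exact le_sSup ⟨hN.1.map _ e.surjective, hN.2.map _⟩

/-- The 2-core of the centralizer of an element, as a subgroup of the whole group. -/
def coreAt (x : G) : Subgroup G :=
  (Cfsg.pCore 2 ↥(Subgroup.centralizer ({x} : Set G))).map
    (Subgroup.centralizer ({x} : Set G)).subtype

theorem commute_of_mem_coreAt {x q : G} (h : q ∈ coreAt x) : x * q = q * x := by
  obtain ⟨y, -, rfl⟩ := h
  exact (Subgroup.mem_centralizer_singleton_iff.mp y.2).symm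

theorem conj_mem_coreAt (g : G) {x q : G} (h : q ∈ coreAt x) :
    g * q * g⁻¹ ∈ coreAt (g * x * g⁻¹) := by
  obtain ⟨y, hy, rfl⟩ := h
  let e : ↥(Subgroup.centralizer ({x} : Set G)) ≃*
      ↥(Subgroup.centralizer ({g * x * g⁻¹} : Set G)) :=
    { toFun := fun a => ⟨g * a * g⁻¹, Subgroup.mem_centralizer_singleton_iff.mpr (by
        have := Subgroup.mem_centralizer_singleton_iff.mp a.2
        calc g * a * g⁻¹ * (g * x * g⁻¹) = g * (a * x) * g⁻¹ := by group
          _ = g * (x * a) * g⁻¹ := by rw [this]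
          _ = g * x * g⁻¹ * (g * a * g⁻¹) := by group)⟩
      invFun := fun a => ⟨g⁻¹ * a * g, Subgroup.mem_centralizer_singleton_iff.mpr (by
        have := Subgroup.mem_centralizer_singleton_iff.mp a.2
        calc g⁻¹ * a * g * x = g⁻¹ * (a * (g * x * g⁻¹)) * g := by group
          _ = g⁻¹ * ((g * x * g⁻¹) * a) * g := by rw [this]
          _ = x * (g⁻¹ * a * g) := by group)⟩
      left_inv := fun a => Subtype.ext (by simp [mul_assoc])
      right_inv := fun a => Subtype.ext (by simp [mul_assoc])
      map_mul' := fun a b => Subtype.ext (by simp [mul_assoc]) }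
  exact ⟨e y, pCore_map_le 2 e ⟨y, hy, rfl⟩, rfl⟩

theorem conj_mem_coreAt_of_commute {c x q : G} (hc : c * x = x * c) (h : q ∈ coreAt x) :
    c * q * c⁻¹ ∈ coreAt x := by
  simpa [hc] using conj_mem_coreAt c h

/-- `x` is a singular involution: its core is extraspecial with centre `⟨x⟩` and contains its
centralizer in the whole group. -/
structure Singular (x : G) : Prop where
  sq : x * x = 1
  mem : x ∈ coreAt x
  comm : ∀ q ∈ coreAt x, ∀ r ∈ coreAt x, q * r * q⁻¹ = r ∨ q * r * q⁻¹ = r * x
  central : ∀ q ∈ coreAt x, (∀ r ∈ coreAt x, r * q = q * r) → q = 1 ∨ q = x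
  self_centralizing : ∀ c : G, (∀ q ∈ coreAt x, c * q = q * c) → c ∈ coreAt x

theorem Singular.of_extraspecial [Finite G] {z : G} (hz : orderOf z = 2)
    (hE : Cfsg.IsExtraspecial 2 ↥(coreAt z))
    (hC : Subgroup.centralizer ((coreAt z : Subgroup G) : Set G) ≤ coreAt z) : Singular z := by
  have hsq : z * z = 1 := by
    have := pow_orderOf_eq_one z
    rwa [hz, pow_two] at this
  have hne : z ≠ 1 := by rintro rfl; simp at hz
  have hmem : z ∈ coreAt z := hC (Subgroup.mem_centralizer_iff.mpr fun q hq =>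
    (commute_of_mem_coreAt hq).symm)
  have hzc : (⟨z, hmem⟩ : coreAt z) ∈ Subgroup.center (coreAt z) :=
    Subgroup.mem_center_iff.mpr fun q => Subtype.ext (commute_of_mem_coreAt q.2).symm
  have hcenter : ∀ q : coreAt z, q ∈ Subgroup.center (coreAt z) → (q : G) = 1 ∨ (q : G) = z := by
    intro q hq
    by_contra hcon
    push Not at hcon
    have hinj : Function.Injective
        (![(1 : Subgroup.center (coreAt z)), ⟨⟨z, hmem⟩, hzc⟩, ⟨q, hq⟩] : Fin 3 → _) := by
      intro i j hij
      have hij' := congrArg (fun t : Subgroup.center (coreAt z) => ((t : coreAt z) : G)) hij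
      fin_cases i <;> fin_cases j <;> simp at hij' ⊢
      all_goals
        first
          | exact hne hij'
          | exact hne hij'.symm
          | exact hcon.1 (congrArg Subtype.val hij')
          | exact hcon.1 (congrArg Subtype.val hij'.symm)
          | exact hcon.1 hij'
          | exact hcon.1 hij'.symm
          | exact hcon.2 hij'
          | exact hcon.2 hij'.symm
    have h3 := Nat.card_le_card_of_injective _ hinj
    rw [hE.2, Nat.card_eq_fintype_card, Fintype.card_fin] at h3
    omega
  refine ⟨hsq, hmem, fun q hq r hr => ?_, fun q hq h => ?_,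
    fun c hc => hC (Subgroup.mem_centralizer_iff.mpr fun q hq => (hc q hq).symm)⟩
  · have h1 : ⁅(⟨q, hq⟩ : coreAt z), (⟨r, hr⟩ : coreAt z)⁆ ∈ Subgroup.center (coreAt z) := by
      rw [← hE.1.2.2]
      exact Subgroup.commutator_mem_commutator (Subgroup.mem_top _) (Subgroup.mem_top _)
    rcases hcenter _ h1 with h | h <;> simp only [commutatorElement_def, Subgroup.coe_mul,
      Subgroup.coe_inv] at h
    · exact Or.inl (by simpa using mul_inv_eq_one.mp h)
    · exact Or.inr (by rw [mul_inv_eq_iff_eq_mul] at h; rw [h, commute_of_mem_coreAt hr])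
  · exact hcenter ⟨q, hq⟩ (Subgroup.mem_center_iff.mpr fun r => Subtype.ext (h r r.2))

theorem mem_coreAt_conj_iff (g x q : G) :
    g * q * g⁻¹ ∈ coreAt (g * x * g⁻¹) ↔ q ∈ coreAt x := by
  refine ⟨fun h => ?_, conj_mem_coreAt g⟩
  simpa [mul_assoc] using conj_mem_coreAt g⁻¹ h

theorem Singular.conj {x : G} (h : Singular x) (g : G) : Singular (g * x * g⁻¹) := by
  have key : ∀ q ∈ coreAt (g * x * g⁻¹), ∃ r ∈ coreAt x, q = g * r * g⁻¹ := fun q hq =>
    ⟨g⁻¹ * q * g, (mem_coreAt_conj_iff g x _).mp (by simpa [mul_assoc] using hq), by group⟩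
  refine ⟨by simp [mul_assoc, ← mul_assoc x x, h.sq], conj_mem_coreAt g h.mem,
    fun q hq r hr => ?_, fun q hq hc => ?_, fun c hc => ?_⟩
  · obtain ⟨q', hq', rfl⟩ := key q hq
    obtain ⟨r', hr', rfl⟩ := key r hr
    rcases h.comm q' hq' r' hr' with e | e
    · exact Or.inl (by rw [show g * q' * g⁻¹ * (g * r' * g⁻¹) * (g * q' * g⁻¹)⁻¹ =
        g * (q' * r' * q'⁻¹) * g⁻¹ by group, e])
    · exact Or.inr (by rw [show g * q' * g⁻¹ * (g * r' * g⁻¹) * (g * q' * g⁻¹)⁻¹ =
        g * (q' * r' * q'⁻¹) * g⁻¹ by group, e]; group)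
  · obtain ⟨q', hq', rfl⟩ := key q hq
    rcases h.central q' hq' (fun r hr => by
        calc r * q' = g⁻¹ * (g * r * g⁻¹ * (g * q' * g⁻¹)) * g := by group
          _ = g⁻¹ * (g * q' * g⁻¹ * (g * r * g⁻¹)) * g := by rw [hc _ (conj_mem_coreAt g hr)]
          _ = q' * r := by group) with rfl | rfl
    · exact Or.inl (by group)
    · exact Or.inr rfl
  · have := h.self_centralizing (g⁻¹ * c * g) (fun q hq => by
      calc g⁻¹ * c * g * q = g⁻¹ * (c * (g * q * g⁻¹)) * g := by group
        _ = g⁻¹ * (g * q * g⁻¹ * c) * g := by rw [hc _ (conj_mem_coreAt g hq)]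
        _ = q * (g⁻¹ * c * g) := by group)
    have := conj_mem_coreAt g this
    simpa [mul_assoc] using this

variable {x : G}

theorem Singular.sq_cases (h : Singular x) {q : G} (hq : q ∈ coreAt x) :
    q * q = 1 ∨ q * q = x := by
  refine h.central _ (mul_mem hq hq) fun r hr => ?_
  rw [← mul_inv_eq_iff_eq_mul, show r * (q * q) * r⁻¹ = r * q * r⁻¹ * (r * q * r⁻¹) by group]
  rcases h.comm r hr q hq with e | e
  · rw [e]
  · rw [e, show q * x * (q * x) = q * (x * q) * x by group, commute_of_mem_coreAt hq,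
      show q * (q * x) * x = q * q * (x * x) by group, h.sq, mul_one]

theorem Singular.inv_cases (h : Singular x) {q : G} (hq : q ∈ coreAt x) :
    q⁻¹ = q ∨ q⁻¹ = q * x := by
  rcases h.sq_cases hq with e | e
  · exact Or.inl (inv_eq_of_mul_eq_one_right e)
  · exact Or.inr (inv_eq_of_mul_eq_one_right (by rw [← mul_assoc, e, h.sq]))

/-- Double centralizer property of an extraspecial group: what commutes with everything commuting
with `T` lies in the subgroup generated by `T` and the central involution. -/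
theorem Singular.double_centralizer [DecidableEq G] (h : Singular x) (T : Finset G)
    (hT : ∀ t ∈ T, t ∈ coreAt x) {a : G} (ha : a ∈ coreAt x)
    (hc : ∀ q ∈ coreAt x, (∀ t ∈ T, q * t = t * q) → q * a = a * q) :
    a ∈ Subgroup.closure (insert x (T : Set G)) := by
  induction T using Finset.induction_on generalizing a with
  | empty =>
    rcases h.central a ha (fun r hr => hc r hr (by simp)) with rfl | rfl
    · exact one_mem _
    · exact Subgroup.subset_closure (Set.mem_insert _ _)
  | @insert w T hw ih =>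
    simp only [Finset.mem_insert, forall_eq_or_imp] at hT hc
    have mono : Subgroup.closure (insert x (T : Set G)) ≤
        Subgroup.closure (insert x ((insert w T : Finset G) : Set G)) :=
      Subgroup.closure_mono (Set.insert_subset_insert (by simp))
    by_cases hr : ∀ r ∈ coreAt x, (∀ t ∈ T, r * t = t * r) → r * w = w * r
    · exact mono (ih hT.2 ha fun q hq hqT => hc q hq ⟨hr q hq hqT, hqT⟩)
    push Not at hr
    obtain ⟨r, hr, hrT, hrw⟩ := hr
    have hrw' : r * w * r⁻¹ = w * x := (h.comm r hr w hT.1).resolve_left fun e =>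
      hrw (mul_inv_eq_iff_eq_mul.mp e)
    -- every element centralizing `T` is in the centralizer of `w` or in its translate by `r`
    have split : ∀ q ∈ coreAt x, (∀ t ∈ T, q * t = t * q) → q * w = w * q ∨
        r⁻¹ * q * w = w * (r⁻¹ * q) := by
      intro q hq hqT
      rcases h.comm q hq w hT.1 with e | e
      · exact Or.inl (mul_inv_eq_iff_eq_mul.mp e)
      · right
        have hw' : r⁻¹ * (w * x) = w * r⁻¹ := by rw [← hrw']; group
        rw [show r⁻¹ * q * w = r⁻¹ * (q * w * q⁻¹) * q by group, e, hw']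
        group
    have hTc : ∀ q ∈ coreAt x, (∀ t ∈ T, q * t = t * q) → ∀ t ∈ T,
        r⁻¹ * q * t = t * (r⁻¹ * q) := fun q _ hqT t ht => by
      rw [mul_assoc, hqT t ht, ← mul_assoc, (Commute.inv_left (hrT t ht)).eq, mul_assoc]
    by_cases hra : r * a = a * r
    · refine mono (ih hT.2 ha fun q hq hqT => ?_)
      rcases split q hq hqT with e | e
      · exact hc q hq ⟨e, hqT⟩
      · have := hc (r⁻¹ * q) (mul_mem (inv_mem hr) hq) ⟨e, hTc q hq hqT⟩
        calc q * a = r * (r⁻¹ * q * a) := by group
          _ = r * a * (r⁻¹ * q) := by rw [this]; group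
          _ = a * q := by rw [hra]; group
    · have hra' : r * a * r⁻¹ = a * x := (h.comm r hr a ha).resolve_left fun e =>
        hra (mul_inv_eq_iff_eq_mul.mp e)
      have haw : a * w ∈ Subgroup.closure (insert x (T : Set G)) := by
        refine ih hT.2 (mul_mem ha hT.1) fun q hq hqT => ?_
        have hrr : r * (a * w) = a * w * r := by
          rw [← mul_inv_eq_iff_eq_mul, show r * (a * w) * r⁻¹ = r * a * r⁻¹ * (r * w * r⁻¹) by
            group, hra', hrw', show a * x * (w * x) = a * (x * w) * x by group,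
            commute_of_mem_coreAt hT.1, show a * (w * x) * x = a * w * (x * x) by group, h.sq,
            mul_one]
        rcases split q hq hqT with e | e
        · rw [← mul_assoc, hc q hq ⟨e, hqT⟩, mul_assoc, e, ← mul_assoc]
        · have h1 := hc (r⁻¹ * q) (mul_mem (inv_mem hr) hq) ⟨e, hTc q hq hqT⟩
          calc q * (a * w) = r * ((r⁻¹ * q * a) * w) := by group
            _ = r * (a * (r⁻¹ * q * w)) := by rw [h1]; group
            _ = r * (a * w) * (r⁻¹ * q) := by rw [e]; group
            _ = a * w * q := by rw [hrr]; group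
      have hwm : w ∈ Subgroup.closure (insert x ((insert w T : Finset G) : Set G)) :=
        Subgroup.subset_closure (by simp)
      simpa using mul_mem (mono haw) (inv_mem hwm)

/-- Separating an element from one other by a member of the core. -/
theorem Singular.exists_move (h : Singular x) {a b : G} (ha : a ∈ coreAt x) (hb : b ∈ coreAt x)
    (h1 : b ≠ 1) (h2 : b ≠ x) (h3 : b ≠ a) (h4 : b ≠ a * x) :
    ∃ q ∈ coreAt x, q * a = a * q ∧ q * b * q⁻¹ = b * x := by
  classical
  by_contra hcon
  push Not at hcon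
  have key := h.double_centralizer {a} (by simpa using ha) hb (fun q hq hqa => by
    have hqa : q * a = a * q := hqa a (by simp)
    rcases h.comm q hq b hb with e | e
    · exact mul_inv_eq_iff_eq_mul.mp e
    · exact absurd e (hcon q hq hqa))
  have : ∀ y ∈ Subgroup.closure (insert x (({a} : Finset G) : Set G)),
      y = 1 ∨ y = x ∨ y = a ∨ y = a * x := by
    intro y hy
    have hxa := commute_of_mem_coreAt ha
    induction hy using Subgroup.closure_induction with
    | mem y hy => simp at hy; tauto
    | one => tauto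
    | mul y z _ _ hy hz =>
      have hxx : x * x = 1 := h.sq
      have hxxr : ∀ t : G, x * (x * t) = t := fun t => by rw [← mul_assoc, hxx, one_mul]
      have hxar : ∀ t : G, x * (a * t) = a * (x * t) := fun t => by
        rw [← mul_assoc, hxa, mul_assoc]
      rcases h.sq_cases ha with e | e
      all_goals
        have her : ∀ t : G, a * (a * t) = (a * a) * t := fun t => by rw [mul_assoc]
        rw [e] at her
        rcases hy with rfl | rfl | rfl | rfl <;> rcases hz with rfl | rfl | rfl | rfl <;>
          simp [mul_assoc, e, her, hxx, hxa, hxar]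
    | inv y _ hy =>
      have hx' : x⁻¹ = x := inv_eq_of_mul_eq_one_right h.sq
      rcases hy with rfl | rfl | rfl | rfl
      · simp
      · simp [hx']
      · rcases h.inv_cases ha with e | e <;> rw [e] <;> tauto
      · rw [mul_inv_rev, hx']
        rcases h.inv_cases ha with e | e <;> rw [e]
        · rw [hxa]; tauto
        · rw [← mul_assoc, hxa, mul_assoc, h.sq, mul_one]; tauto
  rcases this b key with e | e | e | e <;> tauto

/-- Orthogonality of singular involutions is symmetric. -/
theorem Singular.symm {y : G} (hx : Singular x) (hy : Singular y) (hx1 : x ≠ 1)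
    (h : x ∈ coreAt y) : y ∈ coreAt x := by
  by_contra hyx
  have hne : x ≠ y := fun e => hyx (e ▸ hx.mem)
  have hcxy : y * x = x * y := commute_of_mem_coreAt h
  have hxy : x * y ∉ coreAt x := fun e => hyx (by
    simpa [← mul_assoc, hx.sq] using mul_mem hx.mem e)
  -- nothing centralizing `x` moves `y` to `y * x`
  have noMove : ∀ c : G, c * x = x * c → c * y * c⁻¹ ≠ y * x := by
    intro c hc e
    have h1 : x ∈ coreAt (y * x) := by
      simpa [e, hc] using conj_mem_coreAt c h
    obtain ⟨r, hrm, -, hr⟩ := hy.exists_move hy.mem h hx1 hne hne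
      (fun e => hx1 (by rw [e, hy.sq]))
    have hry : r * y * r⁻¹ = y := by rw [← commute_of_mem_coreAt hrm, mul_inv_cancel_right]
    have h2 := conj_mem_coreAt r h1
    rw [hr, show r * (y * x) * r⁻¹ = r * y * r⁻¹ * (r * x * r⁻¹) by group, hry, hr,
      ← mul_assoc, hcxy, mul_assoc, hy.sq, mul_one] at h2
    exact hxy h2
  -- elements of both cores centralizing `x` are powers of `x`
  have hI : ∀ w ∈ coreAt x, w ∈ coreAt y → w = 1 ∨ w = x := by
    intro w hwx hwy
    by_contra hcon
    push Not at hcon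
    have hwy' : w ≠ y := fun e => hyx (e ▸ hwx)
    have hwxy : w ≠ x * y := fun e => hxy (e ▸ hwx)
    obtain ⟨q, hq, hqx, hqw⟩ := hy.exists_move h hwy hcon.1 hwy' hcon.2 hwxy
    have := mul_mem (inv_mem hwx) (conj_mem_coreAt_of_commute hqx hwx)
    rw [hqw, inv_mul_cancel_left] at this
    exact hyx this
  -- [core y ∩ C(x), core x ∩ C(y)] consists of powers of `x`
  have hAB : ∀ a ∈ coreAt y, a * x = x * a → ∀ b ∈ coreAt x, b * y = y * b →
      a * b * a⁻¹ * b⁻¹ = 1 ∨ a * b * a⁻¹ * b⁻¹ = x := by
    intro a ha hax b hb hby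
    refine hI _ (mul_mem (conj_mem_coreAt_of_commute hax hb) (inv_mem hb)) ?_
    rw [show a * b * a⁻¹ * b⁻¹ = a * (b * a⁻¹ * b⁻¹) by group]
    exact mul_mem ha (conj_mem_coreAt_of_commute hby (inv_mem ha))
  have hy' : y⁻¹ = y := inv_eq_of_mul_eq_one_right hy.sq
  have hconjy : ∀ v ∈ coreAt x, y * v * y * v⁻¹ ∈ coreAt x := fun v hv => by
    have := mul_mem (conj_mem_coreAt_of_commute hcxy hv) (inv_mem hv)
    rwa [hy'] at this
  -- [core x, y] commutes with `y`
  have hu : ∀ v ∈ coreAt x, y * (y * v * y * v⁻¹) = y * v * y * v⁻¹ * y := by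
    intro v hv
    have hm := hconjy v hv
    set u := y * v * y * v⁻¹ with hu
    have hyuy : y * u * y = u⁻¹ := by
      rw [hu, show (y * v * y * v⁻¹)⁻¹ = v * y⁻¹ * v⁻¹ * y⁻¹ by group, hy']
      simp [← mul_assoc, hy.sq]
    rcases hx.inv_cases hm with e | e
    · rw [e] at hyuy
      calc y * u = y * u * (y * y) := by rw [hy.sq, mul_one]
        _ = u * y := by rw [← mul_assoc, hyuy]
    · exfalso
      rw [e] at hyuy
      have hcu : u * x = x * u := (commute_of_mem_coreAt hm).symm
      apply noMove u⁻¹ (Commute.inv_left hcu).eq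
      have h1 : y * u = u * x * y := by
        calc y * u = y * u * (y * y) := by rw [hy.sq, mul_one]
          _ = u * x * y := by rw [← mul_assoc, hyuy]
      rw [inv_inv, mul_assoc, h1, mul_assoc u x y, inv_mul_cancel_left, hcxy]
  have hD : ∀ v ∈ coreAt x, y * v * y * v⁻¹ = 1 ∨ y * v * y * v⁻¹ = x → y * v = v * y := by
    intro v hv hcase
    rcases hcase with e | e
    · rw [mul_inv_eq_one] at e
      calc y * v = y * v * (y * y) := by rw [hy.sq, mul_one]
        _ = v * y := by rw [← mul_assoc, e]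
    · exfalso
      rw [mul_inv_eq_iff_eq_mul] at e
      apply noMove v (commute_of_mem_coreAt hv).symm
      have h2 : v * y = y * (x * v) := by
        calc v * y = y * y * (v * y) := by rw [hy.sq, one_mul]
          _ = y * (y * v * y) := by group
          _ = y * (x * v) := by rw [e]
      rw [h2]; group
  -- what commutes with core x ∩ C(y) commutes with `y`
  have hperp : ∀ d ∈ coreAt x, (∀ b ∈ coreAt x, b * y = y * b → b * d = d * b) →
      y * d = d * y := by
    intro d hd hdc
    refine hD d hd (hx.central _ (hconjy d hd) fun v hv => ?_)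
    set u := y * v * y * v⁻¹ with hu'
    have huc : u * d = d * u := hdc u (hconjy v hv) (hu v hv).symm
    have key : v * (y * d * y) * v⁻¹ * (y * d * y)⁻¹ = v * d * v⁻¹ * d⁻¹ := by
      have h2 : y * v * y = u * v := by rw [hu']; group
      calc v * (y * d * y) * v⁻¹ * (y * d * y)⁻¹
          = y * ((y * v * y) * d * (y * v * y)⁻¹ * d⁻¹) * y⁻¹ := by
            simp [← mul_assoc, hy.sq, hy', mul_inv_rev]
        _ = y * (u * (v * d * v⁻¹) * u⁻¹ * d⁻¹) * y⁻¹ := by rw [h2]; group
        _ = v * d * v⁻¹ * d⁻¹ := by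
            rcases hx.comm v hv d hd with e | e <;> rw [e]
            · rw [huc]; simp
            · rw [show u * (d * x) * u⁻¹ = (u * d) * x * u⁻¹ by group, huc,
                mul_assoc d u x, (commute_of_mem_coreAt (hconjy v hv)).symm,
                show d * (x * u) * u⁻¹ = d * x by group, ← commute_of_mem_coreAt hd,
                show x * d * d⁻¹ = x by group, hcxy]
              group
    rcases hx.comm v hv d hd with e | e <;> rw [e] at key
    · rw [mul_inv_cancel, mul_inv_eq_one] at key
      calc v * (y * d * y * d⁻¹) = v * (y * d * y) * v⁻¹ * (v * d⁻¹) := by group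
        _ = y * d * y * (v * d⁻¹) := by rw [key]
        _ = y * d * y * d⁻¹ * v := by
            rw [mul_assoc _ d⁻¹ v, (Commute.inv_right (mul_inv_eq_iff_eq_mul.mp e)).eq]
    · rw [← commute_of_mem_coreAt hd, mul_inv_cancel_right, mul_inv_eq_iff_eq_mul] at key
      have e' : v * d⁻¹ * v⁻¹ = x⁻¹ * d⁻¹ := by
        rw [show v * d⁻¹ * v⁻¹ = (v * d * v⁻¹)⁻¹ by group, e, mul_inv_rev]
      rw [← mul_inv_eq_iff_eq_mul]
      rw [show v * (y * d * y * d⁻¹) * v⁻¹ = v * (y * d * y) * v⁻¹ * (v * d⁻¹ * v⁻¹) by group,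
        key, e']
      have hxe : x * (y * d * y) = y * d * y * x := commute_of_mem_coreAt (by
        have := conj_mem_coreAt_of_commute hcxy hd
        rwa [hy'] at this)
      rw [hxe]; group
  -- core y ∩ C(x) is commutative
  have habel : ∀ a ∈ coreAt y, a * x = x * a → ∀ a' ∈ coreAt y, a' * x = x * a' →
      a * a' * a⁻¹ ≠ a' * y := by
    intro a ha hax a' ha' hax' e
    apply hyx
    refine hx.self_centralizing y fun v hv => hD v hv ?_
    have dmem : ∀ c ∈ coreAt y, c * x = x * c → c * v * c⁻¹ * v⁻¹ ∈ coreAt x ∧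
        y * (c * v * c⁻¹ * v⁻¹) = c * v * c⁻¹ * v⁻¹ * y := by
      intro c hc hcx
      have hd := mul_mem (conj_mem_coreAt_of_commute hcx hv) (inv_mem hv)
      refine ⟨hd, hperp _ hd fun b hb hby => ?_⟩
      have hcb : b * (c * v * c⁻¹) * b⁻¹ * (c * v * c⁻¹)⁻¹ = b * v * b⁻¹ * v⁻¹ := by
        have hcm := hAB c⁻¹ (inv_mem hc) (Commute.inv_left hcx).eq b hb hby
        have h2 : c⁻¹ * b * c = (c⁻¹ * b * c⁻¹⁻¹ * b⁻¹) * b := by group
        have hεc : ∀ ε, ε = 1 ∨ ε = x → ∀ t ∈ coreAt x, ε * t = t * ε := by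
          rintro ε (rfl | rfl) t ht
          · simp
          · exact commute_of_mem_coreAt ht
        set ε := c⁻¹ * b * c⁻¹⁻¹ * b⁻¹ with hε
        have hbv : b * v * b⁻¹ * v⁻¹ = 1 ∨ b * v * b⁻¹ * v⁻¹ = x := by
          rcases hx.comm b hb v hv with e | e <;> rw [e]
          · simp
          · rw [← commute_of_mem_coreAt hv]; simp
        calc b * (c * v * c⁻¹) * b⁻¹ * (c * v * c⁻¹)⁻¹
            = c * ((c⁻¹ * b * c) * v * (c⁻¹ * b * c)⁻¹ * v⁻¹) * c⁻¹ := by group
          _ = c * (ε * (b * v * b⁻¹) * ε⁻¹ * v⁻¹) * c⁻¹ := by rw [h2]; group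
          _ = c * (b * v * b⁻¹ * v⁻¹) * c⁻¹ := by
              rw [hεc ε hcm _ (mul_mem (mul_mem hb hv) (inv_mem hb)), mul_inv_cancel_right]
          _ = b * v * b⁻¹ * v⁻¹ := by
              rcases hbv with e | e <;> rw [e]
              · simp
              · rw [hcx, mul_inv_cancel_right]
      rw [← mul_inv_eq_iff_eq_mul]
      set t := c * v * c⁻¹
      calc b * (t * v⁻¹) * b⁻¹ = b * t * b⁻¹ * t⁻¹ * t * (b * v * b⁻¹)⁻¹ := by group
        _ = b * v * b⁻¹ * v⁻¹ * t * (b * v * b⁻¹)⁻¹ := by rw [hcb]
        _ = t * v⁻¹ := by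
            rcases hx.comm b hb v hv with e | e <;> rw [e]
            · group
            · rw [← commute_of_mem_coreAt hv, mul_inv_cancel_right, mul_inv_rev,
                show x * t * (v⁻¹ * x⁻¹) = x * (t * v⁻¹) * x⁻¹ by group,
                commute_of_mem_coreAt (mul_mem (conj_mem_coreAt_of_commute hcx hv) (inv_mem hv)),
                mul_inv_cancel_right]
    obtain ⟨hd, hyd⟩ := dmem a ha hax
    obtain ⟨hd', hyd'⟩ := dmem a' ha' hax'
    set d := a * v * a⁻¹ * v⁻¹ with hdd
    set d' := a' * v * a'⁻¹ * v⁻¹ with hdd'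
    have h1 : a * a' = a' * a * y := by
      have hya := commute_of_mem_coreAt ha
      rw [mul_inv_eq_iff_eq_mul] at e
      rw [e, mul_assoc, hya, mul_assoc]
    -- compare the two orders of conjugation of `v`
    have l : a * (a' * v * a'⁻¹) * a⁻¹ = a * d' * a⁻¹ * (d * v) := by rw [hdd, hdd']; group
    have r : a' * (a * v * a⁻¹) * a'⁻¹ = a' * d * a'⁻¹ * (d' * v) := by rw [hdd, hdd']; group
    have hdy : a * d' * a⁻¹ * d'⁻¹ = 1 ∨ a * d' * a⁻¹ * d'⁻¹ = x :=
      hAB a ha hax d' hd' hyd'.symm
    have hd'y : a' * d * a'⁻¹ * d⁻¹ = 1 ∨ a' * d * a'⁻¹ * d⁻¹ = x :=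
      hAB a' ha' hax' d hd hyd.symm
    have hdd2 : d' * d * d'⁻¹ * d⁻¹ = 1 ∨ d' * d * d'⁻¹ * d⁻¹ = x := by
      rcases hx.comm d' hd' d hd with e | e <;> rw [e]
      · simp
      · rw [← commute_of_mem_coreAt hd]; simp
    have cen : ∀ t : G, t = 1 ∨ t = x → ∀ w ∈ coreAt x, t * w = w * t := by
      rintro t (rfl | rfl) w hw
      · simp
      · exact commute_of_mem_coreAt hw
    have powers : ∀ s t : G, s = 1 ∨ s = x → t = 1 ∨ t = x → s * t = 1 ∨ s * t = x := by
      rintro s t (rfl | rfl) (rfl | rfl) <;> simp [hx.sq]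
    have xinv : x⁻¹ = x := inv_eq_of_mul_eq_one_right hx.sq
    set ε := a * d' * a⁻¹ * d'⁻¹ with hε
    set ε' := a' * d * a'⁻¹ * d⁻¹ with hε'
    set η := d' * d * d'⁻¹ * d⁻¹ with hη
    have L : a * (a' * v * a'⁻¹) * a⁻¹ = ε * η * (d * d' * v) := by
      rw [l, show a * d' * a⁻¹ = ε * d' by rw [hε]; group,
        show ε * η * (d * d' * v) = ε * (η * d * d') * v by group,
        show η * d * d' = d' * d by rw [hη]; group]
      group
    have R : a' * (a * v * a⁻¹) * a'⁻¹ = ε' * (d * d' * v) := by
      rw [r, show a' * d * a'⁻¹ = ε' * d by rw [hε']; group]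
      group
    have inv_pow : ε'⁻¹ = 1 ∨ ε'⁻¹ = x := by
      rcases hd'y with e | e <;> rw [e]
      · simp
      · exact Or.inr xinv
    have hs := powers _ _ inv_pow (powers _ _ hdy hdd2)
    set s := ε'⁻¹ * (ε * η) with hsdef
    -- y conjugates `v` to `s * v`
    have hyv : y * v * y⁻¹ = s * v := by
      have h3 : y = (a' * a)⁻¹ * (a * a') := by rw [h1]; group
      have hsa : s * (a' * a) = a' * a * s := by
        rcases hs with e | e <;> rw [e]
        · simp
        · exact (Commute.mul_right (Commute.symm hax') (Commute.symm hax)).eq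
      calc y * v * y⁻¹ = (a' * a)⁻¹ * (a * (a' * v * a'⁻¹) * a⁻¹) * (a' * a) := by
            rw [h3]; group
        _ = (a' * a)⁻¹ * (ε' * s * (d * d' * v)) * (a' * a) := by rw [L, hsdef]; group
        _ = (a' * a)⁻¹ * (s * (a' * (a * v * a⁻¹) * a'⁻¹)) * (a' * a) := by
            rw [R, show ε' * s = s * ε' from (cen _ hs ε' (by
              rcases hd'y with e | e <;> rw [e]
              · exact one_mem _
              · exact hx.mem)).symm]
            group
        _ = (a' * a)⁻¹ * (s * (a' * a)) * v := by group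
        _ = s * v := by rw [hsa, inv_mul_cancel_left]
    rw [hy'] at hyv
    rw [hyv, mul_inv_cancel_right]
    exact hs
  -- so core y has order 8
  obtain ⟨r, hr, -, hrx⟩ := hy.exists_move hy.mem h hx1 hne hne
    (fun e => hx1 (by rw [e, hy.sq]))
  have hA : ∀ a ∈ coreAt y, a * x = x * a → a = 1 ∨ a = y ∨ a = x ∨ a = x * y := by
    intro a ha hax
    by_contra hcon
    push Not at hcon
    obtain ⟨q, hq, hqx, hqa⟩ := hy.exists_move h ha hcon.1 hcon.2.1 hcon.2.2.1 hcon.2.2.2
    exact habel q hq hqx a ha hax hqa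
  apply hyx
  refine hx.self_centralizing y fun v hv => hD v hv ?_
  set u := y * v * y * v⁻¹ with hudef
  have hum : u ∈ coreAt x := hconjy v hv
  have huy : u * y = y * u := (hu v hv).symm
  have hux : u * x = x * u := (commute_of_mem_coreAt hum).symm
  have hur : u * r * u⁻¹ ∈ coreAt y := conj_mem_coreAt_of_commute huy hr
  have hmove : u * r * u⁻¹ * x * (u * r * u⁻¹)⁻¹ = x * y := by
    calc u * r * u⁻¹ * x * (u * r * u⁻¹)⁻¹ = u * r * (u⁻¹ * x * u) * r⁻¹ * u⁻¹ := by group
      _ = u * (r * x * r⁻¹) * u⁻¹ := by rw [mul_assoc u⁻¹, ← hux, inv_mul_cancel_left]; group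
      _ = x * y * (u * u⁻¹) := by
          rw [hrx, show u * (x * y) * u⁻¹ = u * x * y * u⁻¹ by group, hux, mul_assoc x u y, huy]
          group
      _ = x * y := by simp
  have hAmem : r⁻¹ * (u * r * u⁻¹) * x = x * (r⁻¹ * (u * r * u⁻¹)) := by
    rw [← mul_inv_eq_iff_eq_mul]
    rw [show r⁻¹ * (u * r * u⁻¹) * x * (r⁻¹ * (u * r * u⁻¹))⁻¹ =
      r⁻¹ * (u * r * u⁻¹ * x * (u * r * u⁻¹)⁻¹) * r by group, hmove, ← hrx]
    group
  -- `u` times a suitable power of `x` centralizes core y, which is generated by x, y and r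
  suffices hres : ∃ w, (w = 1 ∨ w = x) ∧ u * w * r = r * (u * w) by
    obtain ⟨w, hw, hwr⟩ := hres
    have hwy : u * w * y = y * (u * w) := by
      rcases hw with e' | e' <;> rw [e']
      · simpa using huy
      · exact (Commute.mul_left (show Commute u y from huy) hcxy.symm).eq
    have hwx : u * w * x = x * (u * w) := by
      rcases hw with e' | e' <;> rw [e']
      · simpa using hux
      · exact (Commute.mul_left (show Commute u x from hux) (Commute.refl x)).eq
    have hmem : u * w ∈ coreAt y := by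
      refine hy.self_centralizing _ fun q hq => ?_
      rcases hy.comm q hq x h with e | e
      · rcases hA q hq (mul_inv_eq_iff_eq_mul.mp e) with e | e | e | e <;> rw [e]
        · simp
        · exact hwy
        · exact hwx
        · exact (Commute.mul_right (show Commute (u * w) x from hwx) hwy).eq
      · have hq' : r⁻¹ * q * x = x * (r⁻¹ * q) := by
          rw [← mul_inv_eq_iff_eq_mul, show r⁻¹ * q * x * (r⁻¹ * q)⁻¹ =
            r⁻¹ * (q * x * q⁻¹) * r by group, e, ← hrx]
          group
        have : ∀ t, t = 1 ∨ t = y ∨ t = x ∨ t = x * y → u * w * (r * t) = r * t * (u * w) := by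
          intro t ht
          have ht' : Commute (u * w) t := by
            rcases ht with e | e | e | e <;> rw [e]
            · simp
            · exact hwy
            · exact hwx
            · exact Commute.mul_right hwx hwy
          exact (Commute.mul_right (show Commute (u * w) r from hwr) ht').eq
        simpa [mul_inv_cancel_left] using this _ (hA _ (mul_mem (inv_mem hr) hq) hq')
    have hwm : u * w ∈ coreAt x := mul_mem hum (by
      rcases hw with e' | e' <;> rw [e']
      · exact one_mem _
      · exact hx.mem)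
    rcases hI _ hwm hmem with e | e <;> rcases hw with e' | e' <;> rw [e'] at e
    · left; simpa using e
    · right; rw [mul_eq_one_iff_eq_inv, inv_eq_of_mul_eq_one_right hx.sq] at e; exact e
    · right; simpa using e
    · left; simpa using e
  have hrx' : r⁻¹ * x * r = x * y := by
    calc r⁻¹ * x * r = r⁻¹ * (x * y) * y * r := by
          rw [show r⁻¹ * (x * y) * y = r⁻¹ * x * (y * y) by group, hy.sq, mul_one]
      _ = x * r⁻¹ * y * r := by rw [← hrx]; group
      _ = x * y := by rw [mul_assoc, commute_of_mem_coreAt hr]; group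
  rcases hA _ (mul_mem (inv_mem hr) hur) hAmem with e | e | e | e <;>
    rw [inv_mul_eq_iff_eq_mul] at e
  · refine ⟨1, Or.inl rfl, ?_⟩
    rw [mul_one] at e
    rw [mul_one]
    exact mul_inv_eq_iff_eq_mul.mp e
  · refine ⟨x, Or.inr rfl, ?_⟩
    rw [← mul_inv_eq_iff_eq_mul]
    have hxrx : x * r * x⁻¹ = r * y := by
      calc x * r * x⁻¹ = r * (r⁻¹ * x * r) * x⁻¹ := by group
        _ = r * y := by rw [hrx', ← hcxy]; group
    calc u * x * r * (u * x)⁻¹ = u * (x * r * x⁻¹) * u⁻¹ := by group
      _ = u * r * u⁻¹ * (u * y * u⁻¹) := by rw [hxrx]; group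
      _ = r := by
        rw [e, huy, mul_inv_cancel_right, mul_assoc, hy.sq, mul_one]
  all_goals
    exfalso
    have hr2 : u * (r * r) * u⁻¹ = r * r := by
      rcases hy.sq_cases hr with e | e <;> rw [e]
      · simp
      · rw [huy, mul_inv_cancel_right]
    have h2 : u * (r * r) * u⁻¹ = (u * r * u⁻¹) * (u * r * u⁻¹) := by group
    rw [h2, e] at hr2
    have h3 : r * x * (r * x) = r * r * y := by
      calc r * x * (r * x) = r * r * (r⁻¹ * x * r) * x := by group
        _ = r * r * y := by
          rw [hrx', show r * r * (x * y) * x = r * r * (x * (y * x)) by group, hcxy,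
            ← mul_assoc x x y, hx.sq, one_mul]
    have hy1 : y ≠ 1 := fun e => hyx (e ▸ one_mem _)
  · exact hy1 (by rwa [h3, mul_eq_left] at hr2)
  · refine hy1 ?_
    have hyrx : y * (r * x) = r * x * y := commute_of_mem_coreAt (mul_mem hr h)
    rw [← mul_assoc r x y, show r * x * y * (r * x * y) = r * x * (y * (r * x)) * y by group,
      hyrx, show r * x * (r * x * y) * y = r * x * (r * x) * (y * y) by group, hy.sq, mul_one,
      h3, mul_eq_left] at hr2
    exact hr2

end Cfsg.Agent.LargeExtraspecial
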