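import Cfsg.Agent.Lib.LargeExtraspecial.PairStructure
import Cfsg.Prelude.Def_Solvable
import Mathlib.GroupTheory.PGroup

/-!
# `X / R ≅ S₃`, `R = O₂(X)` and `N(V) = X C(V)` for `Pair`
-/

set_option autoImplicit false

namespace Cfsg.Agent.LargeExtraspecial

variable {G : Type*} [Group G] {Q Q' : Subgroup G} {z y : G}

theorem perm_three_gen :
    ∀ σ τ π : Equiv.Perm (Fin 3), σ ≠ 1 → σ * σ = 1 → τ ≠ 1 → τ * τ = 1 → σ ≠ τ →
      π = 1 ∨ π = σ ∨ π = τ ∨ π = σ * τ ∨ π = τ * σ ∨ π = σ * τ * σ := by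
  decide +kernel

theorem perm_three_two_part :
    ∀ σ : Equiv.Perm (Fin 3), σ * σ = 1 →
      (∀ τ : Equiv.Perm (Fin 3), (σ * (τ * σ * τ⁻¹)) * (σ * (τ * σ * τ⁻¹)) = 1) → σ = 1 := by
  decide +kernel

/-- `X ∩ N(V)` maps onto the symmetric group on the three involutions of `V`. -/
theorem Pair.exists_hom (p : Pair Q Q' z y) :
    ∃ φ : ↥(Subgroup.normalizer (Pair.V z y : Set G)) →* Equiv.Perm (Fin 3),
      (∀ n : ↥(Subgroup.normalizer (Pair.V z y : Set G)),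
        φ n = 1 ↔ (n : G) ∈ Subgroup.centralizer (Pair.V z y : Set G)) ∧
      ∀ π, ∃ n : ↥(Subgroup.normalizer (Pair.V z y : Set G)), (n : G) ∈ Q ⊔ Q' ∧ φ n = π := by
  let pts : Fin 3 → G := ![z, y, z * y]
  have h01 : z ≠ y := p.ne.symm
  have h02 : z ≠ z * y := fun e => p.h'.ne_one (mul_eq_left.mp e.symm)
  have h12 : y ≠ z * y := fun e => p.h.ne_one (mul_eq_right.mp e.symm)
  have hinj : Function.Injective pts := by
    intro i j hij
    fin_cases i <;> fin_cases j <;> simp [pts] at hij ⊢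
    all_goals first
      | exact h01 hij | exact h01 hij.symm | exact h02 hij | exact h02 hij.symm
      | exact h12 hij | exact h12 hij.symm | exact p.h.ne_one hij | exact p.h'.ne_one hij
      | exact p.h.ne_one hij.symm | exact p.h'.ne_one hij.symm
  have hmem : ∀ i, pts i ∈ Pair.V z y := fun i => by
    fin_cases i <;> simp [pts] <;> exact p.mem_V_iff.mpr (by simp)
  have hne : ∀ i, pts i ≠ 1 := fun i => by
    fin_cases i <;> simp [pts]
    exacts [p.h.ne_one, p.h'.ne_one, fun e => h01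
      (p.h.inv_z.symm.trans (inv_eq_of_mul_eq_one_right e))]
  have hex : ∀ (n : ↥(Subgroup.normalizer (Pair.V z y : Set G))) (i : Fin 3),
      ∃ j, pts j = n * pts i * (n : G)⁻¹ := by
    intro n i
    rcases p.mem_V_iff.mp ((Subgroup.mem_normalizer_iff.mp n.2 _).mp (hmem i)) with e | e | e | e
    · exact absurd (by simpa using e) (hne i)
    · exact ⟨0, by simp [pts, e]⟩
    · exact ⟨1, by simp [pts, e]⟩
    · exact ⟨2, by simp [pts, e]⟩
  choose f hf using hex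
  have hmul : ∀ m n i, f (m * n) i = f m (f n i) := fun m n i =>
    hinj (by rw [hf, hf, hf, Subgroup.coe_mul]; group)
  have hone : ∀ i, f 1 i = i := fun i => hinj (by rw [hf]; simp)
  let φ : ↥(Subgroup.normalizer (Pair.V z y : Set G)) →* Equiv.Perm (Fin 3) :=
    MonoidHom.mk' (fun n => ⟨f n, f n⁻¹, fun i => by rw [← hmul, inv_mul_cancel, hone],
      fun i => by rw [← hmul, mul_inv_cancel, hone]⟩) (fun m n => Equiv.ext (hmul m n))
  have hφ : ∀ n i, pts (φ n i) = n * pts i * (n : G)⁻¹ := hf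
  refine ⟨φ, fun n => ?_, fun π => ?_⟩
  · constructor
    · intro h
      refine mem_centralizer_pair.mpr ⟨?_, ?_⟩
      · exact (mul_inv_eq_iff_eq_mul.mp (by have := hφ n 0; rw [h] at this; exact this.symm))
      · exact (mul_inv_eq_iff_eq_mul.mp (by have := hφ n 1; rw [h] at this; exact this.symm))
    · intro h
      refine Equiv.ext fun i => hinj ?_
      rw [hφ]
      show _ = pts i
      have hc : Commute (n : G) (pts i) := (h (pts i) (hmem i)).symm
      rw [hc.eq, mul_inv_cancel_right]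
  · obtain ⟨a, ha, b, hb, ⟨haz, hay⟩, ⟨hby, hbz⟩, -⟩ := p.exists_cosets
    have hA : a ∈ Subgroup.normalizer (Pair.V z y : Set G) :=
      p.X_le_normalizer_V (Subgroup.mem_sup_left ha)
    have hB : b ∈ Subgroup.normalizer (Pair.V z y : Set G) :=
      p.X_le_normalizer_V (Subgroup.mem_sup_right hb)
    set A : ↥(Subgroup.normalizer (Pair.V z y : Set G)) := ⟨a, hA⟩
    set B : ↥(Subgroup.normalizer (Pair.V z y : Set G)) := ⟨b, hB⟩
    have haw : a * (z * y) * a⁻¹ = y := by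
      calc _ = (a * z * a⁻¹) * (a * y * a⁻¹) := by group
        _ = y := by rw [haz, hay, ← mul_assoc, p.h.sq, one_mul]
    have hbw : b * (z * y) * b⁻¹ = z := by
      calc _ = (b * z * b⁻¹) * (b * y * b⁻¹) := by group
        _ = z := by rw [hby, hbz, mul_assoc, p.h'.sq, mul_one]
    have eA : φ A = Equiv.swap 1 2 := Equiv.ext fun i => hinj (by
      rw [hφ]; fin_cases i <;> simp [pts, A, haz, hay, haw, Equiv.swap_apply_def])
    have eB : φ B = Equiv.swap 0 2 := Equiv.ext fun i => hinj (by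
      rw [hφ]; fin_cases i <;> simp [pts, B, hby, hbz, hbw, Equiv.swap_apply_def])
    have mA : (A : G) ∈ Q ⊔ Q' := Subgroup.mem_sup_left ha
    have mB : (B : G) ∈ Q ⊔ Q' := Subgroup.mem_sup_right hb
    rcases perm_three_gen (Equiv.swap 1 2) (Equiv.swap 0 2) π (by decide) (by decide) (by decide)
      (by decide) (by decide) with rfl | rfl | rfl | rfl | rfl | rfl
    · exact ⟨1, one_mem _, map_one φ⟩
    · exact ⟨A, mA, eA⟩
    · exact ⟨B, mB, eB⟩
    · exact ⟨A * B, mul_mem mA mB, by rw [map_mul, eA, eB]⟩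
    · exact ⟨B * A, mul_mem mB mA, by rw [map_mul, eA, eB]⟩
    · exact ⟨A * B * A, mul_mem (mul_mem mA mB) mA, by rw [map_mul, map_mul, eA, eB]⟩

theorem Pair.exists_quotient_iso (p : Pair Q Q' z y) :
    ∃ _ : ((Pair.R Q Q' z y).subgroupOf (Q ⊔ Q')).Normal,
      Nonempty (↥(Q ⊔ Q') ⧸ (Pair.R Q Q' z y).subgroupOf (Q ⊔ Q') ≃* Equiv.Perm (Fin 3)) := by
  obtain ⟨φ, hker, hsurj⟩ := p.exists_hom
  let ψ : ↥(Q ⊔ Q') →* Equiv.Perm (Fin 3) :=
    φ.comp (Subgroup.inclusion p.X_le_normalizer_V)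
  have hk : ψ.ker = (Pair.R Q Q' z y).subgroupOf (Q ⊔ Q') := by
    ext x
    rw [MonoidHom.mem_ker, Subgroup.mem_subgroupOf, p.R_eq_inf_centralizer]
    show φ (Subgroup.inclusion p.X_le_normalizer_V x) = 1 ↔ _
    rw [hker]
    exact ⟨fun h => ⟨x.2, h⟩, fun h => h.2⟩
  have hs : Function.Surjective ψ := by
    intro π
    obtain ⟨n, hn, e⟩ := hsurj π
    exact ⟨⟨n, hn⟩, e⟩
  haveI hn : ((Pair.R Q Q' z y).subgroupOf (Q ⊔ Q')).Normal := hk ▸ MonoidHom.normal_ker ψ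
  exact ⟨hn, ⟨(QuotientGroup.quotientMulEquivOfEq hk.symm).trans
    (QuotientGroup.quotientKerEquivOfSurjective ψ hs)⟩⟩

theorem Pair.pCore_X (p : Pair Q Q' z y) :
    Pair.R Q Q' z y = (Cfsg.pCore 2 ↥(Q ⊔ Q')).map (Q ⊔ Q').subtype := by
  have : Fact (Nat.Prime 2) := ⟨Nat.prime_two⟩
  obtain ⟨hn, -⟩ := p.exists_quotient_iso
  apply le_antisymm
  · intro r hr
    refine ⟨⟨r, Pair.R_le_X hr⟩, ?_, rfl⟩
    suffices hle : (Pair.R Q Q' z y).subgroupOf (Q ⊔ Q') ≤ Cfsg.pCore 2 ↥(Q ⊔ Q') from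
      hle (Subgroup.mem_subgroupOf.mpr hr)
    refine le_sSup ⟨hn, ?_⟩
    intro x
    refine ⟨2, Subtype.ext (Subtype.ext ?_)⟩
    show ((x : ↥(Q ⊔ Q')) : G) ^ (2 ^ 2) = 1
    rw [show (2 : ℕ) ^ 2 = 2 * 2 from rfl, pow_mul, pow_two (((x : ↥(Q ⊔ Q'))  : G) ^ 2)]
    exact p.E_sq (p.sq_R (Subgroup.mem_subgroupOf.mp x.2))
  · rw [Subgroup.map_le_iff_le_comap]
    refine sSup_le ?_
    rintro N ⟨hN, hNp⟩ x hx
    obtain ⟨φ, hker, hsurj⟩ := p.exists_hom
    let ψ : ↥(Q ⊔ Q') →* Equiv.Perm (Fin 3) :=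
      φ.comp (Subgroup.inclusion p.X_le_normalizer_V)
    have sq : ∀ w ∈ N, ψ w * ψ w = 1 := by
      intro w hw
      obtain ⟨k, hk⟩ := hNp ⟨w, hw⟩
      have h1 : w ^ 2 ^ k = 1 := congrArg Subtype.val hk
      have h2 : orderOf (ψ w) ∣ 2 ^ k := orderOf_dvd_of_pow_eq_one (by rw [← map_pow, h1, map_one])
      have h3 : orderOf (ψ w) ∣ 6 := by
        have := orderOf_dvd_natCard (ψ w)
        rwa [Nat.card_eq_fintype_card, Fintype.card_perm, Fintype.card_fin] at this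
      obtain ⟨i, -, hi⟩ := (Nat.dvd_prime_pow Nat.prime_two).mp h2
      have hi2 : i ≤ 1 := by
        by_contra hgt
        have : 4 ∣ 6 := (pow_dvd_pow 2 (show 2 ≤ i by omega)).trans (hi ▸ h3)
        norm_num at this
      have : orderOf (ψ w) ∣ 2 := hi ▸ (pow_dvd_pow 2 hi2).trans (by norm_num)
      rw [← pow_two]; exact orderOf_dvd_iff_pow_eq_one.mp this
    have h1 : ψ x = 1 := by
      refine perm_three_two_part _ (sq x hx) fun τ => ?_
      obtain ⟨n, hn', rfl⟩ := hsurj τ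
      have := sq _ (N.mul_mem hx (hN.conj_mem x hx ⟨n, hn'⟩))
      rw [map_mul, map_mul, map_mul, map_inv] at this
      exact this
    show (x : G) ∈ Pair.R Q Q' z y
    rw [p.R_eq_inf_centralizer]
    exact ⟨x.2, (hker _).mp h1⟩

theorem Pair.exists_mul_centralizer (p : Pair Q Q' z y) {n : G}
    (hn : n ∈ Subgroup.normalizer (Pair.V z y : Set G)) :
    ∃ x ∈ Q ⊔ Q', x⁻¹ * n ∈ Subgroup.centralizer (Pair.V z y : Set G) := by
  obtain ⟨φ, hker, hsurj⟩ := p.exists_hom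
  obtain ⟨x, hx, he⟩ := hsurj (φ ⟨n, hn⟩)
  exact ⟨x, hx, (hker (x⁻¹ * ⟨n, hn⟩)).mp (by rw [map_mul, map_inv, he, inv_mul_cancel])⟩

theorem Pair.centralizer_V_eq :
    Subgroup.centralizer ({z} : Set G) ⊓ Subgroup.centralizer (Pair.V z y : Set G) =
      Subgroup.centralizer (Pair.V z y : Set G) :=
  inf_eq_right.mpr fun _ hx =>
    Subgroup.mem_centralizer_singleton_iff.mpr (mem_centralizer_pair.mp hx).1.eq

theorem Pair.normalizer_eq (p : Pair Q Q' z y) :
    Subgroup.normalizer (Pair.V z y : Set G) =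
      (Q ⊔ Q') ⊔ Subgroup.centralizer (Pair.V z y : Set G) := by
  refine le_antisymm (fun n hn => ?_) (sup_le p.X_le_normalizer_V fun c hc => ?_)
  · obtain ⟨x, hx, hc⟩ := p.exists_mul_centralizer hn
    have := Subgroup.mul_mem_sup hx hc
    rwa [mul_inv_cancel_left] at this
  · refine mem_normalizer_of_conj (fun w hw => ?_) (fun w hw => ?_)
    · rwa [(hc w hw).symm, mul_inv_cancel_right]
    · rwa [mul_assoc, hc w hw, inv_mul_cancel_left]

theorem Pair.conj_X_mem (p : Pair Q Q' z y) {n : G}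
    (hn : n ∈ Subgroup.normalizer (Pair.V z y : Set G)) {w : G} (hw : w ∈ Q ⊔ Q') :
    n * w * n⁻¹ ∈ Q ⊔ Q' := by
  obtain ⟨x, hx, hc⟩ := p.exists_mul_centralizer hn
  obtain ⟨cz, cy⟩ := mem_centralizer_pair.mp hc
  have key : Q ⊔ Q' ≤ (Q ⊔ Q').comap (MulAut.conj (x⁻¹ * n)).toMonoidHom :=
    sup_le (fun q hq => Subgroup.mem_sup_left (p.h.normalizes _ cz q hq))
      (fun q hq => Subgroup.mem_sup_right (p.h'.normalizes _ cy q hq))
  have h : (x⁻¹ * n) * w * (x⁻¹ * n)⁻¹ ∈ Q ⊔ Q' := key hw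
  rw [show n * w * n⁻¹ = x * ((x⁻¹ * n) * w * (x⁻¹ * n)⁻¹) * x⁻¹ by group]
  exact mul_mem (mul_mem hx h) (inv_mem hx)

end Cfsg.Agent.LargeExtraspecial
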