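import Cfsg.Agent.Lib.LargeExtraspecial.Setting
import Cfsg.Agent.Lib.LargeExtraspecial.Basic
import Cfsg.Agent.Lib.Transfer.Residual
import Mathlib.GroupTheory.Transfer

/-!
# The transfer lemma of Smith on large extraspecial subgroups

* `Hub.hom_eq_one`: `O²(G) = G`, `|E| ≥ 32`: every homomorphism of `C(z)` into an abelian
  2-group kills `E`.
-/

set_option autoImplicit false

namespace Cfsg.Agent.LargeExtraspecial

open Subgroup

variable {G : Type*} [Group G] {A : Type*} [CommGroup A]

/-- A homomorphism on a subgroup, extended by `1`. -/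
noncomputable def extOne {H : Subgroup G} (χ : ↥H →* A) (g : G) : A :=
  haveI := Classical.dec (g ∈ H)
  if hg : g ∈ H then χ ⟨g, hg⟩ else 1

theorem extOne_of_mem {H : Subgroup G} (χ : ↥H →* A) {g : G} (hg : g ∈ H) :
    extOne χ g = χ ⟨g, hg⟩ := dif_pos hg

theorem extOne_mul {H : Subgroup G} (χ : ↥H →* A) {a b : G} (ha : a ∈ H) (hb : b ∈ H) :
    extOne χ (a * b) = extOne χ a * extOne χ b := by
  rw [extOne_of_mem χ ha, extOne_of_mem χ hb, extOne_of_mem χ (mul_mem ha hb), ← map_mul]; rfl

theorem extOne_one {H : Subgroup G} (χ : ↥H →* A) : extOne χ (1 : G) = 1 := by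
  rw [extOne_of_mem χ H.one_mem]; exact map_one χ

theorem extOne_conj {H : Subgroup G} (χ : ↥H →* A) {a b : G} (ha : a ∈ H) (hb : b ∈ H) :
    extOne χ (a⁻¹ * b * a) = extOne χ b := by
  rw [extOne_mul χ (mul_mem (inv_mem ha) hb) ha, extOne_mul χ (inv_mem ha) hb, mul_right_comm,
    ← extOne_mul χ (inv_mem ha) ha, inv_mul_cancel, extOne_one, one_mul]

open scoped Classical in
/-- The transfer of an involution as a product over the cosets it fixes. -/
theorem transfer_involution {H : Subgroup G} [H.FiniteIndex] [Fintype (G ⧸ H)] (χ : ↥H →* A)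
    {u : G} (hu : u * u = 1) :
    MonoidHom.transfer χ u =
      ∏ q : G ⧸ H, if u • q = q then extOne χ (q.out⁻¹ * u * q.out) else 1 := by
  have hui : u⁻¹ = u := inv_eq_of_mul_eq_one_right hu
  let T : H.LeftTransversal :=
    ⟨Set.range (Quotient.out : G ⧸ H → G), isComplement_range_left fun q => q.out_eq'⟩
  have hT : ∀ q : G ⧸ H, (T.2.leftQuotientEquiv q : G) = q.out := fun q =>
    IsComplement.leftQuotientEquiv_apply (fun q => q.out_eq') q
  rw [MonoidHom.transfer_def χ T u]
  have hmem : ∀ q : G ⧸ H, q.out⁻¹ * (u * (u • q).out) ∈ H := fun q => by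
    rw [← QuotientGroup.eq, QuotientGroup.out_eq', ← smul_eq_mul, ← MulAction.Quotient.smul_coe,
      QuotientGroup.out_eq', ← mul_smul, hu, one_smul]
  have hterm : leftTransversals.diff χ T (u • T) =
      ∏ q : G ⧸ H, extOne χ (q.out⁻¹ * (u * (u • q).out)) := by
    rw [leftTransversals.diff]
    refine Finset.prod_congr (Finset.ext fun q => by simp) fun q _ => ?_
    rw [extOne_of_mem χ (hmem q)]
    refine congrArg χ (Subtype.ext ?_)
    simp only [smul_apply_eq_smul_apply_inv_smul, hT, hui, smul_eq_mul]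
  rw [hterm, ← Finset.prod_filter_mul_prod_filter_not Finset.univ
      (fun q : G ⧸ H => u • q = q),
    ← Finset.prod_filter (fun q : G ⧸ H => u • q = q)]
  refine (mul_eq_left.mpr (Finset.prod_involution (fun q _ => u • q) ?_ ?_ ?_ ?_)).trans ?_
  rotate_right
  · refine Finset.prod_congr rfl fun q hq => ?_
    rw [(Finset.mem_filter.mp hq).2, ← mul_assoc]
  · intro q hq
    rw [← extOne_mul χ (hmem q) (hmem _), ← mul_smul, hu, one_smul]
    have : q.out⁻¹ * (u * (u • q).out) * ((u • q).out⁻¹ * (u * q.out)) = 1 := by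
      rw [mul_assoc, mul_assoc, mul_inv_cancel_left, ← mul_assoc u u, hu, one_mul, inv_mul_cancel]
    rw [this, extOne_one]
  · intro q hq _
    exact (Finset.mem_filter.mp hq).2
  · intro q hq
    refine Finset.mem_filter.mpr ⟨Finset.mem_univ _, ?_⟩
    have := (Finset.mem_filter.mp hq).2
    rwa [← mul_smul, hu, one_smul, eq_comm]
  · intro q hq
    rw [← mul_smul, hu, one_smul]

open scoped Classical in
/-- For a 2-group action and an invariant function with squares `1`, only fixed points count. -/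
theorem prod_eq_prod_fixed {P α : Type*} [Group P] [Finite P] [MulAction P α] [Fintype α]
    (hP : IsPGroup 2 P) (F : α → A) (hinv : ∀ (p : P) (a : α), F (p • a) = F a)
    (hsq : ∀ a, F a * F a = 1) :
    ∏ a, F a = ∏ a ∈ Finset.univ.filter (fun a => ∀ p : P, p • a = a), F a := by
  have : Fact (Nat.Prime 2) := ⟨Nat.prime_two⟩
  rw [← Finset.prod_filter_mul_prod_filter_not Finset.univ (fun a => ∀ p : P, p • a = a),
    mul_eq_left]
  have : Fintype (MulAction.orbitRel.Quotient P α) := Fintype.ofFinite _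
  rw [← Finset.prod_fiberwise _ (fun a => (Quotient.mk'' a : MulAction.orbitRel.Quotient P α)) F]
  refine Finset.prod_eq_one fun j _ => ?_
  set s := Finset.filter
    (fun a => (Quotient.mk'' a : MulAction.orbitRel.Quotient P α) = j)
    (Finset.filter (fun a => ¬ ∀ p : P, p • a = a) Finset.univ) with hs
  rcases s.eq_empty_or_nonempty with he | ⟨a, ha⟩
  · rw [he, Finset.prod_empty]
  simp only [hs, Finset.mem_filter, Finset.mem_univ, true_and] at ha
  obtain ⟨hna, rfl⟩ := ha
  have hmem : ∀ b, b ∈ s ↔ b ∈ MulAction.orbit P a := by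
    intro b
    simp only [hs, Finset.mem_filter, Finset.mem_univ, true_and, Quotient.eq'',
      MulAction.orbitRel_apply]
    refine ⟨And.right, fun hb => ⟨fun hfix => ?_, hb⟩⟩
    obtain ⟨p, rfl⟩ := hb
    apply hna
    intro r
    have hpa : p • a = a := by
      have := hfix p⁻¹
      simp only [inv_smul_smul] at this
      exact this.symm
    have := hfix r
    simp only at this
    rwa [hpa] at this
  obtain ⟨n, hn⟩ := hP.card_orbit a
  have hn0 : n ≠ 0 := by
    rintro rfl
    apply hna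
    intro r
    rw [pow_zero, Nat.card_eq_one_iff_unique] at hn
    exact congrArg Subtype.val (hn.1.elim (⟨r • a, MulAction.mem_orbit a r⟩ : MulAction.orbit P a)
      ⟨a, MulAction.mem_orbit_self a⟩)
  have hcard : s.card = 2 ^ n := by
    rw [← hn, ← Nat.card_eq_finsetCard]
    exact Nat.card_congr (Equiv.subtypeEquivRight hmem)
  rw [Finset.prod_eq_pow_card (b := F a) fun b hb => ?_, hcard, ← Nat.sub_add_cancel
    (Nat.one_le_iff_ne_zero.mpr hn0), pow_succ', pow_mul, pow_two, hsq, one_pow]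
  obtain ⟨p, rfl⟩ := (hmem b).mp hb
  exact hinv p a

variable {Q : Subgroup G} {z : G}

/-- An element of `Q` whose centraliser in `Q` is abelian forces `|Q| ≤ 8`. -/
theorem Hub.exists_noncommuting_pair' [Finite G] (h : Hub Q z) (hQ : 32 ≤ Nat.card ↥Q) {e : G}
    (he : e ∈ Q) :
    ∃ p₁ ∈ Q, ∃ p₂ ∈ Q, Commute p₁ e ∧ Commute p₂ e ∧ ¬ Commute p₁ p₂ := by
  by_contra hno
  push Not at hno
  classical
  set T := ({1, z, e, z * e} : Finset G)
  have hze : z * e = e * z := (h.central e he).eq.symm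
  have hTm : ∀ x ∈ closure ({z, e} : Set G), x ∈ T := by
    intro x hx
    induction hx using Subgroup.closure_induction with
    | mem x hx => rcases hx with rfl | rfl <;> simp [T]
    | one => simp [T]
    | mul u v _ _ hu hv =>
      have e1 : ∀ t, z * (z * t) = t := fun t => by rw [← mul_assoc, h.sq, one_mul]
      have e3 : ∀ t, e * (z * t) = z * (e * t) := fun t => by rw [← mul_assoc, ← hze, mul_assoc]
      simp only [T, Finset.mem_insert, Finset.mem_singleton] at hu hv ⊢
      rcases h.sq_cases e he with he2 | he2 <;>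
        rcases hu with rfl | rfl | rfl | rfl <;> rcases hv with rfl | rfl | rfl | rfl <;>
        simp [mul_assoc, h.sq, hze.symm, e1, e3, he2]
    | inv u _ hu =>
      have hz' : z⁻¹ = z := inv_eq_of_mul_eq_one_right h.sq
      simp only [T, Finset.mem_insert, Finset.mem_singleton] at hu ⊢
      rcases h.sq_cases e he with he2 | he2
      · have he' : e⁻¹ = e := inv_eq_of_mul_eq_one_right he2
        rcases hu with rfl | rfl | rfl | rfl <;> simp [hz', he', hze]
      · have he' : e⁻¹ = z * e := inv_eq_of_mul_eq_one_right (by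
          rw [hze, ← mul_assoc, he2, h.sq])
        have e1 : ∀ t, z * (z * t) = t := fun t => by rw [← mul_assoc, h.sq, one_mul]
        rcases hu with rfl | rfl | rfl | rfl <;> simp [hz', he', mul_assoc, e1, hze.symm]
  have h4 : ∀ x ∈ Q, Commute x e → x ∈ T := fun x hx hxe =>
    hTm x (h.centralizer_of_self he hx fun p hp hpe => hno x hx p hp hxe hpe)
  have hsub : ∃ q0 : G, ∀ x ∈ Q, x ∈ T ∪ T.image (q0 * ·) := by
    by_cases hall : ∀ x ∈ Q, Commute x e
    · exact ⟨1, fun x hx => Finset.mem_union_left _ (h4 x hx (hall x hx))⟩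
    push Not at hall
    obtain ⟨q0, hq0, hq0e⟩ := hall
    refine ⟨q0, fun x hx => ?_⟩
    by_cases hxe : Commute x e
    · exact Finset.mem_union_left _ (h4 x hx hxe)
    refine Finset.mem_union_right _ (Finset.mem_image.mpr ⟨q0⁻¹ * x, ?_, mul_inv_cancel_left q0 x⟩)
    refine h4 _ (mul_mem (inv_mem hq0) hx) (mul_inv_eq_iff_eq_mul.mp ?_)
    calc q0⁻¹ * x * e * (q0⁻¹ * x)⁻¹ = q0⁻¹ * (x * e * x⁻¹) * q0 := by group
      _ = q0⁻¹ * (q0 * e * q0⁻¹) * q0 := by
        rw [(h.comm q0 hq0 e he).resolve_left fun c => hq0e (mul_inv_eq_iff_eq_mul.mp c),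
          (h.comm x hx e he).resolve_left fun c => hxe (mul_inv_eq_iff_eq_mul.mp c)]
      _ = e := by group
  obtain ⟨q0, hsub⟩ := hsub
  have hle : Nat.card ↥Q ≤ Nat.card ↥(T ∪ T.image (q0 * ·)) :=
    Nat.card_le_card_of_injective (fun x : Q => ⟨(x : G), hsub x x.2⟩)
      fun a b c => Subtype.ext (congrArg (fun u : ↥(T ∪ T.image (q0 * ·)) => (u : G)) c)
  rw [Nat.card_eq_fintype_card (α := ↥(T ∪ T.image (q0 * ·))), Fintype.card_coe] at hle
  have := Finset.card_union_le T (T.image (q0 * ·))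
  have := Finset.card_image_le (s := T) (f := (q0 * ·))
  have : T.card ≤ 4 := Finset.card_le_four
  omega

/-- `C(z)` only fixes `C_Q(u)` and `u` pointwise through `⟨z, u⟩`. -/
theorem Hub.mem_four_of_commute (h : Hub Q z) {u c : G} (hu : u ∈ Q) (hu2 : u * u = 1)
    (h1 : u ≠ 1) (hz : u ≠ z) (hcz : Commute c z) (hcu : Commute c u)
    (hcp : ∀ p ∈ Q, Commute p u → Commute c p) : c = 1 ∨ c = z ∨ c = u ∨ c = z * u := by
  obtain ⟨q, hq, hqu⟩ := h.exists_not_commute h1 hz
  have hqu' : ¬ Commute q u := fun e => hqu e.symm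
  have hquz : q * u * q⁻¹ = u * z :=
    (h.comm q hq u hu).resolve_left fun e => hqu' (mul_inv_eq_iff_eq_mul.mp e)
  have huq : u * q * u⁻¹ = q * z :=
    (h.comm u hu q hq).resolve_left fun e => hqu (mul_inv_eq_iff_eq_mul.mp e)
  have hzu : Commute z u := (h.central u hu).symm
  have hczc : c * z * c⁻¹ = z := by rw [hcz.eq, mul_inv_cancel_right]
  set g := c * q * c⁻¹ with hg
  have hgQ : g ∈ Q := h.normalizes c hcz q hq
  have hdQ : q⁻¹ * g ∈ Q := mul_mem (inv_mem hq) hgQ
  have hgu : g * u * g⁻¹ = u * z := by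
    calc g * u * g⁻¹ = c * (q * (c⁻¹ * u * c) * q⁻¹) * c⁻¹ := by rw [hg]; group
      _ = c * (u * z) * c⁻¹ := by rw [mul_assoc c⁻¹, ← hcu.eq, inv_mul_cancel_left, hquz]
      _ = u * z := by
        rw [show c * (u * z) * c⁻¹ = (c * u * c⁻¹) * (c * z * c⁻¹) by group, hczc, hcu.eq,
          mul_inv_cancel_right]
  have hd : ∀ p ∈ Q, Commute p u → Commute (q⁻¹ * g) p := by
    intro p hp hpu
    have hpg : p * g * p⁻¹ = c * (p * q * p⁻¹) * c⁻¹ := by
      rw [hg]
      calc _ = (p * c) * q * (c⁻¹ * p⁻¹) := by group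
        _ = c * (p * q * p⁻¹) * c⁻¹ := by rw [← (hcp p hp hpu).eq, ← mul_inv_rev,
            ← (hcp p hp hpu).eq, mul_inv_rev]; group
    refine (mul_inv_eq_iff_eq_mul.mp ?_ : p * (q⁻¹ * g) = q⁻¹ * g * p).symm
    calc p * (q⁻¹ * g) * p⁻¹ = (p * q * p⁻¹)⁻¹ * (p * g * p⁻¹) := by group
      _ = q⁻¹ * g := by
        rw [hpg]
        rcases h.comm p hp q hq with e | e <;> rw [e]
        calc (q * z)⁻¹ * (c * (q * z) * c⁻¹) = z⁻¹ * (q⁻¹ * g * (c * z * c⁻¹)) := by
              rw [hg]; group
          _ = q⁻¹ * g := by rw [hczc, (h.central _ hdQ).eq, inv_mul_cancel_left]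
  have hg2 : g * g = q * q := by
    calc g * g = c * (q * q) * c⁻¹ := by rw [hg]; group
      _ = q * q := by rcases h.sq_cases q hq with e | e <;> rw [e] <;> simp [hczc]
  have hall : ∀ c' : G, Commute c' q → (∀ p ∈ Q, Commute p u → Commute c' p) →
      c' = 1 ∨ c' = z := by
    intro c' hc hcp'
    refine h.self c' fun x hx => ?_
    by_cases hxu : Commute x u
    · exact hcp' x hx hxu
    have e2 : x * u * x⁻¹ = u * z :=
      (h.comm x hx u hu).resolve_left fun e => hxu (mul_inv_eq_iff_eq_mul.mp e)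
    have hqx : Commute (q⁻¹ * x) u := mul_inv_eq_iff_eq_mul.mp (by
      calc q⁻¹ * x * u * (q⁻¹ * x)⁻¹ = q⁻¹ * (x * u * x⁻¹) * q := by group
        _ = q⁻¹ * (q * u * q⁻¹) * q := by rw [e2, hquz]
        _ = u := by group)
    simpa using hc.mul_right (hcp' _ (mul_mem (inv_mem hq) hx) hqx)
  have hqgu : q⁻¹ * g = u → False ∧ True := fun e => by
    have eg : g = q * u := by rw [← e, mul_inv_cancel_left]
    refine ⟨h.ne_one ?_, trivial⟩
    have : q * q * z = q * q := by
      calc q * q * z = q * (u * q * u⁻¹) := by rw [huq, mul_assoc]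
        _ = g * g := by rw [eg, inv_eq_of_mul_eq_one_right hu2]; group
        _ = q * q := hg2
    simpa using this
  rcases mem_four h.sq hu2 hzu (h.centralizer_of_self hu hdQ hd) with e | e | e | e
  · rw [inv_mul_eq_one] at e
    have hcq : Commute c q := mul_inv_eq_iff_eq_mul.mp e.symm
    rcases hall c hcq hcp with r | r
    exacts [Or.inl r, Or.inr (Or.inl r)]
  · rw [inv_mul_eq_iff_eq_mul] at e
    have hcq : Commute (c * u) q := mul_inv_eq_iff_eq_mul.mp (by
      calc c * u * q * (c * u)⁻¹ = c * (u * q * u⁻¹) * c⁻¹ := by group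
        _ = g * (c * z * c⁻¹) := by rw [huq, hg]; group
        _ = q := by rw [hczc, e, mul_assoc, h.sq, mul_one])
    rcases hall (c * u) hcq (fun p hp hpu => (hcp p hp hpu).mul_left hpu.symm) with r | r
    · exact Or.inr (Or.inr (Or.inl (by rw [← inv_eq_of_mul_eq_one_left r,
        inv_eq_of_mul_eq_one_right hu2])))
    · refine Or.inr (Or.inr (Or.inr ?_))
      rw [← r, mul_assoc, hu2, mul_one]
  · exact (hqgu e).1.elim
  · exfalso
    have eg : g = q * u * z := by rw [mul_assoc q, ← hzu.eq, ← e, mul_inv_cancel_left]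
    apply h.ne_one
    have : q * q * z = q * q := by
      calc q * q * z = q * (u * q * u⁻¹) := by rw [huq, mul_assoc]
        _ = q * u * (q * u) := by rw [inv_eq_of_mul_eq_one_right hu2]; group
        _ = q * u * z * (q * u * z) := by
          rw [mul_assoc (q * u) z, ← mul_assoc z (q * u) z,
            (h.central _ (mul_mem hq hu)).symm.eq, mul_assoc (q * u) z z, h.sq, mul_one]
        _ = q * q := by rw [← eg, hg2]
    simpa using this

/-- Smith: a homomorphism of `C(z)` into an abelian 2-group kills `E`. -/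
theorem Hub.hom_eq_one [Finite G] {E : Subgroup G} (h : Hub E z)
    (hE : E ≤ centralizer ({z} : Set G)) (hE2 : IsPGroup 2 ↥E) (hcard : 32 ≤ Nat.card ↥E)
    (hres : Cfsg.pResidual 2 G = ⊤) (χ : ↥(centralizer ({z} : Set G)) →* A) (hA : IsPGroup 2 A)
    {q : G} (hq : q ∈ E) : χ ⟨q, hE hq⟩ = 1 := by
  classical
  by_contra hne
  have hmemH : ∀ {g : G}, g ∈ (centralizer ({z} : Set G)) ↔ Commute g z := mem_centralizer_singleton_iff
  set D : Subgroup G := χ.ker.map (centralizer ({z} : Set G)).subtype ⊓ E with hD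
  have hDm : ∀ x ∈ E, (x ∈ D ↔ extOne χ x = 1) := by
    intro x hx
    rw [hD, Subgroup.mem_inf, extOne_of_mem χ (hE hx)]
    refine ⟨?_, fun e => ⟨⟨⟨x, hE hx⟩, e, rfl⟩, hx⟩⟩
    rintro ⟨⟨w, hw, rfl⟩, -⟩
    exact hw
  have hqne : extOne χ q ≠ 1 := by rw [extOne_of_mem χ (hE hq)]; exact hne
  have hχz : extOne χ z = 1 := by
    obtain ⟨a, ha, b, hb, -, -, hab⟩ := h.exists_noncommuting_pair' hcard h.mem
    have e1 : a * b * a⁻¹ = b * z :=
      (h.comm a ha b hb).resolve_left fun c => hab (mul_inv_eq_iff_eq_mul.mp c)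
    have e2 := congrArg (extOne χ) e1
    rwa [extOne_mul χ (mul_mem (hE ha) (hE hb)) (inv_mem (hE ha)), extOne_mul χ (hE ha) (hE hb),
      mul_comm (extOne χ a) (extOne χ b), mul_assoc, ← extOne_mul χ (hE ha) (inv_mem (hE ha)),
      mul_inv_cancel, extOne_one, extOne_mul χ (hE hb) (hE h.mem), mul_left_cancel_iff,
      eq_comm] at e2
  -- an element centralising `D`
  obtain ⟨e, heE, heD, he1, hez⟩ :
      ∃ e ∈ E, (∀ d ∈ D, Commute e d) ∧ e ≠ 1 ∧ e ≠ z := by
    by_contra hno
    push Not at hno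
    refine hqne ((hDm q hq).mp (h.dcc D inf_le_right ((hDm z h.mem).mpr hχz) q hq
      fun w hw hwd => ?_))
    by_cases hw1 : w = 1
    · rw [hw1]; exact Commute.one_right q
    rw [hno w hw hwd hw1]; exact h.central q hq
  have hconj : ∀ a : G, Commute a z → a * e * a⁻¹ = e ∨ a * e * a⁻¹ = e * z := by
    intro a ha
    have hg : a * e * a⁻¹ ∈ E := h.normalizes a ha e heE
    suffices hcm : ∀ p ∈ E, Commute (e⁻¹ * (a * e * a⁻¹)) p by
      rcases h.self _ hcm with r | r
      · rw [inv_mul_eq_one] at r; exact Or.inl r.symm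
      · rw [inv_mul_eq_iff_eq_mul] at r; exact Or.inr r
    intro p hp
    have hb : a⁻¹ * p * a ∈ E := by simpa using h.normalizes a⁻¹ ha.inv_left p hp
    have hd : p⁻¹ * (a⁻¹ * p * a) ∈ D := by
      refine (hDm _ (mul_mem (inv_mem hp) hb)).mpr ?_
      rw [extOne_mul χ (inv_mem (hE hp)) (hE hb), extOne_conj χ (hmemH.mpr ha) (hE hp),
        ← extOne_mul χ (inv_mem (hE hp)) (hE hp), inv_mul_cancel, extOne_one]
    have key : p * (a * e * a⁻¹) * p⁻¹ = a * (p * e * p⁻¹) * a⁻¹ := by
      have hde := (heD _ hd).eq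
      calc p * (a * e * a⁻¹) * p⁻¹
          = a * p * (p⁻¹ * (a⁻¹ * p * a) * e) * (p⁻¹ * (a⁻¹ * p * a))⁻¹ * p⁻¹ * a⁻¹ := by group
        _ = _ := by rw [← hde]; group
    refine (mul_inv_eq_iff_eq_mul.mp ?_ : p * (e⁻¹ * (a * e * a⁻¹)) = _).symm
    calc p * (e⁻¹ * (a * e * a⁻¹)) * p⁻¹ = (p * e * p⁻¹)⁻¹ * (p * (a * e * a⁻¹) * p⁻¹) := by group
      _ = e⁻¹ * (a * e * a⁻¹) := by
        rw [key]
        rcases h.comm p hp e heE with r | r <;> rw [r]
        calc (e * z)⁻¹ * (a * (e * z) * a⁻¹) = z⁻¹ * (e⁻¹ * (a * e * a⁻¹) * (a * z * a⁻¹)) := by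
              group
          _ = _ := by
            rw [ha.eq, mul_inv_cancel_right, (h.central _ (mul_mem (inv_mem heE) hg)).eq,
              inv_mul_cancel_left]
  -- an involution moving `e`
  obtain ⟨u, huE, hu2, hue⟩ : ∃ u ∈ E, u * u = 1 ∧ ¬ Commute u e := by
    by_contra hno
    push Not at hno
    obtain ⟨a, ha, b, hb, hae, hbe, hab⟩ := h.exists_noncommuting_pair' hcard heE
    obtain ⟨r, hr, her⟩ := h.exists_not_commute he1 hez
    have hr2 : ∀ x ∈ E, ¬ Commute x e → x * x = z := fun x hx hxe =>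
      (h.sq_cases x hx).resolve_left fun c => hxe (hno x hx c)
    have hre : ¬ Commute r e := fun c => her c.symm
    have hinv : ∀ c ∈ E, Commute c e → r * c * r⁻¹ = c⁻¹ := by
      intro c hc hce
      have hrc : ¬ Commute (r * c) e := fun x => hre (by simpa using x.mul_left hce.inv_left)
      have e1 : r * r = z := hr2 r hr hre
      have e2 : r * c * (r * c) = z := hr2 _ (mul_mem hr hc) hrc
      have e3 : r⁻¹ = r * z := inv_eq_of_mul_eq_one_right (by rw [← mul_assoc, e1, h.sq])
      calc r * c * r⁻¹ = (r * c * r) * z := by rw [e3, ← mul_assoc]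
        _ = z * c⁻¹ * z := by rw [← eq_mul_inv_iff_mul_eq.mpr
            (show r * c * r * c = z by rw [← e2]; group)]
        _ = c⁻¹ := by rw [(h.central _ (inv_mem hc)).symm.eq, mul_assoc, h.sq, mul_one]
    apply hab
    have e1 := hinv _ (mul_mem ha hb) (hae.mul_left hbe)
    have e2 : r * (a * b) * r⁻¹ = (b * a)⁻¹ := by
      rw [mul_inv_rev, ← hinv a ha hae, ← hinv b hb hbe]; group
    exact inv_injective (e1.symm.trans e2)
  have hu1 : u ≠ 1 := fun c => hue (c ▸ Commute.one_left e)
  have huz : u ≠ z := fun c => hue (c ▸ (h.central e heE).symm)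
  have hχu : extOne χ u ≠ 1 := fun c => hue (heD u ((hDm u huE).mpr c)).symm
  have hzu : Commute z u := (h.central u huE).symm
  have heu : e * u * e⁻¹ = u * z :=
    (h.comm e heE u huE).resolve_left fun c => hue (Commute.symm (mul_inv_eq_iff_eq_mul.mp c))
  -- the transfer makes `u` a conjugate of `z`
  obtain ⟨x, hx⟩ : ∃ x : G, x * z * x⁻¹ = z * u := by
    by_contra hno
    push Not at hno
    have : Fintype (G ⧸ (centralizer ({z} : Set G))) := Fintype.ofFinite _
    have hf : MonoidHom.transfer χ u = 1 :=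
      Transfer.pResidual_le_ker (MonoidHom.transfer χ) hA (hres ▸ Subgroup.mem_top u)
    rw [transfer_involution χ hu2] at hf
    set F : G ⧸ (centralizer ({z} : Set G)) → A := fun q => if u • q = q then extOne χ (q.out⁻¹ * u * q.out) else 1
    have hfix : ∀ (g x : G), g • (x : G ⧸ (centralizer ({z} : Set G))) = x ↔ x⁻¹ * g * x ∈ (centralizer ({z} : Set G)) := fun g x => by
      rw [eq_comm, MulAction.Quotient.smul_coe, QuotientGroup.eq, smul_eq_mul, mul_assoc]
    have hF : ∀ x : G, u • (x : G ⧸ (centralizer ({z} : Set G))) = x → F x = extOne χ (x⁻¹ * u * x) := by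
      intro x hx
      obtain ⟨k, hk⟩ := QuotientGroup.mk_out_eq_mul (centralizer ({z} : Set G)) x
      simp only [F, if_pos hx, hk]
      rw [show (x * (k : G))⁻¹ * u * (x * k) = (k : G)⁻¹ * (x⁻¹ * u * x) * k by group,
        extOne_conj χ k.2 ((hfix u x).mp hx)]
    let P : Subgroup G := E ⊓ centralizer ({u} : Set G)
    have hPm : ∀ p : P, (p : G) ∈ E ∧ Commute (p : G) u := fun p =>
      ⟨p.2.1, mem_centralizer_singleton_iff.mp p.2.2⟩
    have hP : IsPGroup 2 ↥P := hE2.to_le inf_le_left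
    have hinv : ∀ (p : P) (a : G ⧸ (centralizer ({z} : Set G))), F (p • a) = F a := by
      intro p a
      induction a using QuotientGroup.induction_on with
      | H x =>
        have hpu := (hPm p).2
        have hpq : u • (p • (x : G ⧸ (centralizer ({z} : Set G)))) = p • (x : G ⧸ (centralizer ({z} : Set G))) ↔ u • (x : G ⧸ (centralizer ({z} : Set G))) = x := by
          show u • (p : G) • (x : G ⧸ centralizer ({z} : Set G)) =
            (p : G) • (x : G ⧸ centralizer ({z} : Set G)) ↔ _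
          rw [← mul_smul, ← hpu.eq, mul_smul]
          exact smul_left_cancel_iff _
        by_cases hx : u • (x : G ⧸ (centralizer ({z} : Set G))) = x
        · rw [hF x hx]
          have hpx : p • (x : G ⧸ (centralizer ({z} : Set G))) = (((p : G) * x : G) : G ⧸ (centralizer ({z} : Set G))) := rfl
          rw [hpx, hF _ (hpx ▸ hpq.mpr hx)]
          rw [mul_inv_rev, mul_assoc x⁻¹, ← hpu.symm.inv_right.eq, ← mul_assoc x⁻¹]
          group
        · simp only [F, if_neg hx, if_neg (fun c => hx (hpq.mp c))]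
    have hsq : ∀ a, F a * F a = 1 := by
      intro a
      induction a using QuotientGroup.induction_on with
      | H x =>
        by_cases hx : u • (x : G ⧸ (centralizer ({z} : Set G))) = x
        · have := (hfix u x).mp hx
          rw [hF x hx, ← extOne_mul χ this this,
            show x⁻¹ * u * x * (x⁻¹ * u * x) = x⁻¹ * (u * u) * x by group, hu2, mul_one,
            inv_mul_cancel, extOne_one]
        · simp only [F, if_neg hx, mul_one]
    rw [prod_eq_prod_fixed hP F hinv hsq, Finset.prod_eq_single ((1 : G) : G ⧸ (centralizer ({z} : Set G)))] at hf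
    · apply hχu
      rw [← hf, hF 1 ((hfix u 1).mpr (by simpa using hE huE))]
      simp
    · intro a ha hane
      induction a using QuotientGroup.induction_on with
      | H x =>
        by_cases hxu : u • (x : G ⧸ (centralizer ({z} : Set G))) = x
        swap
        · simp only [F, if_neg hxu]
        have hcom : ∀ g : G, g • (x : G ⧸ (centralizer ({z} : Set G))) = x → Commute g (x * z * x⁻¹) := fun g hg => by
          have := hmemH.mp ((hfix g x).mp hg)
          calc g * (x * z * x⁻¹) = x * (x⁻¹ * g * x * z) * x⁻¹ := by group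
            _ = x * (z * (x⁻¹ * g * x)) * x⁻¹ := by rw [this.eq]
            _ = x * z * x⁻¹ * g := by group
        have hfixP := (Finset.mem_filter.mp ha).2
        have hP' : ∀ p ∈ E, Commute p u → Commute (x * z * x⁻¹) p := fun p hp hpu =>
          (hcom p (hfixP ⟨p, hp, mem_centralizer_singleton_iff.mpr hpu.eq⟩)).symm
        rcases h.mem_four_of_commute huE hu2 hu1 huz (hP' z h.mem hzu) (hP' u huE rfl) hP'
          with r | r | r | r
        · exact absurd (conj_eq_one_iff.mp r) h.ne_one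
        · refine absurd (QuotientGroup.eq.mpr ?_) hane
          rw [mul_one, inv_mem_iff, hmemH]
          exact mul_inv_eq_iff_eq_mul.mp r
        · rw [hF x hxu, ← r, show x⁻¹ * (x * z * x⁻¹) * x = z by group, hχz]
        · exact absurd r (hno x)
    · exact fun hn => absurd (Finset.mem_filter.mpr ⟨Finset.mem_univ _, fun p => by
        show (p : G) • ((1 : G) : G ⧸ centralizer ({z} : Set G)) = _
        rw [hfix]; simpa using hE (hPm p).1⟩) hn
  -- the final contradiction
  set w := e * x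
  have hxu : x * z * x⁻¹ = z * u := hx
  have hw : w * z * w⁻¹ = u := by
    calc w * z * w⁻¹ = e * (x * z * x⁻¹) * e⁻¹ := by simp only [w]; group
      _ = (e * z * e⁻¹) * (e * u * e⁻¹) := by rw [hx]; group
      _ = z * (u * z) := by rw [heu, (h.central e heE).eq, mul_inv_cancel_right]
      _ = u := by rw [← mul_assoc, hzu.eq, mul_assoc, h.sq, mul_one]
  have hin : ∀ g t : G, g * z * g⁻¹ = t → t ∈ E → t * t = 1 → t ≠ z →
      z ∈ E.map (MulAut.conj g).toMonoidHom := fun g t hg ht ht2 htz =>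
    h.self_mem_conj g (hg ▸ ht) (hg ▸ htz) (hg ▸ h.exists_noncommuting_pair hcard ht ht2)
  have hzw := hin w u hw huE hu2 huz
  have hxw := hin x (z * u) hx (mul_mem h.mem huE)
    (by rw [mul_assoc, ← mul_assoc u z u, ← hzu.eq, mul_assoc z u u, hu2, mul_one, h.sq])
    (fun c => hu1 (by simpa using c))
  set Ex := E.map (MulAut.conj x).toMonoidHom
  set Ew := E.map (MulAut.conj w).toMonoidHom
  have hmove : ∀ a ∈ Ex, Commute a z → a ∈ Ew := by
    intro a ha haz
    have hea : e * a * e⁻¹ ∈ Ew := by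
      rw [mem_conj_iff] at ha ⊢
      rwa [show (e * x)⁻¹ * (e * a * e⁻¹) * (e * x) = x⁻¹ * a * x by group]
    rcases hconj a haz with r | r
    · have r' : e * a * e⁻¹ = a :=
        mul_inv_eq_iff_eq_mul.mpr (mul_inv_eq_iff_eq_mul.mp r).symm
      rwa [r'] at hea
    · have r' : a = z * (e * a * e⁻¹) := by
        calc a = (a * e * a⁻¹) * a * e⁻¹ := by group
          _ = e * z * a * e⁻¹ := by rw [r]
          _ = _ := by rw [(h.central e heE).eq]; group
      rw [r']; exact mul_mem hzw hea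
  have hab : ∀ a ∈ Ex, ∀ b ∈ Ex, Commute a z → Commute b z → Commute b a := by
    intro a ha b hb haz hbz
    rcases (h.conj x).comm b hb a ha with r | r
    · exact mul_inv_eq_iff_eq_mul.mp r
    rcases (h.conj w).comm b (hmove b hb hbz) a (hmove a ha haz) with r' | r'
    · exact mul_inv_eq_iff_eq_mul.mp r'
    rw [hw] at r'; rw [hx] at r
    exact absurd (by simpa using r.symm.trans r') h.ne_one
  have htE : x⁻¹ * z * x ∈ E := mem_conj_iff.mp hxw
  obtain ⟨p₁, hp₁, p₂, hp₂, c₁, c₂, hnc⟩ := h.exists_noncommuting_pair hcard htE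
    (by rw [show x⁻¹ * z * x * (x⁻¹ * z * x) = x⁻¹ * (z * z) * x by group, h.sq, mul_one,
      inv_mul_cancel])
  have hcz : ∀ p : G, Commute p (x⁻¹ * z * x) → Commute (x * p * x⁻¹) z := fun p hp => by
    calc x * p * x⁻¹ * z = x * (p * (x⁻¹ * z * x)) * x⁻¹ := by group
      _ = x * (x⁻¹ * z * x * p) * x⁻¹ := by rw [hp.eq]
      _ = z * (x * p * x⁻¹) := by group
  apply hnc
  have := hab _ ⟨p₂, hp₂, rfl⟩ _ ⟨p₁, hp₁, rfl⟩ (hcz p₂ c₂) (hcz p₁ c₁)
  calc p₁ * p₂ = x⁻¹ * (x * p₁ * x⁻¹ * (x * p₂ * x⁻¹)) * x := by group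
    _ = x⁻¹ * (x * p₂ * x⁻¹ * (x * p₁ * x⁻¹)) * x := by
        have := this.eq; simp only [MulEquiv.coe_toMonoidHom, MulAut.conj_apply] at this; rw [this]
    _ = p₂ * p₁ := by group

end Cfsg.Agent.LargeExtraspecial

namespace Cfsg.Agent.LargeExtraspecial

open Subgroup

variable {G : Type*} [Group G] {z : G}

/-- `E = O₂(C(z))` extraspecial with `C(E) ≤ E`: the hub and the embedding in `C(z)`. -/
theorem Hub.of_coreAt [Finite G] (hz : orderOf z = 2) (hext : Cfsg.IsExtraspecial 2 ↥(coreAt z))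
    (hcent : centralizer (coreAt z : Set G) ≤ coreAt z) :
    Hub (coreAt z) z ∧ coreAt z ≤ centralizer ({z} : Set G) := by
  have hle : coreAt z ≤ centralizer ({z} : Set G) := map_subtype_le _
  have hmem : z ∈ coreAt z := hcent (mem_centralizer_iff.mpr fun q hq =>
    (mem_centralizer_singleton_iff.mp (hle hq)))
  have hZ : (center ↥(coreAt z)).map (coreAt z).subtype = zpowers z := by
    refine (eq_of_le_of_card_ge ?_ ?_).symm
    · exact zpowers_le.mpr ⟨⟨z, hmem⟩, mem_center_iff.mpr fun q => Subtype.ext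
        (mem_centralizer_singleton_iff.mp (hle q.2)), rfl⟩
    rw [card_map_of_injective (coreAt z).subtype_injective, hext.2, Nat.card_zpowers, hz]
  have hC : centralizer (coreAt z : Set G) = (center ↥(coreAt z)).map (coreAt z).subtype := by
    refine le_antisymm (fun c hc => ⟨⟨c, hcent hc⟩, mem_center_iff.mpr fun q =>
      Subtype.ext (hc q q.2), rfl⟩) ?_
    rintro _ ⟨w, hw, rfl⟩
    exact mem_centralizer_iff.mpr fun q hq => congrArg Subtype.val (mem_center_iff.mp hw ⟨q, hq⟩)
  refine ⟨Hub.of_centralizer hext hZ hz hC fun c hc => mem_normalizer_iff.mpr fun q => ?_, hle⟩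
  have hc' : c * z = z * c := mem_centralizer_singleton_iff.mp hc
  refine ⟨conj_mem_coreAt_of_commute hc', fun hq => ?_⟩
  have := conj_mem_coreAt_of_commute (c := c⁻¹) (Commute.inv_left hc').eq hq
  simpa [mul_assoc] using this

end Cfsg.Agent.LargeExtraspecial
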