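import Cfsg.Agent.Lib.LargeExtraspecial.SmithMain
import Cfsg.Agent.Lib.PGroup.Extraspecial
import Mathlib.GroupTheory.Abelianization.Defs

/-!
# The 2-part of the abelianisation of `C(z)`

* `hom_to_units_of_ne_one`: an element of an elementary abelian 2-group is detected by a sign.
* `Hub.sq_hom_eq_one`: `χ² = 1` for every homomorphism of `C(z)` to a finite abelian 2-group.
-/

set_option autoImplicit false

namespace Cfsg.Agent.LargeExtraspecial

open Subgroup

variable {G : Type*} [Group G] {A : Type*} [CommGroup A] {E : Subgroup G} {z : G}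

theorem hom_to_units_of_ne_one [Finite A] {H : Type*} [Group H] (ψ : H →* A)
    (hsq : ∀ a, ψ a * ψ a = 1) {a : H} (ha : ψ a ≠ 1) :
    ∃ φ : H →* ℤˣ, φ a ≠ 1 ∧ ∀ b, ψ b = 1 → φ b = 1 := by
  classical
  set R := ψ.range
  haveI : Finite (Subgroup A) := inferInstance
  obtain ⟨M, -, hM⟩ := (Set.toFinite {M : Subgroup A | ψ a ∉ M}).exists_le_maximal
    (a := (⊥ : Subgroup A)) (by simpa using ha)
  have hout : ∀ b ∈ R, b ∉ M → b * ψ a ∈ M := by
    rintro b ⟨b', rfl⟩ hb
    have hlt : ψ a ∈ M ⊔ zpowers (ψ b') := by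
      by_contra hn
      exact hb (hM.2 hn le_sup_left (mem_sup_right (mem_zpowers _)))
    obtain ⟨m, hm, w, hw, hmw⟩ := mem_sup.mp hlt
    obtain ⟨i, rfl⟩ := mem_zpowers_iff.mp hw
    have h2 : ψ b' ^ (2 : ℤ) = 1 := by rw [zpow_two]; exact hsq _
    rcases Int.even_or_odd i with ⟨j, rfl⟩ | ⟨j, rfl⟩
    · rw [← two_mul, zpow_mul, h2, one_zpow, mul_one] at hmw
      exact absurd (hmw ▸ hm) hM.1
    · rw [zpow_add, zpow_mul, h2, one_zpow, one_mul, zpow_one] at hmw
      rw [← hmw, mul_comm m, ← mul_assoc, hsq, one_mul]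
      exact hm
  have hiff : ∀ b c, (ψ b * ψ c ∈ M ↔ (ψ b ∈ M ↔ ψ c ∈ M)) := by
    intro b c
    by_cases hb : ψ b ∈ M
    · simp [hb, M.mul_mem_cancel_left hb]
    by_cases hc : ψ c ∈ M
    · simp [hb, hc, M.mul_mem_cancel_right hc]
    simp only [hb, hc, iff_self, iff_true]
    have h1 := hout _ ⟨b, rfl⟩ hb
    have h2 := hout _ ⟨c, rfl⟩ hc
    have h3 := mul_mem h1 h2
    rwa [mul_mul_mul_comm, hsq, mul_one] at h3
  refine ⟨MonoidHom.mk' (fun b => if ψ b ∈ M then 1 else -1) fun b c => ?_, ?_, fun b hb => ?_⟩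
  · rw [map_mul]
    by_cases hb : ψ b ∈ M <;> by_cases hc : ψ c ∈ M <;> simp [hiff, hb, hc]
  · show (if ψ a ∈ M then (1 : ℤˣ) else -1) ≠ 1
    rw [if_neg hM.1]; decide
  · show (if ψ b ∈ M then (1 : ℤˣ) else -1) = 1
    rw [if_pos (hb ▸ one_mem M)]

/-- The case `|E| ≥ 32`. -/
theorem Hub.sq_hom_eq_one_large [Finite G] [Finite A] (h : Hub E z)
    (hE : E ≤ centralizer ({z} : Set G)) (hE2 : IsPGroup 2 ↥E) (hcard : 32 ≤ Nat.card ↥E)
    (hres : Cfsg.pResidual 2 G = ⊤) (χ : ↥(centralizer ({z} : Set G)) →* A) (hA : IsPGroup 2 A)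
    (a : ↥(centralizer ({z} : Set G))) : χ a ^ 2 = 1 := by
  classical
  have : Fact (Nat.Prime 2) := ⟨Nat.prime_two⟩
  obtain ⟨k, hk⟩ := hA.exists_card_eq
  have hex : ∃ J, ∀ b, χ b ^ 2 ^ J = 1 := ⟨k, fun b => by rw [← hk]; exact pow_card_eq_one'⟩
  obtain ⟨J, hJ, hJmin⟩ : ∃ J, (∀ b, χ b ^ 2 ^ J = 1) ∧ ∀ i < J, ¬ ∀ b, χ b ^ 2 ^ i = 1 :=
    ⟨Nat.find hex, Nat.find_spec hex, fun i hi => Nat.find_min hex hi⟩
  by_contra ha
  have hJ2 : 2 ≤ J := by
    by_contra hlt
    apply ha
    rcases (by omega : J = 0 ∨ J = 1) with rfl | rfl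
    · have := hJ a; rw [pow_zero, pow_one] at this; rw [this, one_pow]
    · simpa using hJ a
  have hnot := hJmin (J - 1) (by omega)
  push Not at hnot
  obtain ⟨b, hb⟩ := hnot
  let ψ : ↥(centralizer ({z} : Set G)) →* A := (powMonoidHom (2 ^ (J - 1))).comp χ
  have hpow : ∀ c, ψ c = (χ c ^ 2) ^ 2 ^ (J - 2) := fun c => by
    show χ c ^ 2 ^ (J - 1) = _
    rw [← pow_mul, ← pow_succ']; congr 2; omega
  obtain ⟨φ, hφb, hφ⟩ := hom_to_units_of_ne_one ψ (a := b) (fun c => by
    show χ c ^ 2 ^ (J - 1) * χ c ^ 2 ^ (J - 1) = 1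
    rw [← pow_add, ← two_mul, ← pow_succ', Nat.sub_add_cancel (by omega)]; exact hJ c) hb
  refine hφb (h.hom_eq_one_of_small hE hcard hres φ (fun x => ⟨1, ?_⟩) (fun c => ?_) ?_ ?_ ?_ b)
  · rw [pow_one]; exact Int.units_sq x
  · exact Int.units_mul_self _
  · intro c d hc hd
    rw [(Int.units_eq_one_or (φ c)).resolve_left hc, (Int.units_eq_one_or (φ d)).resolve_left hd]
  · intro c hc
    refine hφ c ?_
    have hc2 : c ^ 2 = 1 := by
      apply Subtype.ext
      have h1 := pow_orderOf_eq_one (c : G)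
      have hpos := orderOf_pos (c : G)
      rw [SubgroupClass.coe_pow, OneMemClass.coe_one]
      rcases (by omega : orderOf (c : G) = 1 ∨ orderOf (c : G) = 2) with e | e
      · rw [orderOf_eq_one_iff.mp e, one_pow]
      · rw [e] at h1; exact h1
    rw [hpow, ← map_pow, hc2, map_one, one_pow]
  · intro c hcE _ _
    refine hφ c ?_
    rw [hpow, pow_two, ← map_mul,
      show c * c = ⟨(c : G) * c, hE hcE⟩ from rfl, h.hom_eq_one hE hE2 hcard hres χ hA hcE, one_pow]

theorem fin_three_perm : ∀ σ : Fin 3 → Fin 3, Function.Injective σ →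
    (∀ i, σ (σ (σ (σ (σ (σ i))))) = i) ∧
      ((∀ i, σ i ≠ i) → ∀ i j, j = i ∨ j = σ i ∨ j = σ (σ i)) ∧
      ((∃ i, σ i = i) → ∀ i, σ (σ i) = i) := by
  decide

/-- The case `|E| = 8`. -/
theorem Hub.sq_hom_eq_one_small [Finite G] (h : Hub E z) (hE : E ≤ centralizer ({z} : Set G))
    (hE2 : IsPGroup 2 ↥E) (hcard : Nat.card ↥E ≤ 8)
    (hcore : E = coreAt z) (χ : ↥(centralizer ({z} : Set G)) →* A) (hA : IsPGroup 2 A)
    (hnc : ∃ e ∈ E, ∃ f ∈ E, ¬ Commute e f)
    (a : ↥(centralizer ({z} : Set G))) : χ a ^ 2 = 1 := by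
  classical
  obtain ⟨e, he, f, hf, hef⟩ := hnc
  have hfe : e * f * e⁻¹ = f * z := h.comm_symm he hf hef
  have hez : Commute e z := h.central e he
  have hfz : Commute f z := h.central f hf
  let r : Fin 4 → ↥E := ![1, ⟨e, he⟩, ⟨f, hf⟩, ⟨e * f, mul_mem he hf⟩]
  have n1 : ∀ w, w = 1 ∨ w = z → Commute w e ∧ Commute w f := fun w hw => by
    rcases hw with rfl | rfl
    exacts [⟨Commute.one_left e, Commute.one_left f⟩, ⟨hez.symm, hfz.symm⟩]
  have hef' : ¬ Commute (e * f) e := fun t => hef (by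
    have := (Commute.refl e).inv_left.mul_left t
    rw [inv_mul_cancel_left] at this; exact this.symm)
  have hef'' : ¬ Commute (e * f) f := fun t => hef (by
    have := t.mul_left (Commute.refl f).inv_left
    rwa [mul_inv_cancel_right] at this)
  -- distinct cosets
  have hr : ∀ i j, ((r i : ↥E) : G)⁻¹ * r j = 1 ∨ ((r i : ↥E) : G)⁻¹ * r j = z → i = j := by
    intro i j hij
    obtain ⟨w1, w2⟩ := n1 _ hij
    have ei : ∀ p q : G, Commute (p⁻¹ * q) e → Commute (p⁻¹ * q) f →
        (Commute p e ↔ Commute q e) ∧ (Commute p f ↔ Commute q f) := fun p q a b =>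
      ⟨⟨fun c => by simpa using c.mul_left a, fun c => by simpa using c.mul_left a.inv_left⟩,
        ⟨fun c => by simpa using c.mul_left b, fun c => by simpa using c.mul_left b.inv_left⟩⟩
    obtain ⟨o1, o2⟩ := ei _ _ w1 w2
    have t0 : ¬ Commute f e := fun t => hef t.symm
    fin_cases i <;> fin_cases j <;>
      simp [r, hef, t0, hef', hef'', Commute.refl e, Commute.refl f] at o1 o2 ⊢
  let g : Fin 4 × Fin 2 → ↥E := fun ip => r ip.1 * ⟨![1, z] ip.2, by
    fin_cases ip <;> simp [h.mem, E.one_mem]⟩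
  have hginj : Function.Injective g := by
    rintro ⟨i, p⟩ ⟨j, p'⟩ hpq
    have hval : (r i : G) * ![1, z] p = r j * ![1, z] p' := congrArg Subtype.val hpq
    obtain rfl : i = j := hr i j (by
      rw [show ((r i : ↥E) : G)⁻¹ * r j = ![1, z] p * (![1, z] p')⁻¹ by
        rw [inv_mul_eq_iff_eq_mul, ← mul_assoc, hval, mul_inv_cancel_right]]
      fin_cases p <;> fin_cases p' <;> simp [h.z_inv, h.sq])
    refine Prod.ext rfl ?_
    have := mul_left_cancel hval
    fin_cases p <;> fin_cases p' <;> simp [h.ne_one, h.ne_one.symm] at this ⊢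
  have hbij := hginj.bijective_of_nat_card_le (by simpa using hcard)
  have hcover : ∀ y ∈ E, ∃ i, ((r i : ↥E) : G)⁻¹ * y = 1 ∨ ((r i : ↥E) : G)⁻¹ * y = z := by
    intro y hy
    obtain ⟨⟨i, p⟩, hip⟩ := hbij.2 ⟨y, hy⟩
    refine ⟨i, ?_⟩
    rw [← show (r i : G) * ![1, z] p = y from congrArg Subtype.val hip, inv_mul_cancel_left]
    fin_cases p <;> simp
  let c : Fin 3 → G := ![e, f, e * f]
  have hcr : ∀ i : Fin 3, c i = (r i.succ : G) := fun i => by fin_cases i <;> rfl
  have hcE : ∀ i, c i ∈ E := fun i => hcr i ▸ (r i.succ).2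
  have huniq : ∀ i j, (c i)⁻¹ * c j = 1 ∨ (c i)⁻¹ * c j = z → i = j := fun i j hij =>
    Fin.succ_injective _ (hr _ _ (by rwa [← hcr, ← hcr]))
  have hmapE : ∀ w : ↥(centralizer ({z} : Set G)), ∀ p ∈ E, (w : G) * p * (w : G)⁻¹ ∈ E :=
    fun w p hp => h.normalizes _ (mem_centralizer_singleton_iff.mp w.2) p hp
  have hexσ : ∀ (w : ↥(centralizer ({z} : Set G))) (i : Fin 3), ∃ j : Fin 3,
      (c j)⁻¹ * ((w : G) * c i * (w : G)⁻¹) = 1 ∨ (c j)⁻¹ * ((w : G) * c i * (w : G)⁻¹) = z := by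
    intro w i
    obtain ⟨k, hk⟩ := hcover _ (hmapE w _ (hcE i))
    rcases Fin.eq_zero_or_eq_succ k with rfl | ⟨j, rfl⟩
    · exfalso
      have hk' : (w : G) * c i * (w : G)⁻¹ = 1 ∨ (w : G) * c i * (w : G)⁻¹ = z := by
        simpa [r] using hk
      have hci : c i = 1 ∨ c i = z := by
        rcases hk' with t | t
        · exact Or.inl (conj_eq_one_iff.mp t)
        · right
          calc c i = (w : G)⁻¹ * ((w : G) * c i * (w : G)⁻¹) * w := by group
            _ = z := by
              rw [t, mul_assoc, ← (mem_centralizer_singleton_iff.mp w.2),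
                inv_mul_cancel_left]
      exact Fin.succ_ne_zero i (hr 0 i.succ (by rw [show r 0 = 1 from rfl, ← hcr]; simpa using hci)).symm
    · exact ⟨j, by rwa [hcr j]⟩
  choose σ hσ using hexσ
  have hσmul : ∀ w v i, σ (w * v) i = σ w (σ v i) := by
    intro w v i
    refine huniq _ _ ?_
    have h1 := hσ (w * v) i
    have h2 := hσ v i
    have h3 := hσ w (σ v i)
    have hconj : ∀ t, t = 1 ∨ t = z → (w : G) * t * (w : G)⁻¹ = t := by
      rintro t (rfl | rfl)
      · group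
      · rw [mem_centralizer_singleton_iff.mp w.2, mul_inv_cancel_right]
    have hz2 : ∀ s t : G, (s = 1 ∨ s = z) → (t = 1 ∨ t = z) → s * t⁻¹ = 1 ∨ s * t⁻¹ = z := by
      rintro s t (rfl | rfl) (rfl | rfl) <;> simp [h.z_inv, h.sq]
    have hmul : ∀ s t : G, (s = 1 ∨ s = z) → (t = 1 ∨ t = z) → s * t = 1 ∨ s * t = z := by
      rintro s t (rfl | rfl) (rfl | rfl) <;> simp [h.sq]
    have key : (c (σ (w * v) i))⁻¹ * c (σ w (σ v i)) =
        ((c (σ (w * v) i))⁻¹ * (((w * v : ↥(centralizer ({z} : Set G))) : G) * c i *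
            ((w * v : ↥(centralizer ({z} : Set G))) : G)⁻¹)) *
          (((c (σ w (σ v i)))⁻¹ * ((w : G) * c (σ v i) * (w : G)⁻¹)) *
            ((w : G) * ((c (σ v i))⁻¹ * ((v : G) * c i * (v : G)⁻¹)) * (w : G)⁻¹))⁻¹ := by
      rw [Subgroup.coe_mul]; group
    rw [key]
    exact hz2 _ _ h1 (hmul _ _ h3 (by rw [hconj _ h2]; exact h2))
  have hσinj : ∀ w, Function.Injective (σ w) := by
    intro w i j hij
    have e1 : ∀ i, σ 1 i = i := fun i => (huniq i (σ 1 i) (by
      rcases hσ 1 i with t | t <;>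
        simp only [OneMemClass.coe_one, one_mul, inv_one, mul_one, inv_mul_eq_iff_eq_mul] at t
      · left; rw [t]; group
      · right; rw [t, mul_inv_rev, h.z_inv, mul_assoc, inv_mul_cancel, mul_one])).symm
    have := congrArg (σ w⁻¹) hij
    rwa [← hσmul, ← hσmul, inv_mul_cancel, e1, e1] at this
  -- the kernel of the action
  have hker : ∀ w, (∀ i, σ w i = i) → (w : G) ∈ E := by
    intro w hw
    have hstep : ∀ i, (w : G) * c i * (w : G)⁻¹ = c i ∨ (w : G) * c i * (w : G)⁻¹ = c i * z := by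
      intro i
      have := hσ w i
      rw [hw i] at this
      exact this.imp (fun t => (inv_mul_eq_one.mp t).symm) fun t => inv_mul_eq_iff_eq_mul.mp t
    have hfinish : ∀ p ∈ E, Commute (p * (w : G)) e → Commute (p * (w : G)) f → (w : G) ∈ E := by
      intro p hp pe pf
      have hall : ∀ y ∈ E, Commute (p * (w : G)) y := by
        intro y hy
        obtain ⟨i, hi⟩ := hcover y hy
        have hzc : Commute (p * (w : G)) z :=
          (h.central p hp).mul_left (mem_centralizer_singleton_iff.mp w.2)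
        have h1 : Commute (p * (w : G)) (r i : G) := by
          fin_cases i <;> simp [r, pe, pf, Commute.one_right, pe.mul_right pf]
        have h2 : Commute (p * (w : G)) (((r i : ↥E) : G)⁻¹ * y) := by
          rcases hi with t | t <;> rw [t]
          exacts [Commute.one_right _, hzc]
        simpa using h1.mul_right h2
      have hpw : p * (w : G) ∈ E := by
        rcases h.self _ hall with t | t <;> rw [t]
        exacts [E.one_mem, h.mem]
      exact (E.mul_mem_cancel_left hp).mp hpw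
    have hflip : ∀ p ∈ E, ∀ y ∈ E, (w : G) * y * (w : G)⁻¹ = y * z → ¬ Commute p y →
        Commute (p * (w : G)) y := by
      intro p hp y hy hwy hpy
      refine mul_inv_eq_iff_eq_mul.mp ?_
      calc p * (w : G) * y * (p * (w : G))⁻¹ = p * ((w : G) * y * (w : G)⁻¹) * p⁻¹ := by group
        _ = (p * y * p⁻¹) * (p * z * p⁻¹) := by rw [hwy]; group
        _ = y := by
          rw [h.comm_symm hp hy hpy, (h.central p hp).eq, mul_inv_cancel_right, mul_assoc, h.sq,
            mul_one]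
    rcases hstep 0 with t0 | t0 <;> rcases hstep 1 with t1 | t1 <;>
      simp only [c, Matrix.cons_val_zero, Matrix.cons_val_one] at t0 t1
    · exact hfinish 1 E.one_mem (by simpa using (show Commute (w : G) e from mul_inv_eq_iff_eq_mul.mp t0))
        (by simpa using (show Commute (w : G) f from mul_inv_eq_iff_eq_mul.mp t1))
    · exact hfinish e he ((Commute.refl e).mul_left (mul_inv_eq_iff_eq_mul.mp t0))
        (hflip e he f hf t1 hef)
    · exact hfinish f hf (hflip f hf e he t0 fun t => hef t.symm)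
        ((Commute.refl f).mul_left (mul_inv_eq_iff_eq_mul.mp t1))
    · exact hfinish _ (mul_mem he hf) (hflip _ (mul_mem he hf) e he t0 hef')
        (hflip _ (mul_mem he hf) f hf t1 hef'')
  -- `χ` kills `z`
  have hzH : z ∈ centralizer ({z} : Set G) := hE h.mem
  have hχz : extOne χ z = 1 := by
    have e2 := congrArg (extOne χ) hfe
    rwa [extOne_mul χ (mul_mem (hE he) (hE hf)) (inv_mem (hE he)), extOne_mul χ (hE he) (hE hf),
      mul_comm (extOne χ e) (extOne χ f), mul_assoc, ← extOne_mul χ (hE he) (inv_mem (hE he)),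
      mul_inv_cancel, extOne_one, extOne_mul χ (hE hf) hzH, mul_left_cancel_iff, eq_comm] at e2
  have hEsq : ∀ w : ↥(centralizer ({z} : Set G)), (w : G) ∈ E → χ w ^ 2 = 1 := by
    intro w hw
    rw [← extOne_of_mem χ w.2, pow_two, ← extOne_mul χ w.2 w.2]
    rcases h.sq_cases _ hw with t | t <;> rw [t]
    exacts [extOne_one χ, hχz]
  by_cases hcyc : ∃ w, ∀ i, σ w i ≠ i
  · obtain ⟨w, hw⟩ := hcyc
    have hstep : ∀ i, extOne χ (c (σ w i)) = extOne χ (c i) := by
      intro i
      have hj := hE (hcE (σ w i))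
      have hi := hE (hcE i)
      have hwm := w.2
      have hconj : extOne χ ((w : G) * c i * (w : G)⁻¹) = extOne χ (c i) := by
        conv_lhs => rw [← inv_inv (w : G)]
        rw [inv_inv ((w : G)⁻¹)]
        exact extOne_conj χ (inv_mem hwm) hi
      rcases hσ w i with t | t
      · rw [inv_mul_eq_one] at t; rw [t, hconj]
      · rw [inv_mul_eq_iff_eq_mul] at t
        rw [← hconj, t, extOne_mul χ hj hzH, hχz, mul_one]
    have hall : ∀ j, extOne χ (c j) = extOne χ (c 0) := fun j => by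
      rcases (fin_three_perm _ (hσinj w)).2.1 hw 0 j with t | t | t <;> rw [t]
      · exact hstep 0
      · rw [hstep, hstep]
    have he1 : extOne χ e = 1 := by
      have h2 := hall 2
      simp only [c, Matrix.cons_val_zero, show (![e, f, e * f] : Fin 3 → G) 2 = e * f from rfl] at h2
      rw [extOne_mul χ (hE he) (hE hf), mul_eq_left] at h2
      have h1 : extOne χ f = extOne χ e := hall 1
      rw [← h1, h2]
    have hkillE : ∀ v : ↥(centralizer ({z} : Set G)), (v : G) ∈ E → χ v = 1 := by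
      intro v hv
      rw [← extOne_of_mem χ v.2]
      obtain ⟨i, hi⟩ := hcover _ hv
      have hf1 : extOne χ f = 1 := (hall 1).trans he1
      have hri : extOne χ ((r i : ↥E) : G) = 1 := by
        fin_cases i <;> simp [r, extOne_one, he1, hf1, extOne_mul χ (hE he) (hE hf)]
      have hrest : extOne χ (((r i : ↥E) : G)⁻¹ * v) = 1 := by
        rcases hi with t | t <;> rw [t]
        exacts [extOne_one χ, hχz]
      calc extOne χ (v : G) = extOne χ ((r i : G) * (((r i : ↥E) : G)⁻¹ * v)) := by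
            rw [mul_inv_cancel_left]
        _ = 1 := by
          rw [extOne_mul χ (hE (r i).2) (hE (E.mul_mem (E.inv_mem (r i).2) hv)), hri, hrest,
            mul_one]
    have h6 : χ a ^ 6 = 1 := by
      rw [← map_pow]
      refine hkillE _ (hker _ fun i => ?_)
      have e6 : a ^ 6 = a * (a * (a * (a * (a * a)))) := by simp [pow_succ, mul_assoc]
      rw [e6, hσmul, hσmul, hσmul, hσmul, hσmul]
      exact (fin_three_perm _ (hσinj a)).1 i
    obtain ⟨k, hk⟩ := hA (χ a)
    have hg := pow_gcd_eq_one.mpr ⟨h6, (show χ a ^ 2 ^ (k + 1) = 1 by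
      rw [pow_succ, pow_mul, hk, one_pow])⟩
    have hgcd : Nat.gcd 6 (2 ^ (k + 1)) = 2 := by
      rw [show (6 : ℕ) = 2 * 3 from rfl, pow_succ', Nat.gcd_mul_left,
        Nat.Coprime.pow_right k (by norm_num : Nat.Coprime 3 2)]
    rwa [hgcd] at hg
  push Not at hcyc
  have hsqE : ∀ w : ↥(centralizer ({z} : Set G)), ((w * w : ↥(centralizer ({z} : Set G))) : G) ∈ E :=
    fun w => hker _ fun i => by rw [hσmul]; exact (fin_three_perm _ (hσinj w)).2.2 (hcyc w) i
  have hH2 : IsPGroup 2 ↥(centralizer ({z} : Set G)) := fun w => by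
    obtain ⟨k, hk⟩ := hE2 ⟨_, hsqE w⟩
    refine ⟨k + 1, Subtype.ext ?_⟩
    have := congrArg Subtype.val hk
    simp only [SubgroupClass.coe_pow, Subgroup.coe_mul, OneMemClass.coe_one] at this ⊢
    rw [pow_succ', pow_mul, pow_two, this]
  have htop : (⊤ : Subgroup ↥(centralizer ({z} : Set G))) ≤
      Cfsg.pCore 2 ↥(centralizer ({z} : Set G)) :=
    le_sSup ⟨inferInstance, hH2.to_subgroup ⊤⟩
  refine hEsq a ?_
  rw [hcore]
  exact ⟨a, htop (Subgroup.mem_top a), rfl⟩

end Cfsg.Agent.LargeExtraspecial
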