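import Cfsg.Agent.Lib.LargeExtraspecial.SmithTools

/-!
# An involution of `C(z)` acting on `Q` with centraliser of index at most 4

* `Hub.mem_of_two_cosets`: index at most 2 only for elements of `Q`.
* `Hub.four_cosets`, `Hub.FourData`: the commutators for index 4.
-/

set_option autoImplicit false

namespace Cfsg.Agent.LargeExtraspecial

open Subgroup

variable {G : Type*} [Group G] {Q : Subgroup G} {z ω : G}

/-- The commutator of an involution `ω` with `e`, arranged so that `e ω e⁻¹ = ω * icomm ω e`. -/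
def icomm (ω e : G) : G := ω * e * ω * e⁻¹

theorem conj_eq_mul_icomm (hω : ω * ω = 1) (e : G) : e * ω * e⁻¹ = ω * icomm ω e := by
  have e1 : ∀ t, ω * (ω * t) = t := fun t => by rw [← mul_assoc, hω, one_mul]
  simp [icomm, mul_assoc, e1]

theorem icomm_conj_self (hω : ω * ω = 1) (e : G) : ω * icomm ω e * ω = (icomm ω e)⁻¹ := by
  have e1 : ∀ t, ω * (ω * t) = t := fun t => by rw [← mul_assoc, hω, one_mul]
  simp [icomm, mul_assoc, e1, inv_eq_of_mul_eq_one_right hω]

theorem icomm_eq_one (hω : ω * ω = 1) {e : G} : icomm ω e = 1 ↔ Commute e ω := by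
  constructor
  · intro h
    have h' := conj_eq_mul_icomm hω e
    rw [h, mul_one] at h'
    exact mul_inv_eq_iff_eq_mul.mp h'
  · intro h
    rw [icomm, mul_assoc ω e ω, h.eq, ← mul_assoc, hω, one_mul, mul_inv_cancel]

theorem icomm_mul (hω : ω * ω = 1) (e f : G) :
    icomm ω (e * f) = icomm ω e * (e * icomm ω f * e⁻¹) := by
  have e1 : ∀ t, ω * (ω * t) = t := fun t => by rw [← mul_assoc, hω, one_mul]
  simp [icomm, mul_assoc, e1]

theorem icomm_mul_right (hω : ω * ω = 1) (e : G) {p : G} (hp : Commute p ω) :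
    icomm ω (e * p) = icomm ω e := by
  rw [icomm_mul hω, (icomm_eq_one hω).mpr hp, mul_one, mul_inv_cancel, mul_one]

theorem icomm_conj (w e : G) (hw : Commute w ω) :
    w * icomm ω e * w⁻¹ = icomm ω (w * e * w⁻¹) := by
  have h1 : w⁻¹ * ω = ω * w⁻¹ := hw.inv_left.eq
  simp only [icomm, mul_inv_rev, inv_inv]
  calc w * (ω * e * ω * e⁻¹) * w⁻¹ = w * ω * e * (w⁻¹ * w) * ω * e⁻¹ * w⁻¹ := by group
    _ = (w * ω) * e * w⁻¹ * (w * ω) * e⁻¹ * w⁻¹ := by group
    _ = ω * w * e * w⁻¹ * (ω * w) * e⁻¹ * w⁻¹ := by rw [hw.eq]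
    _ = _ := by group

theorem Hub.icomm_mem (h : Hub Q z) (hω : ω * ω = 1) (hωz : Commute ω z) {e : G} (he : e ∈ Q) :
    icomm ω e ∈ Q := by
  have := h.normalizes ω hωz e he
  rw [inv_eq_of_mul_eq_one_right hω] at this
  exact mul_mem this (inv_mem he)

theorem Hub.icomm_commute (h : Hub Q z) (hω : ω * ω = 1) (hωz : Commute ω z) {e p : G}
    (he : e ∈ Q) (hp : p ∈ Q) (hpω : Commute p ω) : Commute (icomm ω e) p := by
  refine (mul_inv_eq_iff_eq_mul.mp ?_ : p * icomm ω e = icomm ω e * p).symm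
  rw [icomm_conj p e hpω]
  rcases h.comm p hp e he with r | r <;> rw [r]
  exact icomm_mul_right hω e hωz.symm

/-- `icomm ω e` commutes with `e` when it is an involution. -/
theorem Hub.icomm_commute_self (h : Hub Q z) (hω : ω * ω = 1) (hωz : Commute ω z) {e : G}
    (he : e ∈ Q) (hc : icomm ω e * icomm ω e = 1) : Commute (icomm ω e) e := by
  set c := icomm ω e with hc'
  have e1 : ω * e * ω = c * e := by rw [hc']; simp [icomm, mul_assoc]
  have e2 : ω * (e * e) * ω = e * e := by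
    rcases h.sq_cases e he with r | r <;> rw [r]
    · rw [mul_one, hω]
    · rw [hωz.eq, mul_assoc, hω, mul_one]
  have e3 : c * e * (c * e) = e * e := by
    rw [← e1, ← e2]
    have e0 : ∀ t, ω * (ω * t) = t := fun t => by rw [← mul_assoc, hω, one_mul]
    simp [mul_assoc, e0]
  have e4 : c * e * c = e := mul_right_cancel (by rw [mul_assoc (c * e), e3])
  show c * e = e * c
  calc c * e = c * e * (c * c) := by rw [hc, mul_one]
    _ = e * c := by rw [← mul_assoc, e4]

/-- If `C_Q(ω)` has at most two cosets in `Q` then `ω` is in `Q`. -/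
theorem Hub.mem_of_two_cosets (h : Hub Q z) (hω : ω * ω = 1) (hωz : Commute ω z) {e : G}
    (he : e ∈ Q) (hcov : ∀ y ∈ Q, Commute y ω ∨ Commute (e⁻¹ * y) ω) : ω ∈ Q := by
  by_cases heω : Commute e ω
  · have : ∀ y ∈ Q, Commute ω y := fun y hy => by
      rcases hcov y hy with r | r
      · exact r.symm
      · simpa using (heω.mul_left r).symm
    rcases h.self ω this with r | r <;> rw [r]
    exacts [Q.one_mem, h.mem]
  set c := icomm ω e
  have hcQ : c ∈ Q := h.icomm_mem hω hωz he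
  have hcC : ∀ p ∈ Q, Commute p ω → Commute c p := fun p hp hpω => h.icomm_commute hω hωz he hp hpω
  have hne : c ≠ 1 := fun r => heω ((icomm_eq_one hω).mp r)
  have hcω : Commute c ω := by
    by_contra hc
    have hce := (hcov c hcQ).resolve_left hc
    have : c = 1 ∨ c = z := h.self c fun y hy => by
      rcases hcov y hy with r | r
      · exact hcC y hy r
      · have hey : Commute c (e⁻¹ * y) := hcC _ (mul_mem (inv_mem he) hy) r
        have hec : Commute c (e⁻¹ * c) := hcC _ (mul_mem (inv_mem he) hcQ) hce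
        have h3 : Commute c e⁻¹ := by
          simpa using hec.mul_right (Commute.refl c).inv_right
        have h4 : Commute c e := by simpa using h3.inv_right
        simpa using h4.mul_right hey
    rcases this with r | r
    exacts [hne r, hc (r ▸ hωz.symm)]
  have hcc : c * c = 1 := by
    have := icomm_conj_self hω e
    rw [hcω.symm.eq, mul_assoc, hω, mul_one] at this
    exact eq_inv_iff_mul_eq_one.mp this
  have hcz : c = z := by
    refine (h.self c fun y hy => ?_).resolve_left hne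
    rcases hcov y hy with r | r
    · exact hcC y hy r
    · simpa using (h.icomm_commute_self hω hωz he hcc).mul_right
        (hcC _ (mul_mem (inv_mem he) hy) r)
  -- an element of `Q` acts as `ω`
  obtain ⟨q, hq, hqC, hqe⟩ : ∃ q ∈ Q, (∀ p ∈ Q, Commute p ω → Commute q p) ∧ ¬ Commute q e := by
    by_contra hno
    push Not at hno
    refine heω (mem_centralizer_singleton_iff.mp ((h.dcc (Q ⊓ centralizer {ω}) inf_le_left
      ⟨h.mem, mem_centralizer_singleton_iff.mpr hωz.eq.symm⟩ e he fun w hw hwd => ?_).2))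
    exact (hno w hw fun p hp hpω => hwd p ⟨hp, mem_centralizer_singleton_iff.mpr hpω.eq⟩).symm
  have hqω : ∀ y ∈ Q, Commute (q * ω) y := by
    intro y hy
    have hC : ∀ p ∈ Q, Commute p ω → Commute (q * ω) p := fun p hp hpω =>
      (hqC p hp hpω).mul_left hpω.symm
    rcases hcov y hy with r | r
    · exact hC y hy r
    · have e1 : ω * e * ω⁻¹ = z * e := by
        rw [← hcz, inv_eq_of_mul_eq_one_right hω]; simp [c, icomm]
      have e2 : Commute (q * ω) e := mul_inv_eq_iff_eq_mul.mp (by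
        calc q * ω * e * (q * ω)⁻¹ = (q * z * q⁻¹) * (q * e * q⁻¹) := by
              rw [show q * ω * e * (q * ω)⁻¹ = q * (ω * e * ω⁻¹) * q⁻¹ by group, e1]; group
          _ = z * (e * z) := by
            rw [h.comm_symm hq he hqe, (h.central q hq).eq, mul_inv_cancel_right]
          _ = e := by rw [(h.central e he).eq, ← mul_assoc, h.sq, one_mul])
      simpa using e2.mul_right (hC _ (mul_mem (inv_mem he) hy) r)
  rcases h.self _ hqω with r | r
  · rw [← inv_eq_of_mul_eq_one_right r]; exact inv_mem hq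
  · rw [show ω = q⁻¹ * z by rw [← r]; group]; exact mul_mem (inv_mem hq) h.mem

/-- The four cosets of `C_Q(ω)`. -/
theorem Hub.four_cosets [Finite G] (h : Hub Q z) (hω : ω * ω = 1) (hωz : Commute ω z)
    (hωQ : ω ∉ Q)
    (hC : Nat.card ↥Q ≤ 4 * Nat.card ↥(Q ⊓ centralizer ({ω} : Set G) : Subgroup G)) :
    ∃ e₁ ∈ Q, ∃ e₂ ∈ Q, ¬ Commute e₁ ω ∧ ¬ Commute e₂ ω ∧ ¬ Commute (e₁ * e₂) ω ∧
      ∀ y ∈ Q, Commute y ω ∨ Commute (e₁⁻¹ * y) ω ∨ Commute (e₂⁻¹ * y) ω ∨
        Commute ((e₁ * e₂)⁻¹ * y) ω := by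
  obtain ⟨e₁, he₁, hne₁⟩ : ∃ e₁ ∈ Q, ¬ Commute e₁ ω := by
    by_contra hno
    push Not at hno
    exact hωQ (h.mem_of_two_cosets hω hωz Q.one_mem fun y hy => Or.inl (hno y hy))
  obtain ⟨e₂, he₂, hne₂, hne12⟩ : ∃ e₂ ∈ Q, ¬ Commute e₂ ω ∧ ¬ Commute (e₁⁻¹ * e₂) ω := by
    by_contra hno
    push Not at hno
    exact hωQ (h.mem_of_two_cosets hω hωz he₁ fun y hy => (em _).imp_right (hno y hy))
  have hsq : ∀ e ∈ Q, Commute (e * e) ω := fun e he => by
    rcases h.sq_cases e he with r | r <;> rw [r]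
    exacts [Commute.one_left ω, hωz.symm]
  have hne3 : ¬ Commute (e₁ * e₂) ω := fun r => hne12 (by
    simpa [mul_inv_rev, mul_assoc] using (hsq e₁ he₁).inv_left.mul_left r)
  refine ⟨e₁, he₁, e₂, he₂, hne₁, hne₂, hne3, fun y hy => ?_⟩
  let C : Subgroup G := Q ⊓ centralizer ({ω} : Set G)
  have hCm : ∀ {p : G}, p ∈ C ↔ p ∈ Q ∧ Commute p ω := by
    intro p; simp only [C, Subgroup.mem_inf, mem_centralizer_singleton_iff]; rfl
  let r : Fin 4 → ↥Q := ![1, ⟨e₁, he₁⟩, ⟨e₂, he₂⟩, ⟨e₁ * e₂, mul_mem he₁ he₂⟩]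
  let f : Fin 4 × ↥C → ↥Q := fun ip => r ip.1 * ⟨ip.2, (hCm.mp ip.2.2).1⟩
  have hr : ∀ i j, Commute (((r i : ↥Q) : G)⁻¹ * r j) ω → i = j := by
    have s₁ : ¬ Commute e₁⁻¹ ω := fun c => hne₁ (by simpa using c.inv_left)
    have s₂ : ¬ Commute e₂⁻¹ ω := fun c => hne₂ (by simpa using c.inv_left)
    have s12 : ¬ Commute (e₂⁻¹ * e₁) ω := fun c => hne12 (by simpa using c.inv_left)
    have s3 : ¬ Commute (e₂⁻¹ * e₁⁻¹) ω := fun c => hne3 (by simpa using c.inv_left)
    have s3' : ¬ Commute (e₂⁻¹ * (e₁ * e₂)) ω := by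
      intro c
      refine hne₁ ?_
      rcases h.comm e₂⁻¹ (inv_mem he₂) e₁ he₁ with t | t <;>
        rw [inv_inv, mul_assoc] at t <;> rw [t] at c
      · exact c
      · simpa [mul_assoc, h.sq] using c.mul_left hωz.symm
    have s3'' : ¬ Commute (e₂⁻¹ * e₁⁻¹ * e₂) ω := fun c => s3' (by
      simpa [mul_assoc] using c.inv_left)
    intro i j hij
    fin_cases i <;> fin_cases j <;> simp [r, mul_inv_rev, mul_assoc] at hij ⊢ <;>
      first
        | exact hne₁ hij | exact hne₂ hij | exact hne3 hij | exact hne12 hij | exact s₁ hij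
        | exact s₂ hij | exact s12 hij | exact s3 hij | exact s3' hij
        | exact s3'' (by simpa [mul_assoc] using hij)
  have hinj : Function.Injective f := by
    rintro ⟨i, p⟩ ⟨j, p'⟩ hpq
    have hval : (r i : G) * p = r j * p' := congrArg Subtype.val hpq
    obtain rfl : i = j := hr i j (by
      rw [show ((r i : ↥Q) : G)⁻¹ * r j = (p : G) * (p' : G)⁻¹ by
        rw [inv_mul_eq_iff_eq_mul, ← mul_assoc, hval, mul_inv_cancel_right]]
      exact (hCm.mp p.2).2.mul_left (hCm.mp p'.2).2.inv_left)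
    exact Prod.ext rfl (Subtype.ext (mul_left_cancel hval))
  have hbij := hinj.bijective_of_nat_card_le (by
    rw [Nat.card_prod, Nat.card_eq_fintype_card (α := Fin 4), Fintype.card_fin]; exact hC)
  obtain ⟨⟨i, p⟩, hip⟩ := hbij.2 ⟨y, hy⟩
  have hval : (r i : G) * p = y := congrArg Subtype.val hip
  have hp := (hCm.mp p.2).2
  fin_cases i <;> simp [r] at hval
  · exact Or.inl (hval ▸ hp)
  · exact Or.inr (Or.inl (by rwa [← hval, inv_mul_cancel_left]))
  · exact Or.inr (Or.inr (Or.inl (by rwa [← hval, inv_mul_cancel_left])))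
  · exact Or.inr (Or.inr (Or.inr (by rwa [← hval, inv_mul_cancel_left])))

end Cfsg.Agent.LargeExtraspecial
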