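import Cfsg.Agent.Lib.LargeExtraspecial.SmithPair

/-!
# `Q ∩ Q^x` for a weakly closed `z` moving `Q` in four cosets

* `Hub.exists_inter_ne_one`: the intersection is not trivial.
* `Hub.commute_of_commute_inter`: `C_{Q^x}(Q ∩ Q^x) ≤ C(z)`.
* `Hub.exists_move`: each `d ∈ Q ∩ Q^x` other than `1` comes with `v z v⁻¹ = z ω d`.
-/

set_option autoImplicit false

namespace Cfsg.Agent.LargeExtraspecial

open Subgroup

variable {G : Type*} [Group G] {E : Subgroup G} {z x : G}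

/-- The situation: `z` weakly closed in `E`, `ω = x z x⁻¹` moves `E` in four cosets. -/
structure FourPair (E : Subgroup G) (z x : G) : Prop where
  hub : Hub E z
  card : 128 ≤ Nat.card ↥E
  wc : ∀ g : G, g * z * g⁻¹ ∈ E → g * z * g⁻¹ = z
  comm : Commute (x * z * x⁻¹) z
  ne : x * z * x⁻¹ ≠ z
  index : Nat.card ↥E ≤ 4 * Nat.card ↥(E ⊓ centralizer ({x * z * x⁻¹} : Set G) : Subgroup G)

namespace FourPair

local notation "ω" => x * z * x⁻¹

theorem sq (F : FourPair E z x) : x * z * x⁻¹ * (x * z * x⁻¹) = 1 := (F.hub.conj x).sq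

theorem not_mem (F : FourPair E z x) : x * z * x⁻¹ ∉ E := fun m => F.ne (F.wc x m)

theorem not_mem' (F : FourPair E z x) : z ∉ E.map (MulAut.conj x).toMonoidHom :=
  not_mem_conj_of_wc F.wc F.ne

variable [Finite G]

theorem commute_icomm (F : FourPair E z x) {e : G} (he : e ∈ E) :
    Commute (icomm (x * z * x⁻¹) e) (x * z * x⁻¹) :=
  F.hub.commute_icomm F.card F.wc F.comm F.ne F.index he

theorem icomm_sq (F : FourPair E z x) {e : G} (he : e ∈ E) :
    icomm (x * z * x⁻¹) e * icomm (x * z * x⁻¹) e = 1 := by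
  have h1 := icomm_conj_self F.sq e
  rw [(F.commute_icomm he).symm.eq, mul_assoc, F.sq, mul_one] at h1
  exact eq_inv_iff_mul_eq_one.mp h1

theorem icomm_commute_self (F : FourPair E z x) {e : G} (he : e ∈ E) :
    Commute (icomm (x * z * x⁻¹) e) e :=
  F.hub.icomm_commute_self F.sq F.comm he (F.icomm_sq he)

theorem icomm_mem (F : FourPair E z x) {e : G} (he : e ∈ E) : icomm (x * z * x⁻¹) e ∈ E :=
  F.hub.icomm_mem F.sq F.comm he

/-- The two basic commutators move the two basic cosets. -/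
theorem exists_basis (F : FourPair E z x) :
    ∃ e₁ ∈ E, ∃ e₂ ∈ E,
      (∀ y ∈ E, Commute y (x * z * x⁻¹) ∨ Commute (e₁⁻¹ * y) (x * z * x⁻¹) ∨
        Commute (e₂⁻¹ * y) (x * z * x⁻¹) ∨ Commute ((e₁ * e₂)⁻¹ * y) (x * z * x⁻¹)) ∧
      ¬ Commute e₁ (x * z * x⁻¹) ∧ ¬ Commute e₂ (x * z * x⁻¹) ∧
      ¬ Commute (e₁ * e₂) (x * z * x⁻¹) ∧
      ¬ Commute e₁ (icomm (x * z * x⁻¹) e₂) ∧ ¬ Commute e₂ (icomm (x * z * x⁻¹) e₁) := by
  have h := F.hub
  have hω2 : ω * ω = 1 := F.sq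
  obtain ⟨e₁, he₁, e₂, he₂, hn₁, hn₂, hn₃, hcov⟩ :=
    h.four_cosets hω2 F.comm F.not_mem F.index
  have key : ∀ e ∈ E, ∀ f ∈ E, ¬ Commute e ω → ¬ Commute f ω → ¬ Commute (e * f) ω →
      (∀ y ∈ E, Commute y ω ∨ Commute (e⁻¹ * y) ω ∨ Commute (f⁻¹ * y) ω ∨
        Commute ((e * f)⁻¹ * y) ω) → ¬ Commute e (icomm ω f) := by
    intro e he f hf hne hnf hnef hcov hcomm
    have hC : ∀ p ∈ E, Commute p ω → Commute (icomm ω f) p := fun p hp hpω =>
      h.icomm_commute hω2 F.comm hf hp hpω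
    have hff : Commute (icomm ω f) f := F.icomm_commute_self hf
    rcases h.self (icomm ω f) (fun y hy => by
      rcases hcov y hy with s | s | s | s
      · exact hC y hy s
      · simpa using hcomm.symm.mul_right (hC _ (mul_mem (inv_mem he) hy) s)
      · simpa using hff.mul_right (hC _ (mul_mem (inv_mem hf) hy) s)
      · simpa [mul_assoc] using (hcomm.symm.mul_right hff).mul_right
          (hC _ (mul_mem (inv_mem (mul_mem he hf)) hy) s)) with t | t
    · exact hnf ((icomm_eq_one hω2).mp t)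
    · -- the other commutator
      set c := icomm ω e with hc
      have hce : Commute c e := F.icomm_commute_self he
      have hef : icomm ω (e * f) = c * z := by
        rw [icomm_mul hω2, t, (h.central e he).eq, mul_inv_cancel_right]
      have hcf : Commute c f := by
        have h1 : Commute (c * z) (e * f) := hef ▸ F.icomm_commute_self (mul_mem he hf)
        have h2 : Commute c (e * f) := by
          simpa [mul_assoc, h.sq] using h1.mul_left (h.central _ (mul_mem he hf)).symm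
        simpa using hce.inv_right.mul_right h2
      have hcC : ∀ p ∈ E, Commute p ω → Commute c p := fun p hp hpω =>
        h.icomm_commute hω2 F.comm he hp hpω
      rcases h.self c (fun y hy => by
        rcases hcov y hy with s | s | s | s
        · exact hcC y hy s
        · simpa using hce.mul_right (hcC _ (mul_mem (inv_mem he) hy) s)
        · simpa using hcf.mul_right (hcC _ (mul_mem (inv_mem hf) hy) s)
        · simpa [mul_assoc] using (hce.mul_right hcf).mul_right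
            (hcC _ (mul_mem (inv_mem (mul_mem he hf)) hy) s)) with r | r
      · exact hne ((icomm_eq_one hω2).mp r)
      · exact hnef ((icomm_eq_one hω2).mp (by rw [hef, r, h.sq]))
  refine ⟨e₁, he₁, e₂, he₂, hcov, hn₁, hn₂, hn₃, key e₁ he₁ e₂ he₂ hn₁ hn₂ hn₃ hcov, ?_⟩
  have hswap : ∀ y : G, Commute ((e₁ * e₂)⁻¹ * y) ω → Commute ((e₂ * e₁)⁻¹ * y) ω := by
    intro y hy
    rcases h.comm e₁ he₁ e₂ he₂ with t | t
    · rwa [← mul_inv_eq_iff_eq_mul.mp t]
    · rw [mul_inv_eq_iff_eq_mul.mp t, mul_assoc, ← (h.central e₁ he₁).eq, ← mul_assoc] at hy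
      have e : (e₂ * e₁)⁻¹ * y = z * ((e₂ * e₁ * z)⁻¹ * y) := by
        rw [mul_inv_rev (e₂ * e₁) z, h.z_inv, mul_assoc z, ← mul_assoc z z, h.sq, one_mul]
      rw [e]
      exact F.comm.symm.mul_left hy
  refine key e₂ he₂ e₁ he₁ hn₂ hn₁ ?_ fun y hy => ?_
  · intro t
    refine hn₃ ?_
    rcases h.comm e₁ he₁ e₂ he₂ with s | s
    · rwa [mul_inv_eq_iff_eq_mul.mp s]
    · rw [mul_inv_eq_iff_eq_mul.mp s, mul_assoc, ← (h.central e₁ he₁).eq, ← mul_assoc]
      exact t.mul_left F.comm.symm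
  · rcases hcov y hy with s | s | s | s
    exacts [Or.inl s, Or.inr (Or.inr (Or.inl s)), Or.inr (Or.inl s),
      Or.inr (Or.inr (Or.inr (hswap y s)))]

/-- The centre of `C_E(ω)` is generated by `z` and the commutators. -/
theorem central_cases (F : FourPair E z x) {q : G} (hq : q ∈ E)
    (hqC : ∀ p ∈ E, Commute p (x * z * x⁻¹) → Commute q p) :
    q = 1 ∨ q = z ∨ ∃ f ∈ E, ¬ Commute f (x * z * x⁻¹) ∧
      (q = icomm (x * z * x⁻¹) f ∨ q = icomm (x * z * x⁻¹) f * z) := by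
  have h := F.hub
  have hω2 : ω * ω = 1 := F.sq
  obtain ⟨e₁, he₁, e₂, he₂, hcov, hn₁, hn₂, hn₃, m12, m21⟩ := F.exists_basis
  have hall : ∀ v : G, (∀ p ∈ E, Commute p ω → Commute v p) → Commute v e₁ → Commute v e₂ →
      v = 1 ∨ v = z := fun v hvC hv1 hv2 => by
    refine h.self v fun y hy => ?_
    rcases hcov y hy with s | s | s | s
    · exact hvC y hy s
    · simpa using hv1.mul_right (hvC _ (mul_mem (inv_mem he₁) hy) s)
    · simpa using hv2.mul_right (hvC _ (mul_mem (inv_mem he₂) hy) s)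
    · simpa [mul_assoc] using (hv1.mul_right hv2).mul_right
        (hvC _ (mul_mem (inv_mem (mul_mem he₁ he₂)) hy) s)
  -- correct by a commutator with the same pattern
  have hfix : ∀ f ∈ E, ¬ Commute f ω → ∀ e ∈ E, (Commute e q ↔ Commute e (icomm ω f)) →
      Commute (q * icomm ω f) e := by
    intro f hf hfω e he hiff
    have hc := F.icomm_mem hf
    by_cases heq : Commute e q
    · exact heq.symm.mul_left (hiff.mp heq).symm
    have h1 := h.comm_symm he hq heq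
    have h2 := h.comm_symm he hc fun t => heq (hiff.mpr t)
    refine (mul_inv_eq_iff_eq_mul.mp ?_ : e * (q * icomm ω f) = _).symm
    calc e * (q * icomm ω f) * e⁻¹ = (e * q * e⁻¹) * (e * icomm ω f * e⁻¹) := by group
      _ = q * (z * (icomm ω f * z)) := by rw [h1, h2, mul_assoc q z]
      _ = q * icomm ω f := by rw [← mul_assoc z, ← (h.central _ hc).eq, mul_assoc, h.sq, mul_one]
  have hconcl : ∀ f ∈ E, ¬ Commute f ω → (Commute e₁ q ↔ Commute e₁ (icomm ω f)) →
      (Commute e₂ q ↔ Commute e₂ (icomm ω f)) →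
      q = 1 ∨ q = z ∨ ∃ f ∈ E, ¬ Commute f ω ∧ (q = icomm ω f ∨ q = icomm ω f * z) := by
    intro f hf hfω i1 i2
    refine Or.inr (Or.inr ⟨f, hf, hfω, ?_⟩)
    rcases hall (q * icomm ω f)
      (fun p hp hpω => (hqC p hp hpω).mul_left (h.icomm_commute hω2 F.comm hf hp hpω))
      (hfix f hf hfω e₁ he₁ i1) (hfix f hf hfω e₂ he₂ i2) with t | t
    · left
      rw [← mul_one q, ← F.icomm_sq hf, ← mul_assoc, t, one_mul]
    · right
      rw [(h.central _ (F.icomm_mem hf)).eq]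
      nth_rw 1 [← t]
      rw [mul_assoc, F.icomm_sq hf, mul_one]
  have c1 : Commute e₁ (icomm ω e₁) := (F.icomm_commute_self he₁).symm
  have c2 : Commute e₂ (icomm ω e₂) := (F.icomm_commute_self he₂).symm
  by_cases a1 : Commute e₁ q <;> by_cases a2 : Commute e₂ q
  · rcases hall q hqC a1.symm a2.symm with t | t
    exacts [Or.inl t, Or.inr (Or.inl t)]
  · exact hconcl e₁ he₁ hn₁ (iff_of_true a1 c1) (iff_of_false a2 m21)
  · exact hconcl e₂ he₂ hn₂ (iff_of_false a1 m12) (iff_of_true a2 c2)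
  · refine hconcl _ (mul_mem he₁ he₂) hn₃ (iff_of_false a1 ?_) (iff_of_false a2 ?_)
    all_goals
      intro t
      have hd : icomm ω (e₁ * e₂) = icomm ω e₁ * icomm ω e₂ * z := by
        rw [icomm_mul hω2, h.comm_symm he₁ (F.icomm_mem he₂) m12, ← mul_assoc]
      have t' := hd ▸ t
    · refine m12 ?_
      have t1 : Commute e₁ (icomm ω e₁ * icomm ω e₂) := by
        have := t'.mul_right (h.central e₁ he₁)
        rwa [mul_assoc _ z z, h.sq, mul_one] at this
      have := c1.inv_right.mul_right t1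
      rwa [inv_mul_cancel_left] at this
    · refine m21 ?_
      have t1 : Commute e₂ (icomm ω e₁ * icomm ω e₂) := by
        have := t'.mul_right (h.central e₂ he₂)
        rwa [mul_assoc _ z z, h.sq, mul_one] at this
      have := t1.mul_right c2.inv_right
      rwa [mul_inv_cancel_right] at this

/-- Nontrivial elements of `E ∩ E^x`. -/
theorem inter_cases (F : FourPair E z x) {d : G} (hd : d ∈ E)
    (hd' : d ∈ E.map (MulAut.conj x).toMonoidHom) (hd1 : d ≠ 1) :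
    ∃ f ∈ E, ¬ Commute f (x * z * x⁻¹) ∧ d = icomm (x * z * x⁻¹) f * z := by
  have h := F.hub
  have h' := h.conj x
  suffices hcm : ∀ p ∈ E, Commute p (x * z * x⁻¹) → Commute d p by
   rcases F.central_cases hd hcm with t | t | ⟨f, hf, hfω, t | t⟩
   · exact absurd t hd1
   · exact absurd (t ▸ hd') F.not_mem'
   · exfalso
     refine hfω ((icomm_eq_one F.sq).mp ?_)
     have h1 : x * z * x⁻¹ * icomm (x * z * x⁻¹) f = (f * x) * z * (f * x)⁻¹ := by
       rw [← conj_eq_mul_icomm F.sq f]; group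
     have h2 := wc_conj F.wc x (f * x) (h1 ▸ mul_mem h'.mem (t ▸ hd'))
     rwa [← h1, mul_eq_left] at h2
   · exact ⟨f, hf, hfω, t⟩
  intro p hp hpω
  rcases h.comm p hp d hd with t | t
  · exact (mul_inv_eq_iff_eq_mul.mp t).symm
  · have h1 := h'.normalizes p hpω d hd'
    rw [t] at h1
    exact absurd ((Subgroup.mul_mem_cancel_left _ hd').mp h1) F.not_mem'

theorem inter_commute (F : FourPair E z x) {d w : G} (hd : d ∈ E)
    (hd' : d ∈ E.map (MulAut.conj x).toMonoidHom)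
    (hw : w ∈ E.map (MulAut.conj x).toMonoidHom) (hwz : Commute w z) : Commute w d := by
  have h := F.hub
  refine mul_inv_eq_iff_eq_mul.mp (((h.conj x).comm w hw d hd').resolve_right fun t => F.not_mem ?_)
  exact ((Subgroup.mul_mem_cancel_left E hd).mp (t ▸ h.normalizes w hwz d hd))

/-- The commutator of `C_E(ω)` and `C_{E^x}(z)` lies in both. -/
theorem comm_mem_inter (F : FourPair E z x) {p w : G} (hp : p ∈ E)
    (hpω : Commute p (x * z * x⁻¹)) (hw : w ∈ E.map (MulAut.conj x).toMonoidHom)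
    (hwz : Commute w z) :
    p * w * p⁻¹ * w⁻¹ ∈ E ∧ p * w * p⁻¹ * w⁻¹ ∈ E.map (MulAut.conj x).toMonoidHom := by
  refine ⟨?_, mul_mem ((F.hub.conj x).normalizes p hpω w hw) (inv_mem hw)⟩
  rw [show p * w * p⁻¹ * w⁻¹ = p * (w * p⁻¹ * w⁻¹) by group]
  exact mul_mem hp (F.hub.normalizes w hwz _ (inv_mem hp))

theorem exists_inter_ne_one (F : FourPair E z x) :
    ∃ d ∈ E, d ∈ E.map (MulAut.conj x).toMonoidHom ∧ d ≠ 1 := by
  by_contra hno
  push Not at hno
  have h := F.hub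
  have h' := h.conj x
  set E' := E.map (MulAut.conj x).toMonoidHom with hE'
  have hω2 : ω * ω = 1 := F.sq
  obtain ⟨e₁, he₁, e₂, he₂, hcov, hn₁, hn₂, hn₃, m12, m21⟩ := F.exists_basis
  set c₁ := icomm ω e₁ with hc₁
  set c₂ := icomm ω e₂ with hc₂
  have hcent : ∀ w ∈ E', Commute w z → ∀ p ∈ E, Commute p ω → Commute w p := fun w hw hwz p hp hpω => by
    have h1 := F.comm_mem_inter hp hpω hw hwz
    exact (mul_inv_eq_iff_eq_mul.mp (mul_inv_eq_one.mp (hno _ h1.1 h1.2))).symm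
  -- the images of the two coset representatives
  have himg : ∀ e ∈ E, ∀ w ∈ E', Commute w z →
      ∃ p, w * e * w⁻¹ = e * p ∧ p ∈ E ∧ Commute p e ∧ Commute p ω ∧
        (∀ q ∈ E, Commute q ω → Commute p q) := by
    intro e he w hw hwz
    have hwe : w * e * w⁻¹ ∈ E := h.normalizes w hwz e he
    set p := e⁻¹ * (w * e * w⁻¹) with hp
    have hwp : w * e * w⁻¹ = e * p := by rw [hp, mul_inv_cancel_left]
    have hpE : p ∈ E := mul_mem (inv_mem he) hwe
    have hpC : ∀ q ∈ E, Commute q ω → Commute p q := fun q hq hqω => by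
      have hqe : e * q * e⁻¹ ∈ E ∧ Commute (e * q * e⁻¹) ω := by
        refine ⟨mul_mem (mul_mem he hq) (inv_mem he), ?_⟩
        rcases h.comm e he q hq with t | t <;> rw [t]
        exacts [hqω, hqω.mul_left F.comm.symm]
      have h1 := mul_inv_eq_iff_eq_mul.mpr (hcent w hw hwz _ hqe.1 hqe.2).eq
      have h2 := mul_inv_eq_iff_eq_mul.mpr (hcent w hw hwz q hq hqω).eq
      refine mul_inv_eq_iff_eq_mul.mp ?_
      calc p * q * p⁻¹ = e⁻¹ * ((e * p) * q * (e * p)⁻¹) * e := by group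
        _ = e⁻¹ * (w * (e * (w⁻¹ * (w * q * w⁻¹) * w) * e⁻¹) * w⁻¹) * e := by rw [← hwp, h2]; group
        _ = e⁻¹ * (e * q * e⁻¹) * e := by
          rw [show w⁻¹ * (w * q * w⁻¹) * w = q by group, h1]
        _ = q := by group
    refine ⟨p, hwp, hpE, ?_, ?_, hpC⟩
    rotate_left
    · rcases F.central_cases hpE hpC with t | t | ⟨f, hf, -, t | t⟩ <;> rw [t]
      exacts [Commute.one_left ω, F.comm.symm, F.commute_icomm hf,
        (F.commute_icomm hf).mul_left F.comm.symm]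
    have hp2 : p * p = 1 := by
      rcases F.central_cases hpE hpC with t | t | ⟨f, hf, -, t | t⟩ <;> rw [t]
      · exact one_mul 1
      · exact h.sq
      · exact F.icomm_sq hf
      · rw [mul_assoc, ← mul_assoc z, ← (h.central _ (F.icomm_mem hf)).eq, mul_assoc _ z z, h.sq,
          mul_one, F.icomm_sq hf]
    have hee : w * (e * e) * w⁻¹ = e * e := by
      rcases h.sq_cases e he with t | t <;> rw [t]
      · group
      · rw [hwz.eq, mul_inv_cancel_right]
    have h3 : e * p * (e * p) = e * e := by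
      rw [← hwp]
      exact Eq.trans (by group) hee
    have h4 : p * e * p = e := mul_left_cancel (a := e) (by
      calc e * (p * e * p) = e * p * (e * p) := by group
        _ = e * e := h3)
    show p * e = e * p
    calc p * e = p * e * (p * p) := by rw [hp2, mul_one]
      _ = e * p := by rw [← mul_assoc, h4]
  -- the two images are central together
  have hside : ∀ w, w ∈ E' → Commute w z → ∀ a b p q : G, a ∈ E → b ∈ E → q ∈ E →
      w * a * w⁻¹ = a * p → w * b * w⁻¹ = b * q → Commute p b → Commute p q → Commute q a := by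
    intro w _ hwz a b p q ha hb hq h1 h2 hpb hpq
    have h3 : w * (a * b * a⁻¹) * w⁻¹ = a * b * a⁻¹ * (a * q * a⁻¹) := by
      calc _ = (w * a * w⁻¹) * (w * b * w⁻¹) * (w * a * w⁻¹)⁻¹ := by group
        _ = a * (p * (b * q) * p⁻¹) * a⁻¹ := by rw [h1, h2]; group
        _ = a * (b * q) * a⁻¹ := by rw [(hpb.mul_right hpq).eq, mul_inv_cancel_right]
        _ = _ := by group
    refine (mul_inv_eq_iff_eq_mul.mp ?_ : a * q = q * a).symm
    rcases h.comm a ha b hb with t | t <;> rw [t] at h3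
    · rw [h2] at h3; exact (mul_left_cancel h3).symm
    · rw [show w * (b * z) * w⁻¹ = (w * b * w⁻¹) * (w * z * w⁻¹) by group, h2, hwz.eq,
        mul_inv_cancel_right, mul_assoc, mul_assoc, (h.central q hq).eq] at h3
      exact (mul_left_cancel (mul_left_cancel h3)).symm
  have hall : ∀ v : G, (∀ q ∈ E, Commute q ω → Commute v q) → Commute v e₁ → Commute v e₂ →
      v = 1 ∨ v = z := fun v hvC hv1 hv2 => by
    refine h.self v fun y hy => ?_
    rcases hcov y hy with s | s | s | s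
    · exact hvC y hy s
    · simpa using hv1.mul_right (hvC _ (mul_mem (inv_mem he₁) hy) s)
    · simpa using hv2.mul_right (hvC _ (mul_mem (inv_mem he₂) hy) s)
    · simpa [mul_assoc] using (hv1.mul_right hv2).mul_right
        (hvC _ (mul_mem (inv_mem (mul_mem he₁ he₂)) hy) s)
  have hcC : ∀ e ∈ E, ∀ q ∈ E, Commute q ω → Commute (icomm ω e) q := fun e he q hq hqω =>
    h.icomm_commute hω2 F.comm he hq hqω
  have hc₁E : c₁ ∈ E := F.icomm_mem he₁
  have hc₂E : c₂ ∈ E := F.icomm_mem he₂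
  -- a normalised element is trivial
  have hnorm : ∀ v ∈ E', Commute v z → (v * e₁ * v⁻¹ = e₁ ∨ v * e₁ * v⁻¹ = e₁ * z) →
      (v * e₂ * v⁻¹ = e₂ ∨ v * e₂ * v⁻¹ = e₂ * z) → v = 1 := by
    intro v hv hvz o1 o2
    suffices hvE : v ∈ E from hno v hvE hv
    have hm1 : ∀ r ∈ E, ∀ e ∈ E, v * e * v⁻¹ = e * z → ¬ Commute r e → Commute (r * v) e := by
      intro r hr e he hve hre
      refine mul_inv_eq_iff_eq_mul.mp ?_
      calc r * v * e * (r * v)⁻¹ = r * (v * e * v⁻¹) * r⁻¹ := by group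
        _ = (r * e * r⁻¹) * (r * z * r⁻¹) := by rw [hve]; group
        _ = e := by
          rw [h.comm_symm hr he hre, (h.central r hr).eq, mul_inv_cancel_right, mul_assoc, h.sq,
            mul_one]
    have hfinish : ∀ r ∈ E, (∀ q ∈ E, Commute q ω → Commute r q) → Commute (r * v) e₁ →
        Commute (r * v) e₂ → v ∈ E := fun r hr hrC u1 u2 => by
      have hrv : r * v ∈ E := by
        rcases hall _ (fun q hq hqω => (hrC q hq hqω).mul_left (hcent v hv hvz q hq hqω)) u1 u2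
          with t | t <;> rw [t]
        exacts [E.one_mem, h.mem]
      exact (E.mul_mem_cancel_left hr).mp hrv
    have hA : ∀ r e : G, Commute r e → v * e * v⁻¹ = e → Commute (r * v) e := fun r e hre hve =>
      hre.mul_left (mul_inv_eq_iff_eq_mul.mp hve)
    have k11 : Commute c₁ e₁ := F.icomm_commute_self he₁
    have k22 : Commute c₂ e₂ := F.icomm_commute_self he₂
    have k12 : ¬ Commute c₂ e₁ := fun t => m12 t.symm
    have k21 : ¬ Commute c₁ e₂ := fun t => m21 t.symm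
    rcases o1 with o1 | o1 <;> rcases o2 with o2 | o2
    · exact hfinish 1 E.one_mem (fun q _ _ => Commute.one_left q) (hA 1 _ (Commute.one_left _) o1)
        (hA 1 _ (Commute.one_left _) o2)
    · exact hfinish c₁ hc₁E (hcC e₁ he₁) (hA _ _ k11 o1) (hm1 _ hc₁E _ he₂ o2 k21)
    · exact hfinish c₂ hc₂E (hcC e₂ he₂) (hm1 _ hc₂E _ he₁ o1 k12) (hA _ _ k22 o2)
    · refine hfinish (c₁ * c₂) (mul_mem hc₁E hc₂E)
        (fun q hq hqω => (hcC e₁ he₁ q hq hqω).mul_left (hcC e₂ he₂ q hq hqω))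
        (hm1 _ (mul_mem hc₁E hc₂E) _ he₁ o1 fun t => k12 ?_)
        (hm1 _ (mul_mem hc₁E hc₂E) _ he₂ o2 fun t => k21 ?_)
      · simpa using k11.inv_left.mul_left t
      · simpa [mul_assoc] using t.mul_left k22.inv_left
  -- everything in `C_{E'}(z)` is `1` or `ω`
  have hsmall : ∀ w ∈ E', Commute w z → w = 1 ∨ w = ω := by
    intro w hw hwz
    obtain ⟨p₁, q₁, hp₁, a11, b1, d1⟩ := himg e₁ he₁ w hw hwz
    obtain ⟨p₂, q₂, hp₂, a22, b2, d2⟩ := himg e₂ he₂ w hw hwz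
    have hpp : Commute p₁ p₂ := d1 p₂ hp₂ b2
    have hor : ∀ e p : G, p = 1 ∨ p = z → e * p = e ∨ e * p = e * z := fun e p o =>
      o.imp (fun o => by rw [o, mul_one]) fun o => by rw [o]
    by_cases a12 : Commute p₁ e₂
    · have a21 := hside w hw hwz e₁ e₂ p₁ p₂ he₁ he₂ hp₂ q₁ q₂ a12 hpp
      left
      exact hnorm w hw hwz (q₁ ▸ hor e₁ p₁ (hall p₁ d1 a11 a12))
        (q₂ ▸ hor e₂ p₂ (hall p₂ d2 a21 a22))
    · have a21 : ¬ Commute p₂ e₁ := fun t =>
        a12 (hside w hw hwz e₂ e₁ p₂ p₁ he₂ he₁ hp₁ q₂ q₁ t hpp.symm)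
      right
      have hmove : ∀ e ∈ E, ∀ p : G, w * e * w⁻¹ = e * p →
          (ω * w) * e * (ω * w)⁻¹ = e * (icomm ω e * p) ∨ ¬ Commute p ω := by
        intro e he p hq
        by_cases hpω : Commute p ω
        · left
          calc (ω * w) * e * (ω * w)⁻¹ = ω * (w * e * w⁻¹) * ω⁻¹ := by group
            _ = ω * e * (p * ω) := by rw [hq, inv_eq_of_mul_eq_one_right hω2]; group
            _ = ω * e * ω * p := by rw [hpω.eq, mul_assoc (ω * e)]
            _ = icomm ω e * e * p := by simp [icomm]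
            _ = _ := by rw [(F.icomm_commute_self he).eq, mul_assoc]
        · exact Or.inr hpω
      have n1 := (hmove e₁ he₁ p₁ q₁).resolve_right fun t => t b1
      have n2 := (hmove e₂ he₂ p₂ q₂).resolve_right fun t => t b2
      have flip : ∀ a b : G, a ∈ E → b ∈ E → ∀ e ∈ E, ¬ Commute a e → ¬ Commute b e →
          Commute (a * b) e := by
        intro a b ha hb e he na nb
        refine mul_inv_eq_iff_eq_mul.mp ?_
        calc a * b * e * (a * b)⁻¹ = a * (b * e * b⁻¹) * a⁻¹ := by group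
          _ = (a * e * a⁻¹) * (a * z * a⁻¹) := by rw [h.comm_symm hb he nb]; group
          _ = e := by
            rw [h.comm_symm ha he na, (h.central a ha).eq, mul_inv_cancel_right, mul_assoc, h.sq,
              mul_one]
      have c1ok := hall (c₁ * p₁) (fun q hq hqω => (hcC e₁ he₁ q hq hqω).mul_left (d1 q hq hqω))
        ((F.icomm_commute_self he₁).mul_left a11)
        (flip c₁ p₁ hc₁E hp₁ e₂ he₂ (fun t => m21 t.symm) a12)
      have c2ok := hall (c₂ * p₂) (fun q hq hqω => (hcC e₂ he₂ q hq hqω).mul_left (d2 q hq hqω))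
        (flip c₂ p₂ hc₂E hp₂ e₁ he₁ (fun t => m12 t.symm) a21)
        ((F.icomm_commute_self he₂).mul_left a22)
      have h1 := hnorm (ω * w) (mul_mem h'.mem hw) (F.comm.mul_left hwz)
        (n1 ▸ hor e₁ _ c1ok) (n2 ▸ hor e₂ _ c2ok)
      rw [← inv_eq_of_mul_eq_one_right hω2]
      exact (inv_eq_of_mul_eq_one_right h1).symm
  have h8 := h'.card_le_of_centralizer_small h.sq F.comm.symm hsmall
  rw [hE', Subgroup.card_map_of_injective (MulAut.conj x).injective] at h8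
  have := F.card
  omega

/-- Elements fixing two commutators of different cosets centralise `ω`. -/
theorem commute_of_fix (F : FourPair E z x) {k₁ k₂ p : G} (hk₁ : k₁ ∈ E) (hk₂ : k₂ ∈ E)
    (h₁ : ¬ Commute k₁ (x * z * x⁻¹)) (h₂ : ¬ Commute k₂ (x * z * x⁻¹))
    (h₁₂ : ¬ Commute (k₁⁻¹ * k₂) (x * z * x⁻¹)) (hp : p ∈ E)
    (u₁ : Commute p (icomm (x * z * x⁻¹) k₁)) (u₂ : Commute p (icomm (x * z * x⁻¹) k₂)) :
    Commute p (x * z * x⁻¹) := by
  have h := F.hub
  obtain ⟨e₁, he₁, e₂, he₂, hcov, hn₁, hn₂, hn₃, m12, m21⟩ := F.exists_basis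
  have key : ∀ f g : G, Commute (g⁻¹ * f) ω → icomm ω f = icomm ω g := fun f g hfg => by
    conv_lhs => rw [← mul_inv_cancel_left g f]
    exact icomm_mul_right F.sq g hfg
  have hval : ∀ f ∈ E, ¬ Commute f ω → icomm ω f = icomm ω e₁ ∨ icomm ω f = icomm ω e₂ ∨
      icomm ω f = icomm ω (e₁ * e₂) := by
    intro f hf hfω
    rcases hcov f hf with r | r | r | r
    exacts [absurd r hfω, Or.inl (key _ _ r), Or.inr (Or.inl (key _ _ r)),
      Or.inr (Or.inr (key _ _ r))]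
  have hne : icomm ω k₁ ≠ icomm ω k₂ := fun t => h₁₂ (mul_inv_eq_iff_eq_mul.mp (by
    calc k₁⁻¹ * k₂ * ω * (k₁⁻¹ * k₂)⁻¹ = k₁⁻¹ * (k₂ * ω * k₂⁻¹) * k₁ := by group
      _ = k₁⁻¹ * (k₁ * ω * k₁⁻¹) * k₁ := by
        rw [conj_eq_mul_icomm F.sq, conj_eq_mul_icomm F.sq, t]
      _ = ω := by group))
  have h12 : icomm ω (e₁ * e₂) = icomm ω e₁ * icomm ω e₂ * z := by
    rw [icomm_mul F.sq, h.comm_symm he₁ (F.icomm_mem he₂) m12, ← mul_assoc]
  have hboth : Commute p (icomm ω e₁) ∧ Commute p (icomm ω e₂) := by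
    have hz : Commute p z := h.central p hp
    have w1 : ∀ a b, Commute p a → Commute p (a * b * z) → Commute p b := fun a b ha hab => by
      have := hab.mul_right hz
      rw [mul_assoc _ z z, h.sq, mul_one] at this
      simpa using ha.inv_right.mul_right this
    have w2 : ∀ a b, Commute p b → Commute p (a * b * z) → Commute p a := fun a b hb hab => by
      have := hab.mul_right hz
      rw [mul_assoc _ z z, h.sq, mul_one] at this
      simpa using this.mul_right hb.inv_right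
    rcases hval k₁ hk₁ h₁ with r₁ | r₁ | r₁ <;> rcases hval k₂ hk₂ h₂ with r₂ | r₂ | r₂ <;>
      rw [r₁] at u₁ hne <;> rw [r₂] at u₂ hne <;>
      first
        | exact absurd rfl hne
        | exact ⟨u₁, u₂⟩ | exact ⟨u₂, u₁⟩
        | (rw [h12] at u₂; exact ⟨u₁, w1 _ _ u₁ u₂⟩)
        | (rw [h12] at u₂; exact ⟨w2 _ _ u₁ u₂, u₁⟩)
        | (rw [h12] at u₁; exact ⟨u₂, w1 _ _ u₂ u₁⟩)
        | (rw [h12] at u₁; exact ⟨w2 _ _ u₂ u₁, u₂⟩)
  have hback : ∀ f ∈ E, ∀ g ∈ E, Commute p (icomm ω g) → ¬ Commute f (icomm ω g) →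
      Commute (f⁻¹ * p) ω → False := fun f hf g hg a m s => by
    have h1 := h.icomm_commute F.sq F.comm hg (mul_mem (inv_mem hf) hp) s
    refine m ?_
    simpa using (h1.symm.mul_left a.inv_left).inv_left
  rcases hcov p hp with s | s | s | s
  · exact s
  · exact (hback e₁ he₁ e₂ he₂ hboth.2 m12 s).elim
  · exact (hback e₂ he₂ e₁ he₁ hboth.1 m21 s).elim
  · refine (hback (e₁ * e₂) (mul_mem he₁ he₂) e₁ he₁ hboth.1 (fun t => m21 ?_) s).elim
    simpa using (F.icomm_commute_self he₁).symm.inv_left.mul_left t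

/-- Two different nontrivial elements generate `E ∩ E^x`. -/
theorem commute_inter_pair (F : FourPair E z x) {d₁ d₂ d q : G} (hd₁ : d₁ ∈ E)
    (hd₁' : d₁ ∈ E.map (MulAut.conj x).toMonoidHom) (h₁ : d₁ ≠ 1) (hd₂ : d₂ ∈ E)
    (hd₂' : d₂ ∈ E.map (MulAut.conj x).toMonoidHom) (h₂ : d₂ ≠ 1) (hne : d₁ ≠ d₂) (hd : d ∈ E)
    (hd' : d ∈ E.map (MulAut.conj x).toMonoidHom) (u₁ : Commute q d₁) (u₂ : Commute q d₂) :
    Commute q d := by
  classical
  obtain ⟨e₁, he₁, e₂, he₂, hcov, -⟩ := F.exists_basis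
  set T : Finset G := {icomm ω e₁ * z, icomm ω e₂ * z, icomm ω (e₁ * e₂) * z}
  have hT : ∀ d' ∈ E, d' ∈ E.map (MulAut.conj x).toMonoidHom → d' ≠ 1 → d' ∈ T := by
    intro d' a b c
    obtain ⟨f', hf', hf'ω, rfl⟩ := F.inter_cases a b c
    have key : ∀ g : G, Commute (g⁻¹ * f') ω → icomm ω f' = icomm ω g := fun g hg => by
      conv_lhs => rw [← mul_inv_cancel_left g f']
      exact icomm_mul_right F.sq g hg
    rcases hcov f' hf' with r | r | r | r
    · exact absurd r hf'ω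
    all_goals simp [T, key _ r]
  have hdd : d₁ * d₁ = 1 := by
    obtain ⟨f, hf, -, e⟩ := F.inter_cases hd₁ hd₁' h₁
    rw [e, mul_assoc, ← mul_assoc z, ← (F.hub.central _ (F.icomm_mem hf)).eq, mul_assoc _ z z,
      F.hub.sq, mul_one, F.icomm_sq hf]
  have h3 : d₁ * d₂ ≠ 1 := fun t => hne ((inv_eq_of_mul_eq_one_right hdd).symm.trans
    (inv_eq_of_mul_eq_one_right t))
  have hsub : ({d₁, d₂, d₁ * d₂} : Finset G) = T := by
    refine Finset.eq_of_subset_of_card_le ?_ ?_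
    · intro y hy
      simp only [Finset.mem_insert, Finset.mem_singleton] at hy
      rcases hy with rfl | rfl | rfl
      exacts [hT _ hd₁ hd₁' h₁, hT _ hd₂ hd₂' h₂, hT _ (mul_mem hd₁ hd₂) (mul_mem hd₁' hd₂') h3]
    · refine Finset.card_le_three.trans (le_of_eq (Finset.card_eq_three.mpr
        ⟨d₁, d₂, d₁ * d₂, hne, fun t => h₂ (mul_eq_left.mp t.symm),
          fun t => h₁ (mul_eq_right.mp t.symm), rfl⟩).symm)
  by_cases hd1 : d = 1
  · rw [hd1]; exact Commute.one_right q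
  have := hsub ▸ hT d hd hd' hd1
  simp only [Finset.mem_insert, Finset.mem_singleton] at this
  rcases this with rfl | rfl | rfl
  exacts [u₁, u₂, u₁.mul_right u₂]

/-- `z ω` is not a conjugate of `z`. -/
theorem not_conj_mul (F : FourPair E z x) (g : G) : g * z * g⁻¹ ≠ x * z * x⁻¹ * z := by
  intro hg
  have h := F.hub
  obtain ⟨d, hd, hd', hd1⟩ := F.exists_inter_ne_one
  obtain ⟨f, hf, -, hdf⟩ := F.inter_cases hd hd' hd1
  set c := icomm ω f with hc
  have hcE : c ∈ E := F.icomm_mem hf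
  have hE'' : ω * z ∈ E.map (MulAut.conj (f * x)).toMonoidHom := by
    have e1 : ω * c = (f * x) * z * (f * x)⁻¹ := by rw [← conj_eq_mul_icomm F.sq f]; group
    have e2 : ω * c ∈ E.map (MulAut.conj (f * x)).toMonoidHom := e1 ▸ (h.conj (f * x)).mem
    have e3 : d ∈ E.map (MulAut.conj (f * x)).toMonoidHom := by
      rw [mem_conj_iff] at hd' ⊢
      have hfd : Commute d f := hdf ▸ (F.icomm_commute_self hf).mul_left (h.central f hf).symm
      rwa [show (f * x)⁻¹ * d * (f * x) = x⁻¹ * (f⁻¹ * (d * f)) * x by group, hfd.eq,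
        inv_mul_cancel_left]
    have e4 : ω * z = (ω * c) * d := by
      calc ω * z = ω * (c * c * z) := by rw [F.icomm_sq hf, one_mul]
        _ = (ω * c) * d := by rw [hdf]; group
    rw [e4]; exact mul_mem e2 e3
  have h2 := wc_conj F.wc (f * x) g (hg ▸ hE'')
  rw [hg] at h2
  have h3 : ω * z = ω * c := by
    rw [h2, ← conj_eq_mul_icomm F.sq f]; group
  exact hd1 (by rw [hdf, ← mul_left_cancel h3, h.sq])

/-- The commutators of `z` with `E^x` centralise `z`, and are involutions. -/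
theorem move_sq (F : FourPair E z x) {v : G} (hv : v ∈ E.map (MulAut.conj x).toMonoidHom) :
    icomm z v * icomm z v = 1 := by
  have h' := F.hub.conj x
  rcases h'.sq_cases _ (h'.icomm_mem F.hub.sq F.comm.symm hv) with t | t
  · exact t
  exfalso
  set s := icomm z v with hs
  have h1 : z * s * z = s⁻¹ := icomm_conj_self F.hub.sq v
  refine F.not_conj_mul s⁻¹ ?_
  have h3 : s⁻¹ = s * ω := inv_eq_of_mul_eq_one_right (by rw [← mul_assoc, t, F.sq])
  calc s⁻¹ * z * s⁻¹⁻¹ = s⁻¹ * ((z * s * z) * z) := by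
        rw [mul_assoc (z * s) z z, F.hub.sq, mul_one, inv_inv]; group
    _ = s⁻¹ * (s * ω * z) := by rw [h1]; nth_rw 2 [h3]
    _ = ω * z := by group

theorem move_commute_z (F : FourPair E z x) {v : G}
    (hv : v ∈ E.map (MulAut.conj x).toMonoidHom) : Commute (icomm z v) z := by
  have h1 := icomm_conj_self F.hub.sq v
  rw [inv_eq_of_mul_eq_one_right (F.move_sq hv)] at h1
  refine (mul_inv_eq_iff_eq_mul.mp ?_ : z * icomm z v = icomm z v * z).symm
  rw [F.hub.z_inv]; exact h1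

/-- Elements of `E^x` centralising `C_{E^x}(z)` centralise `z`. -/
theorem commute_of_commute_centralizer (F : FourPair E z x) {r : G}
    (hr : r ∈ E.map (MulAut.conj x).toMonoidHom)
    (hrc : ∀ w ∈ E.map (MulAut.conj x).toMonoidHom, Commute w z → Commute r w) :
    Commute r z := by
  have h := F.hub
  have h' := h.conj x
  set E' := E.map (MulAut.conj x).toMonoidHom
  let S : Set G := insert ω {s | ∃ v ∈ E', s = icomm z v}
  have hDE : closure S ≤ E' := by
    rw [closure_le]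
    rintro s (rfl | ⟨v, hv, rfl⟩)
    exacts [h'.mem, h'.icomm_mem h.sq F.comm.symm hv]
  have hDz : closure S ≤ centralizer ({z} : Set G) := by
    rw [closure_le]
    rintro s (rfl | ⟨v, hv, rfl⟩)
    exacts [mem_centralizer_singleton_iff.mpr F.comm.eq,
      mem_centralizer_singleton_iff.mpr (F.move_commute_z hv).eq]
  refine mem_centralizer_singleton_iff.mp (hDz (h'.dcc (closure S) hDE
    (subset_closure (Or.inl rfl)) r hr fun w hw hwD => hrc w hw ?_))
  have hu : ∀ v ∈ E', Commute (w⁻¹ * (z * w * z)) v := by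
    intro v hv
    have hsv : Commute w (icomm z v) := hwD _ (subset_closure (Or.inr ⟨v, hv, rfl⟩))
    have hs2 : icomm z v * icomm z v = 1 := F.move_sq hv
    have e1 : z * v * z = icomm z v * v := by simp [icomm]
    have hvw : ∀ t, z * (icomm z v * t) * z = icomm z v * (z * t * z) := fun t => by
      rw [show z * (icomm z v * t) * z = (z * icomm z v) * t * z by group,
        (F.move_commute_z hv).symm.eq]; group
    refine mul_inv_eq_iff_eq_mul.mp ?_
    calc w⁻¹ * (z * w * z) * v * (w⁻¹ * (z * w * z))⁻¹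
        = w⁻¹ * (z * (w * (z * v * z) * w⁻¹) * z) * w := by simp [mul_assoc, h.z_inv]
      _ = w⁻¹ * (z * (icomm z v * (w * v * w⁻¹)) * z) * w := by
        rw [e1, ← mul_assoc w, hsv.eq]; group
      _ = w⁻¹ * (icomm z v * (z * (w * v * w⁻¹) * z)) * w := by rw [hvw]
      _ = v := by
        rcases h'.comm w hw v hv with t | t
        · rw [t, e1, ← mul_assoc (icomm z v), hs2, one_mul]
          calc w⁻¹ * v * w = w⁻¹ * (w * v * w⁻¹) * w := by rw [t]
            _ = v := by group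
        · rw [t, show z * (v * ω) * z = (z * v * z) * (z⁻¹ * ω * z) by group,
            mul_assoc z⁻¹ ω z, F.comm.eq, inv_mul_cancel_left, e1,
            ← mul_assoc (icomm z v), ← mul_assoc (icomm z v), hs2, one_mul]
          calc w⁻¹ * (v * ω) * w = w⁻¹ * (w * v * w⁻¹) * w := by rw [t]
            _ = v := by group
  rcases h'.self _ hu with t | t
  · rw [inv_mul_eq_one] at t
    refine mul_inv_eq_iff_eq_mul.mp ?_
    calc w * z * w⁻¹ = (z * w * z) * z * w⁻¹ := by rw [← t]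
      _ = z * (z * z) := by
        rw [mul_assoc (z * w) z z, h.sq, mul_one, mul_inv_cancel_right, mul_one]
      _ = z := by rw [h.sq, mul_one]
  · exfalso
    rw [inv_mul_eq_iff_eq_mul] at t
    refine F.not_conj_mul w⁻¹ ?_
    calc w⁻¹ * z * w⁻¹⁻¹ = w⁻¹ * (z * w * z) * z := by
          rw [inv_inv, mul_assoc (w⁻¹) (z * w * z) z, mul_assoc (z * w) z z, h.sq, mul_one]; group
      _ = ω * z := by rw [t, inv_mul_cancel_left]

/-- `C_{E^x}(E ∩ E^x) ≤ C(z)`. -/
theorem commute_of_commute_inter (F : FourPair E z x) {v : G}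
    (hv : v ∈ E.map (MulAut.conj x).toMonoidHom)
    (hvD : ∀ d ∈ E, d ∈ E.map (MulAut.conj x).toMonoidHom → Commute v d) : Commute v z := by
  have h := F.hub
  have h' := h.conj x
  set E' := E.map (MulAut.conj x).toMonoidHom
  -- the commutators of `v` with `C_E(ω)`
  have hr : ∀ p ∈ E, Commute p ω →
      p * v * p⁻¹ * v⁻¹ ∈ E' ∧ Commute (p * v * p⁻¹ * v⁻¹) z ∧
        ∀ w ∈ E', Commute w z → Commute (p * v * p⁻¹ * v⁻¹) w := by
    intro p hp hpω
    have hrE : p * v * p⁻¹ * v⁻¹ ∈ E' := mul_mem (h'.normalizes p hpω v hv) (inv_mem hv)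
    have hrw : ∀ w ∈ E', Commute w z → Commute (p * v * p⁻¹ * v⁻¹) w := by
      intro w hw hwz
      obtain ⟨hd, hd'⟩ := F.comm_mem_inter (inv_mem hp) hpω.inv_left hw hwz
      rw [inv_inv] at hd hd'
      set d := p⁻¹ * w * p * w⁻¹ with hdd
      have hvd : Commute v d := hvD d hd hd'
      have hvv : p⁻¹ * w * p = d * w := by rw [hdd]; group
      have hpω' : p * ω * p⁻¹ = ω := mul_inv_eq_iff_eq_mul.mpr hpω.eq
      refine mul_inv_eq_iff_eq_mul.mp ?_
      rcases h'.comm v hv w hw with t | t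
      · calc _ = p * v * p⁻¹ * (v⁻¹ * (v * w * v⁻¹) * v) * (p * v * p⁻¹)⁻¹ := by rw [t]; group
          _ = p * (v * d * v⁻¹) * (v * w * v⁻¹) * p⁻¹ := by
            rw [show v⁻¹ * (v * w * v⁻¹) * v = p * (p⁻¹ * w * p) * p⁻¹ by group, hvv]; group
          _ = p * (d * w) * p⁻¹ := by
            rw [mul_inv_eq_iff_eq_mul.mpr hvd.eq, t, mul_assoc p d w]
          _ = w := by rw [← hvv]; group
      · have t' : v⁻¹ * w * v = w * ω := by
          have e : v⁻¹ * ω * v = ω := by rw [mul_assoc, ← (h'.central v hv).eq, inv_mul_cancel_left]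
          calc v⁻¹ * w * v = v⁻¹ * (w * ω) * v * (v⁻¹ * ω * v) := by
                rw [show v⁻¹ * (w * ω) * v * (v⁻¹ * ω * v) = v⁻¹ * (w * (ω * ω)) * v by group,
                  F.sq, mul_one]
            _ = v⁻¹ * (v * w * v⁻¹) * v * (v⁻¹ * ω * v) := by rw [t]
            _ = w * ω := by rw [e]; group
        calc _ = p * v * p⁻¹ * (v⁻¹ * w * v) * (p * v * p⁻¹)⁻¹ := by group
          _ = p * v * (p⁻¹ * w * p) * (p⁻¹ * ω * p) * v⁻¹ * p⁻¹ := by rw [t']; group
          _ = p * (v * d * v⁻¹) * (v * w * v⁻¹) * (v * (p⁻¹ * ω * p) * v⁻¹) * p⁻¹ := by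
            rw [hvv]; group
          _ = p * (d * w * ω * ω) * p⁻¹ := by
            rw [mul_inv_eq_iff_eq_mul.mpr hvd.eq, t, mul_assoc p⁻¹ ω p, ← hpω.eq,
              inv_mul_cancel_left, mul_inv_eq_iff_eq_mul.mpr (h'.central v hv).eq]
            simp [mul_assoc]
          _ = w := by rw [mul_assoc (d * w) ω ω, F.sq, mul_one, ← hvv]; group
    exact ⟨hrE, F.commute_of_commute_centralizer hrE hrw, hrw⟩
  -- a noncommuting pair in `C_E(ω)`
  obtain ⟨p₁, hp₁, p₂, hp₂, hω₁, hω₂, hnc⟩ :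
      ∃ p₁ ∈ E, ∃ p₂ ∈ E, Commute p₁ ω ∧ Commute p₂ ω ∧ ¬ Commute p₁ p₂ := by
    obtain ⟨f₁, hf₁, f₂, hf₂, hcov, hn₁, hn₂, -, m12, m21⟩ := F.exists_basis
    obtain ⟨p₁, hp₁, p₂, hp₂, ⟨a1, b1⟩, ⟨a2, b2⟩, hnc⟩ :=
      h.exists_noncommuting_two F.card (F.icomm_mem hf₁) (F.icomm_mem hf₂)
    have hin : ∀ p ∈ E, Commute p (icomm ω f₁) → Commute p (icomm ω f₂) → Commute p ω := by
      intro p hp u1 u2
      have hback : ∀ f ∈ E, ∀ g ∈ E, Commute p (icomm ω g) → ¬ Commute f (icomm ω g) →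
          Commute (f⁻¹ * p) ω → False := fun f hf g hg u1 m s => by
        have h1 := h.icomm_commute F.sq F.comm hg (mul_mem (inv_mem hf) hp) s
        refine m ?_
        simpa using (h1.symm.mul_left u1.inv_left).inv_left
      rcases hcov p hp with s | s | s | s
      · exact s
      · exact (hback f₁ hf₁ f₂ hf₂ u2 m12 s).elim
      · exact (hback f₂ hf₂ f₁ hf₁ u1 m21 s).elim
      · refine (hback (f₁ * f₂) (mul_mem hf₁ hf₂) f₁ hf₁ u1 (fun t => m21 ?_) s).elim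
        simpa using (F.icomm_commute_self hf₁).symm.inv_left.mul_left t
    exact ⟨p₁, hp₁, p₂, hp₂, hin _ hp₁ a1 b1, hin _ hp₂ a2 b2, hnc⟩
  have hp12 : p₁ * p₂ = p₂ * p₁ * z := by
    rw [mul_inv_eq_iff_eq_mul.mp (h.comm_symm hp₁ hp₂ hnc), mul_assoc, ← (h.central p₁ hp₁).eq,
      ← mul_assoc]
  obtain ⟨hrE₁, hrz₁, hrw₁⟩ := hr p₁ hp₁ hω₁
  obtain ⟨hrE₂, hrz₂, hrw₂⟩ := hr p₂ hp₂ hω₂
  set r₁ := p₁ * v * p₁⁻¹ * v⁻¹ with hr₁
  set r₂ := p₂ * v * p₂⁻¹ * v⁻¹ with hr₂
  obtain ⟨hda, hda'⟩ := F.comm_mem_inter hp₁ hω₁ hrE₂ hrz₂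
  obtain ⟨hdb, hdb'⟩ := F.comm_mem_inter hp₂ hω₂ hrE₁ hrz₁
  set da := p₁ * r₂ * p₁⁻¹ * r₂⁻¹ with hda₀
  set db := p₂ * r₁ * p₂⁻¹ * r₁⁻¹ with hdb₀
  have hdz : ∀ t ∈ E, Commute t z := fun t ht => h.central t ht
  have e1 : p₁ * p₂ * v * (p₁ * p₂)⁻¹ = da * r₂ * (r₁ * v) := by
    rw [hda₀, hr₁, hr₂]; group
  have e2 : p₁ * p₂ * v * (p₁ * p₂)⁻¹ = db * r₁ * (r₂ * (icomm z v * v)) := by
    have e3 : p₂ * p₁ * v * (p₂ * p₁)⁻¹ = db * r₁ * (r₂ * v) := by rw [hdb₀, hr₁, hr₂]; group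
    have hzp : Commute (p₂ * p₁) z := (hdz _ hp₂).mul_left (hdz _ hp₁)
    have hzr : Commute (db * r₁ * r₂) z := ((hdz _ hdb).mul_left hrz₁).mul_left hrz₂
    calc p₁ * p₂ * v * (p₁ * p₂)⁻¹ = (p₂ * p₁ * z) * v * (z⁻¹ * (p₂ * p₁)⁻¹) := by
          rw [hp12]; group
      _ = z * ((p₂ * p₁) * v * (p₂ * p₁)⁻¹) * z⁻¹ := by
          rw [hzp.eq, hzp.inv_left.symm.inv_left.eq]; group
      _ = z * (db * r₁ * r₂) * v * z := by rw [e3, h.z_inv]; group
      _ = db * r₁ * (r₂ * (z * v * z)) := by rw [hzr.symm.eq]; group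
      _ = _ := by simp [icomm]
  have hrr : Commute r₁ r₂ := hrw₁ r₂ hrE₂ hrz₂
  have hs : icomm z v = db⁻¹ * da := by
    have e4 : da * r₂ * r₁ = db * r₁ * r₂ * icomm z v := mul_right_cancel (b := v) (by
      rw [mul_assoc (da * r₂), ← e1, e2]; group)
    have hc : Commute (r₁ * r₂) (db⁻¹ * da) :=
      ((F.inter_commute hdb hdb' hrE₁ hrz₁).inv_right.mul_right
        (F.inter_commute hda hda' hrE₁ hrz₁)).mul_left
      ((F.inter_commute hdb hdb' hrE₂ hrz₂).inv_right.mul_right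
        (F.inter_commute hda hda' hrE₂ hrz₂))
    rw [mul_assoc da, hrr.symm.eq] at e4
    calc icomm z v = (r₁ * r₂)⁻¹ * db⁻¹ * (db * r₁ * r₂ * icomm z v) := by group
      _ = (r₁ * r₂)⁻¹ * ((db⁻¹ * da) * (r₁ * r₂)) := by rw [← e4]; group
      _ = db⁻¹ * da := by rw [← hc.eq, inv_mul_cancel_left]
  have hsE : z * icomm z v ∈ E := mul_mem h.mem (hs ▸ mul_mem (inv_mem hdb) hda)
  rw [← conj_eq_mul_icomm h.sq v] at hsE
  exact mul_inv_eq_iff_eq_mul.mp (F.wc v hsE)

/-- Each nontrivial element of `E ∩ E^x` comes from a conjugate of `z` under `E^x`. -/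
theorem exists_move (F : FourPair E z x) {d : G} (hd : d ∈ E)
    (hd' : d ∈ E.map (MulAut.conj x).toMonoidHom) (hd1 : d ≠ 1) :
    ∃ v ∈ E.map (MulAut.conj x).toMonoidHom, Commute v d ∧ ¬ Commute v z ∧
      v * z * v⁻¹ = z * (x * z * x⁻¹ * d) := by
  have h := F.hub
  have h' := h.conj x
  set E' := E.map (MulAut.conj x).toMonoidHom
  obtain ⟨f, hf, hfω, hdf⟩ := F.inter_cases hd hd' hd1
  have hdω : Commute d ω := h'.central d hd'
  have hd2 : d * d = 1 := by
    rw [hdf, mul_assoc, ← mul_assoc z, ← (h.central _ (F.icomm_mem hf)).eq, mul_assoc _ z z, h.sq,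
      mul_one, F.icomm_sq hf]
  have hdne : d ≠ ω := fun t => F.not_mem (t ▸ hd)
  have hsne : ∀ v ∈ E', ¬ Commute v z → icomm z v ≠ 1 ∧ icomm z v ≠ ω ∧ icomm z v ≠ d := by
    intro v hv hvz
    refine ⟨fun t => hvz ((icomm_eq_one h.sq).mp t), fun t => ?_, fun t => ?_⟩
    · refine F.not_conj_mul v ?_
      rw [conj_eq_mul_icomm h.sq v, t]; exact F.comm.eq.symm
    · have hm : z * icomm z v ∈ E := t ▸ mul_mem h.mem hd
      rw [← conj_eq_mul_icomm h.sq v] at hm
      exact hvz (mul_inv_eq_iff_eq_mul.mp (F.wc v hm))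
  by_cases hall : ∀ v ∈ E', Commute v d → Commute v z
  · exfalso
    obtain ⟨v, hv, hvz'⟩ := h'.exists_not_commute h.ne_one (fun t => F.ne t.symm)
    have hvz : ¬ Commute v z := fun t => hvz' t.symm
    set s := icomm z v with hs
    have hsC : ∀ w ∈ E', Commute w z → Commute s w := fun w hw hwz =>
      h'.icomm_commute h.sq F.comm.symm hv hw hwz
    have hsv : Commute s v := h'.icomm_commute_self h.sq F.comm.symm hv (F.move_sq hv)
    have hvd : ¬ Commute v d := fun t => hvz (hall v hv t)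
    refine (hsne v hv hvz).2.1 ((h'.self s fun y hy => ?_).resolve_left (hsne v hv hvz).1)
    by_cases hyd : Commute y d
    · exact hsC y hy (hall y hy hyd)
    · simpa using hsv.mul_right (hsC _ (mul_mem (inv_mem hv) hy)
        (hall _ (mul_mem (inv_mem hv) hy) (h'.commute_inv_mul hv hy hd' hvd hyd)))
  push Not at hall
  obtain ⟨v, hv, hvd, hvz⟩ := hall
  refine ⟨v, hv, hvd, hvz, ?_⟩
  obtain ⟨d₂, hd₂, hd₂', hvd₂⟩ : ∃ d₂ ∈ E, d₂ ∈ E' ∧ ¬ Commute v d₂ := by
    by_contra hno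
    push Not at hno
    exact hvz (F.commute_of_commute_inter hv hno)
  -- `d` and `d₂` exhaust the intersection
  obtain ⟨e₁, he₁, e₂, he₂, hcov, hn₁, hn₂, hn₃, -⟩ := F.exists_basis
  have hval : ∀ f' ∈ E, ¬ Commute f' ω → icomm ω f' = icomm ω e₁ ∨ icomm ω f' = icomm ω e₂ ∨
      icomm ω f' = icomm ω (e₁ * e₂) := by
    intro f' hf' hf'ω
    have key : ∀ g : G, Commute (g⁻¹ * f') ω → icomm ω f' = icomm ω g := fun g hg => by
      conv_lhs => rw [← mul_inv_cancel_left g f']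
      exact icomm_mul_right F.sq g hg
    rcases hcov f' hf' with r | r | r | r
    exacts [absurd r hf'ω, Or.inl (key _ r), Or.inr (Or.inl (key _ r)), Or.inr (Or.inr (key _ r))]
  classical
  set T : Finset G := {icomm ω e₁ * z, icomm ω e₂ * z, icomm ω (e₁ * e₂) * z}
  have hT : ∀ d' ∈ E, d' ∈ E' → d' ≠ 1 → d' ∈ T := by
    intro d' a b c
    obtain ⟨f', hf', hf'ω, rfl⟩ := F.inter_cases a b c
    rcases hval f' hf' hf'ω with r | r | r <;> simp [T, r]
  have hd₂1 : d₂ ≠ 1 := fun t => hvd₂ (t ▸ Commute.one_right v)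
  have hd₂d : d₂ ≠ d := fun t => hvd₂ (t ▸ hvd)
  have hdd₂ : d * d₂ ≠ 1 := fun t => hd₂d ((inv_eq_of_mul_eq_one_right t).symm.trans
    (inv_eq_of_mul_eq_one_right hd2))
  have hsub : ({d, d₂, d * d₂} : Finset G) = T := by
    refine Finset.eq_of_subset_of_card_le ?_ ?_
    · intro y hy
      simp only [Finset.mem_insert, Finset.mem_singleton] at hy
      rcases hy with rfl | rfl | rfl
      exacts [hT _ hd hd' hd1, hT _ hd₂ hd₂' hd₂1, hT _ (mul_mem hd hd₂) (mul_mem hd' hd₂') hdd₂]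
    · refine Finset.card_le_three.trans (le_of_eq (Finset.card_eq_three.mpr
        ⟨d, d₂, d * d₂, hd₂d.symm, fun t => hd₂1 (mul_eq_left.mp t.symm),
          fun t => hd1 (mul_eq_right.mp t.symm), rfl⟩).symm)
  have hC : ∀ y ∈ E', Commute y d → Commute y d₂ → Commute y z := by
    intro y hy y1 y2
    refine F.commute_of_commute_inter hy fun d' a b => ?_
    by_cases hd'1 : d' = 1
    · rw [hd'1]; exact Commute.one_right y
    have := hsub ▸ hT d' a b hd'1
    simp only [Finset.mem_insert, Finset.mem_singleton] at this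
    rcases this with rfl | rfl | rfl
    exacts [y1, y2, y1.mul_right y2]
  set s := icomm z v with hs
  have hsE : s ∈ E' := h'.icomm_mem h.sq F.comm.symm hv
  have hsv : Commute s v := h'.icomm_commute_self h.sq F.comm.symm hv (F.move_sq hv)
  have hscl := h'.centralizer_of_self hd' hsE (fun y hy hyd => by
    by_cases hy2 : Commute y d₂
    · exact h'.icomm_commute h.sq F.comm.symm hv hy (hC y hy hyd hy2)
    · simpa using hsv.mul_right (h'.icomm_commute h.sq F.comm.symm hv (mul_mem (inv_mem hv) hy)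
        (hC _ (mul_mem (inv_mem hv) hy) (hvd.inv_left.mul_left hyd)
          (h'.commute_inv_mul hv hy hd₂' hvd₂ hy2))))
  obtain ⟨n1, n2, n3⟩ := hsne v hv hvz
  rcases mem_four F.sq hd2 hdω.symm hscl with t | t | t | t
  exacts [absurd t n1, absurd t n2, absurd t n3, by rw [conj_eq_mul_icomm h.sq v, ← hs, t]]

/-- Smith: homomorphisms of `C(z)` killing `E` kill `x⁻¹ C_E(ω) x`. -/
theorem extOne_conj_eq_one {A : Type*} [CommGroup A] (F : FourPair E z x)
    (hE : E ≤ centralizer ({z} : Set G)) (χ : ↥(centralizer ({z} : Set G)) →* A)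
    (hkill : ∀ q ∈ E, extOne χ q = 1) {a : G} (ha : a ∈ E) (haω : Commute a (x * z * x⁻¹)) :
    extOne χ (x⁻¹ * a * x) = 1 := by
  have h := F.hub
  have h' := h.conj x
  set E' := E.map (MulAut.conj x).toMonoidHom with hE'
  have hmemH : ∀ {g : G}, g ∈ centralizer ({z} : Set G) ↔ Commute g z :=
    mem_centralizer_singleton_iff
  obtain ⟨d₁, hd₁, hd₁', hd₁1⟩ := F.exists_inter_ne_one
  obtain ⟨v₁, hv₁, hv₁d, hv₁z, hη₁⟩ := F.exists_move hd₁ hd₁' hd₁1
  obtain ⟨d₂, hd₂, hd₂', hvd₂⟩ : ∃ d₂ ∈ E, d₂ ∈ E' ∧ ¬ Commute v₁ d₂ := by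
    by_contra hno
    push Not at hno
    exact hv₁z (F.commute_of_commute_inter hv₁ hno)
  have hd₂1 : d₂ ≠ 1 := fun t => hvd₂ (t ▸ Commute.one_right v₁)
  have hd₃1 : d₁ * d₂ ≠ 1 := fun t =>
    hvd₂ (by rw [← inv_eq_of_mul_eq_one_right t]; exact hv₁d.inv_right)
  obtain ⟨v₂, hv₂, -, -, hη₂⟩ := F.exists_move hd₂ hd₂' hd₂1
  -- values along `E`
  set lam := extOne χ (x⁻¹ * a * x) with hlam
  have hχz : extOne χ (x⁻¹ * z * x) = 1 := by
    obtain ⟨p₁, hp₁, p₂, hp₂, ⟨a1, b1⟩, ⟨a2, b2⟩, hnc⟩ :=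
      h.exists_noncommuting_two F.card hd₁ hd₂
    have hin : ∀ p ∈ E, Commute p d₁ → Commute p d₂ → Commute p ω := by
      intro p hp u1 u2
      by_contra hpω
      -- `p` fixes both `ω d z`
      obtain ⟨k₁, hk₁, hk₁ω, e₁⟩ := F.inter_cases hd₁ hd₁' hd₁1
      obtain ⟨k₂, hk₂, hk₂ω, e₂⟩ := F.inter_cases hd₂ hd₂' hd₂1
      have hne : ¬ Commute (k₁⁻¹ * k₂) ω := fun s => by
        have : icomm ω k₂ = icomm ω k₁ := by
          conv_lhs => rw [← mul_inv_cancel_left k₁ k₂]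
          exact icomm_mul_right F.sq k₁ s
        rw [← this] at e₁
        exact hvd₂ (by rw [e₂, ← e₁]; exact hv₁d)
      have hfix : ∀ k ∈ E, ∀ d : G, d = icomm ω k * z → Commute p d → Commute p (icomm ω k) :=
        fun k hk d e u => by
          have := u.mul_right (h.central p hp)
          rwa [e, mul_assoc, h.sq, mul_one] at this
      refine hpω ?_
      exact F.commute_of_fix hk₁ hk₂ hk₁ω hk₂ω hne hp (hfix k₁ hk₁ d₁ e₁ u1) (hfix k₂ hk₂ d₂ e₂ u2)
    have hm : ∀ p ∈ E, Commute p ω → x⁻¹ * p * x ∈ centralizer ({z} : Set G) := fun p hp hpω => by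
      refine hmemH.mpr ?_
      calc x⁻¹ * p * x * z = x⁻¹ * (p * ω) * x := by group
        _ = x⁻¹ * (ω * p) * x := by rw [hpω.eq]
        _ = z * (x⁻¹ * p * x) := by group
    have q1 := hin _ hp₁ a1 b1
    have q2 := hin _ hp₂ a2 b2
    have e : x⁻¹ * z * x =
        (x⁻¹ * p₂ * x)⁻¹ * ((x⁻¹ * p₁ * x) * (x⁻¹ * p₂ * x) * (x⁻¹ * p₁ * x)⁻¹) := by
      calc _ = x⁻¹ * (p₂⁻¹ * (p₂ * z)) * x := by group
        _ = _ := by rw [← h.comm_symm hp₁ hp₂ hnc]; group
    have m1 := hm _ hp₁ q1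
    have m2 := hm _ hp₂ q2
    rw [e, extOne_mul χ (inv_mem m2) (mul_mem (mul_mem m1 m2) (inv_mem m1)),
      show (x⁻¹ * p₁ * x) * (x⁻¹ * p₂ * x) * (x⁻¹ * p₁ * x)⁻¹ =
        (x⁻¹ * p₁ * x)⁻¹⁻¹ * (x⁻¹ * p₂ * x) * (x⁻¹ * p₁ * x)⁻¹ by rw [inv_inv],
      extOne_conj χ (inv_mem m1) m2, ← extOne_mul χ (inv_mem m2) m2, inv_mul_cancel, extOne_one]
  -- independence of the representative
  have hrep : ∀ g g' p : G, g * z * g⁻¹ = g' * z * g'⁻¹ → Commute p (g * z * g⁻¹) →
      extOne χ (g'⁻¹ * p * g') = extOne χ (g⁻¹ * p * g) := by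
    intro g g' p hgg hp
    have hm : g⁻¹ * g' ∈ centralizer ({z} : Set G) := hmemH.mpr (by
      calc g⁻¹ * g' * z = g⁻¹ * (g' * z * g'⁻¹) * g' := by group
        _ = g⁻¹ * (g * z * g⁻¹) * g' := by rw [hgg]
        _ = z * (g⁻¹ * g') := by group)
    have hp' : g⁻¹ * p * g ∈ centralizer ({z} : Set G) := hmemH.mpr (by
      calc g⁻¹ * p * g * z = g⁻¹ * (p * (g * z * g⁻¹)) * g := by group
        _ = g⁻¹ * ((g * z * g⁻¹) * p) * g := by rw [hp.eq]
        _ = z * (g⁻¹ * p * g) := by group)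
    rw [← extOne_conj χ hm hp']; congr 1; group
  -- the conjugates `z ω d` of `ω` under `E`
  have hlamE : ∀ d, d ∈ E → d ∈ E' → d ≠ 1 → ∀ g : G, g * z * g⁻¹ = z * (ω * d) →
      extOne χ (g⁻¹ * a * g) = lam ∧ Commute a (g * z * g⁻¹) := by
    intro d hd hd' hd1 g hg
    obtain ⟨f, hf, -, hdf⟩ := F.inter_cases hd hd' hd1
    set c := icomm ω f with hc
    have hη : g * z * g⁻¹ = ω * c := by
      rw [hg, hdf, ← mul_assoc, F.comm.symm.eq, mul_assoc ω z, ← mul_assoc z c z,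
        ← (h.central c (F.icomm_mem hf)).eq, mul_assoc c z z, h.sq, mul_one]
    have hac : Commute a (g * z * g⁻¹) := by
      rw [hη]; exact haω.mul_right (h.icomm_commute F.sq F.comm hf ha haω).symm
    refine ⟨?_, hac⟩
    have he : (f * x) * z * (f * x)⁻¹ = g * z * g⁻¹ := by
      rw [hη, ← conj_eq_mul_icomm F.sq f]; group
    rw [hrep (f * x) g a he (he ▸ hac)]
    have hm : ∀ p, Commute p ω → x⁻¹ * p * x ∈ centralizer ({z} : Set G) := fun p hpω => by
      refine hmemH.mpr ?_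
      calc x⁻¹ * p * x * z = x⁻¹ * (p * ω) * x := by group
        _ = x⁻¹ * (ω * p) * x := by rw [hpω.eq]
        _ = z * (x⁻¹ * p * x) := by group
    rcases h.comm f⁻¹ (inv_mem hf) a ha with t | t <;> rw [inv_inv] at t
    · rw [show (f * x)⁻¹ * a * (f * x) = x⁻¹ * (f⁻¹ * a * f) * x by group, t]
    · rw [show (f * x)⁻¹ * a * (f * x) = x⁻¹ * (f⁻¹ * a * f) * x by group, t,
        show x⁻¹ * (a * z) * x = (x⁻¹ * a * x) * (x⁻¹ * z * x) by group,
        extOne_mul χ (hm a haω) (hm z F.comm.symm), hχz, mul_one]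
  have hv1sq : v₁⁻¹ * z * v₁ = z * (ω * d₁) := by
    have hcz : Commute (v₁ * v₁) z := by
      rcases h'.sq_cases v₁ hv₁ with t | t <;> rw [t]
      exacts [Commute.one_left z, F.comm]
    rw [← hη₁]
    calc v₁⁻¹ * z * v₁ = v₁⁻¹ * (z * (v₁ * v₁)) * v₁⁻¹ := by group
      _ = v₁ * z * v₁⁻¹ := by rw [← hcz.eq]; group
  obtain ⟨l1, c1⟩ := hlamE d₁ hd₁ hd₁' hd₁1 v₁ hη₁
  obtain ⟨l1', c1'⟩ := hlamE d₁ hd₁ hd₁' hd₁1 v₁⁻¹ (by rw [inv_inv]; exact hv1sq)
  set a' := v₁ * a * v₁⁻¹ with ha'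
  have ha'z : Commute a' z := by
    rw [inv_inv] at c1'
    calc a' * z = v₁ * (a * (v₁⁻¹ * z * v₁)) * v₁⁻¹ := by rw [ha']; group
      _ = v₁ * ((v₁⁻¹ * z * v₁) * a) * v₁⁻¹ := by rw [c1'.eq]
      _ = z * a' := by rw [ha']; group
  set w := a⁻¹ * a' with hw
  have hwE : w ∈ E' := by
    rw [hw, ha', show a⁻¹ * (v₁ * a * v₁⁻¹) = (a⁻¹ * v₁ * a⁻¹⁻¹) * v₁⁻¹ by group]
    exact mul_mem (h'.normalizes _ haω.inv_left v₁ hv₁) (inv_mem hv₁)
  have hwz : Commute w z := (h.central a ha).inv_left.mul_left ha'z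
  have hχw : extOne χ w = lam := by
    rw [hw, extOne_mul χ (inv_mem (hE ha)) (hmemH.mpr ha'z), hkill _ (inv_mem ha), one_mul, ha']
    simpa using l1'
  -- the second equation
  obtain ⟨l2, c2⟩ := hlamE d₂ hd₂ hd₂' hd₂1 v₂ hη₂
  have hρ : (v₁⁻¹ * v₂) * z * (v₁⁻¹ * v₂)⁻¹ = z * (ω * (d₁ * d₂)) := by
    calc _ = v₁⁻¹ * (v₂ * z * v₂⁻¹) * v₁ := by group
      _ = (v₁⁻¹ * z * v₁) * (v₁⁻¹ * ω * v₁) * (v₁⁻¹ * d₂ * v₁) := by rw [hη₂]; group
      _ = z * (ω * d₁) * ω * (d₂ * ω) := by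
        rw [hv1sq, show v₁⁻¹ * ω * v₁ = v₁⁻¹ * (ω * v₁) by group, ← (h'.central v₁ hv₁).eq,
          inv_mul_cancel_left]
        congr 1
        have := (h'.comm v₁⁻¹ (inv_mem hv₁) d₂ hd₂').resolve_left fun t =>
          hvd₂ (by simpa using (show Commute v₁⁻¹ d₂ from mul_inv_eq_iff_eq_mul.mp t).inv_left)
        simpa using this
      _ = z * (d₁ * d₂ * ω) := by
        rw [← (h'.central d₁ hd₁').eq, show z * (d₁ * ω) * ω * (d₂ * ω) =
          z * (d₁ * (ω * ω) * (d₂ * ω)) by group, F.sq, mul_one, mul_assoc d₁]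
      _ = _ := by rw [(h'.central _ (mul_mem hd₁' hd₂')).eq]
  obtain ⟨l3, c3⟩ := hlamE _ (mul_mem hd₁ hd₂) (mul_mem hd₁' hd₂') hd₃1 _ hρ
  have hm2 : ∀ p, Commute p (v₂ * z * v₂⁻¹) → v₂⁻¹ * p * v₂ ∈ centralizer ({z} : Set G) := by
    intro p hp
    refine hmemH.mpr ?_
    calc v₂⁻¹ * p * v₂ * z = v₂⁻¹ * (p * (v₂ * z * v₂⁻¹)) * v₂ := by group
      _ = v₂⁻¹ * ((v₂ * z * v₂⁻¹) * p) * v₂ := by rw [hp.eq]
      _ = z * (v₂⁻¹ * p * v₂) := by group
  have ca' : Commute a' (v₂ * z * v₂⁻¹) := by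
    calc a' * (v₂ * z * v₂⁻¹) = v₁ * (a * ((v₁⁻¹ * v₂) * z * (v₁⁻¹ * v₂)⁻¹)) * v₁⁻¹ := by
          rw [ha']; group
      _ = v₁ * (((v₁⁻¹ * v₂) * z * (v₁⁻¹ * v₂)⁻¹) * a) * v₁⁻¹ := by rw [c3.eq]
      _ = v₂ * z * v₂⁻¹ * a' := by rw [ha']; group
  have hcw : extOne χ (v₂⁻¹ * w * v₂) = 1 := by
    have e : v₂⁻¹ * w * v₂ = (v₂⁻¹ * a * v₂)⁻¹ * (v₂⁻¹ * a' * v₂) := by rw [hw]; group
    have e' : v₂⁻¹ * a' * v₂ = (v₁⁻¹ * v₂)⁻¹ * a * (v₁⁻¹ * v₂) := by rw [ha']; group
    rw [e, extOne_mul χ (inv_mem (hm2 a c2)) (hm2 a' ca'), e', l3]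
    have : extOne χ (v₂⁻¹ * a * v₂)⁻¹ * extOne χ (v₂⁻¹ * a * v₂) = 1 := by
      rw [← extOne_mul χ (inv_mem (hm2 a c2)) (hm2 a c2), inv_mul_cancel, extOne_one]
    rwa [l2] at this
  -- `χ ω = 1`
  have hχω : extOne χ ω = 1 := by
    obtain ⟨q₁, hq₁, q₂, hq₂, ⟨s1, t1⟩, ⟨s2, t2⟩, hnc⟩ :=
      h'.exists_noncommuting_two (by
        rw [Subgroup.card_map_of_injective (MulAut.conj x).injective]; exact F.card) hd₁' hd₂'
    have hfix : ∀ q ∈ E', Commute q d₁ → Commute q d₂ → q ∈ centralizer ({z} : Set G) := by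
      intro q hq u1 u2
      refine hmemH.mpr (F.commute_of_commute_inter hq fun d hd hd' => ?_)
      exact F.commute_inter_pair hd₁ hd₁' hd₁1 hd₂ hd₂' hd₂1
        (fun t => hvd₂ (t ▸ hv₁d)) hd hd' u1 u2
    have m1 := hfix _ hq₁ s1 t1
    have m2 := hfix _ hq₂ s2 t2
    rw [show ω = q₂⁻¹ * (q₁⁻¹⁻¹ * q₂ * q₁⁻¹) by
      rw [inv_inv, h'.comm_symm hq₁ hq₂ hnc, inv_mul_cancel_left],
      extOne_mul χ (inv_mem m2) (mul_mem (mul_mem (inv_mem (inv_mem m1)) m2) (inv_mem m1)),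
      extOne_conj χ (inv_mem m1) m2, ← extOne_mul χ (inv_mem m2) m2, inv_mul_cancel, extOne_one]
  rcases h'.comm v₂⁻¹ (inv_mem hv₂) w hwE with t | t <;> rw [inv_inv] at t <;> rw [t] at hcw
  · rw [← hχw]; exact hcw
  · rw [extOne_mul χ (hmemH.mpr hwz) (hmemH.mpr F.comm), hχω, mul_one] at hcw
    rw [← hχw]; exact hcw

end FourPair

end Cfsg.Agent.LargeExtraspecial
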