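import Cfsg.Agent.Lib.LargeExtraspecial.SmithCosets

/-!
# A central involution moving `Q` in four cosets

`z` weakly closed in `Q`, `|Q| ≥ 128`, `ω = x z x⁻¹ ∈ C(z)` with `|Q : C_Q(ω)| = 4`:

* `Hub.commute_icomm`: the commutators `[ω, e]` lie in `C_Q(ω)`.
* `Hub.exists_inter_moves`: every commutator `[ω, e]` times `z` lies in `Q^x`, and the conjugates
  of `z` under `Q^x` are conjugates of `ω` under `Q`.
* `Hub.extOne_conj_eq_one`: homomorphisms of `C(z)` killing `Q` kill `x⁻¹ C_Q(ω) x`.
-/

set_option autoImplicit false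

namespace Cfsg.Agent.LargeExtraspecial

open Subgroup

variable {G : Type*} [Group G] {E : Subgroup G} {z : G}

theorem wc_conj (wc : ∀ g : G, g * z * g⁻¹ ∈ E → g * z * g⁻¹ = z) (x g : G)
    (hg : g * z * g⁻¹ ∈ E.map (MulAut.conj x).toMonoidHom) : g * z * g⁻¹ = x * z * x⁻¹ := by
  rw [mem_conj_iff] at hg
  have := wc (x⁻¹ * g) (by simpa [mul_assoc] using hg)
  calc g * z * g⁻¹ = x * ((x⁻¹ * g) * z * (x⁻¹ * g)⁻¹) * x⁻¹ := by group
    _ = x * z * x⁻¹ := by rw [this]

theorem not_mem_conj_of_wc (wc : ∀ g : G, g * z * g⁻¹ ∈ E → g * z * g⁻¹ = z) {x : G}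
    (hne : x * z * x⁻¹ ≠ z) : z ∉ E.map (MulAut.conj x).toMonoidHom := fun h =>
  hne ((by simpa using wc_conj wc x 1 (by simpa using h) : z = x * z * x⁻¹)).symm

/-- Elements of `Q^x ∩ C(z)` map `C_Q(ω)` to itself. -/
theorem Hub.conj_mem_centralizer (h : Hub E z) {x w p : G}
    (hw : w ∈ E.map (MulAut.conj x).toMonoidHom) (hwz : Commute w z) (hp : p ∈ E)
    (hpω : Commute p (x * z * x⁻¹)) : w * p * w⁻¹ ∈ E ∧ Commute (w * p * w⁻¹) (x * z * x⁻¹) :=
  ⟨h.normalizes w hwz p hp,
    (((h.conj x).central w hw).mul_left hpω).mul_left ((h.conj x).central w hw).inv_left⟩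

variable {x : G}

/-- The commutators of `ω` commute with `ω`. -/
theorem Hub.commute_icomm [Finite G] (h : Hub E z) (hcard : 128 ≤ Nat.card ↥E)
    (wc : ∀ g : G, g * z * g⁻¹ ∈ E → g * z * g⁻¹ = z) (hωz : Commute (x * z * x⁻¹) z)
    (hne : x * z * x⁻¹ ≠ z)
    (hC : Nat.card ↥E ≤ 4 * Nat.card ↥(E ⊓ centralizer ({x * z * x⁻¹} : Set G) : Subgroup G))
    {e : G} (he : e ∈ E) : Commute (icomm (x * z * x⁻¹) e) (x * z * x⁻¹) := by
  have h' := h.conj x
  set ω := x * z * x⁻¹ with hω
  set E' := E.map (MulAut.conj x).toMonoidHom with hE'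
  have hω2 : ω * ω = 1 := h'.sq
  have hωi : ω⁻¹ = ω := inv_eq_of_mul_eq_one_right hω2
  have hωE : ω ∉ E := fun m => hne (wc x m)
  have hzE' : z ∉ E' := not_mem_conj_of_wc wc hne
  by_contra hcω
  set c := icomm ω e
  have hcE : c ∈ E := h.icomm_mem hω2 hωz he
  have hcC : ∀ p ∈ E, Commute p ω → Commute c p := fun p hp hpω =>
    h.icomm_commute hω2 hωz he hp hpω
  have hc1 : c ≠ 1 := fun r => hcω (r ▸ Commute.one_left ω)
  have hcz : c ≠ z := fun r => hcω (r ▸ hωz.symm)
  have hinv : ω * c * ω = c⁻¹ := icomm_conj_self hω2 e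
  have hc2 : c * c = z := (h.sq_cases c hcE).resolve_left fun r => hcω (by
    rw [inv_eq_of_mul_eq_one_right r] at hinv
    have : ω * c * ω⁻¹ = c := by rwa [hωi]
    exact (mul_inv_eq_iff_eq_mul.mp this).symm)
  have hcc : icomm ω c = z := by
    rw [icomm, hinv, ← mul_inv_rev, hc2, h.z_inv]
  obtain ⟨e₁, he₁, e₂, he₂, hn₁, hn₂, hn₃, hcov⟩ := h.four_cosets hω2 hωz hωE hC
  have hne : ¬ Commute e ω := fun r => hc1 ((icomm_eq_one hω2).mpr r)
  have hsq : ∀ q ∈ E, Commute (q * q) ω := fun q hq => by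
    rcases h.sq_cases q hq with r | r <;> rw [r]
    exacts [Commute.one_left ω, hωz.symm]
  -- the commutator only depends on the coset
  have hval : ∀ y f : G, Commute (f⁻¹ * y) ω → icomm ω y = icomm ω f := fun y f hyf => by
    conv_lhs => rw [← mul_inv_cancel_left f y]
    exact icomm_mul_right hω2 f hyf
  have hec : ¬ Commute (e⁻¹ * c) ω := fun r => hcz (by rw [← hcc]; exact (hval c e r).symm)
  -- `C ∪ eC ∪ cC ∪ ecC` is everything
  have hcov' : ∀ y ∈ E, Commute y ω ∨ Commute (e⁻¹ * y) ω ∨ Commute (c⁻¹ * y) ω ∨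
      Commute ((e * c)⁻¹ * y) ω := by
    have hcls : ∀ f ∈ E, ¬ Commute f ω →
        icomm ω f = icomm ω e₁ ∨ icomm ω f = icomm ω e₂ ∨ icomm ω f = icomm ω (e₁ * e₂) := by
      intro f hf hfω
      rcases hcov f hf with r | r | r | r
      exacts [absurd r hfω, Or.inl (hval _ _ r), Or.inr (Or.inl (hval _ _ r)),
        Or.inr (Or.inr (hval _ _ r))]
    have hsame : ∀ f g : G, icomm ω f = icomm ω g → Commute (f⁻¹ * g) ω := fun f g r => by
      refine mul_inv_eq_iff_eq_mul.mp ?_
      calc f⁻¹ * g * ω * (f⁻¹ * g)⁻¹ = f⁻¹ * (g * ω * g⁻¹) * f := by group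
        _ = f⁻¹ * (f * ω * f⁻¹) * f := by rw [conj_eq_mul_icomm hω2, conj_eq_mul_icomm hω2, r]
        _ = ω := by group
    intro y hy
    by_cases hyω : Commute y ω
    · exact Or.inl hyω
    have hecω : ¬ Commute (e * c) ω := fun r => hec (by
      simpa [mul_inv_rev, mul_assoc] using (hsq e he).inv_left.mul_left r)
    have h3 : icomm ω (e * c) ≠ c := fun r => hcω (by
      simpa using hsame e (e * c) r.symm)
    have h4 : icomm ω (e * c) ≠ z := fun r => by
      have h5 := hsame c (e * c) (by rw [hcc, r])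
      rcases h.comm c⁻¹ (inv_mem hcE) e he with t | t <;> rw [inv_inv] at t
      · rw [← mul_assoc, t] at h5; exact hne h5
      · rw [← mul_assoc, t] at h5
        exact hne (by simpa [mul_assoc, h.sq] using h5.mul_left hωz.symm)
    have h5 : icomm ω c ≠ c := by rw [hcc]; exact hcz.symm
    have h6 : icomm ω e = c := rfl
    -- three values of a three element set
    have key : icomm ω y = c ∨ icomm ω y = z ∨ icomm ω y = icomm ω (e * c) := by
      rcases hcls y hy hyω with a | a | a <;> rcases hcls e he hne with b | b | b <;>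
        rcases hcls c hcE hcω with d | d | d <;>
        rcases hcls (e * c) (mul_mem he hcE) hecω with k | k | k <;>
        first
          | exact Or.inl (a.trans (b.symm.trans h6))
          | exact Or.inr (Or.inl (a.trans (d.symm.trans hcc)))
          | exact Or.inr (Or.inr (a.trans k.symm))
          | exact absurd (k.trans b.symm |>.trans h6) h3
          | exact absurd (k.trans d.symm |>.trans hcc) h4
          | exact absurd (d.trans b.symm |>.trans h6) h5
    rcases key with r | r | r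
    · exact Or.inr (Or.inl (hsame e y r.symm))
    · exact Or.inr (Or.inr (Or.inl (hsame c y (by rw [hcc, r]))))
    · exact Or.inr (Or.inr (Or.inr (hsame _ y r.symm)))
  have hec' : ¬ Commute e c := fun r => by
    suffices hcm : ∀ y ∈ E, Commute c y by
      rcases h.self c hcm with t | t
      exacts [hc1 t, hcz t]
    intro y hy
    rcases hcov' y hy with s | s | s | s
    · exact hcC y hy s
    · simpa using r.symm.mul_right (hcC _ (mul_mem (inv_mem he) hy) s)
    · simpa using (Commute.refl c).mul_right (hcC _ (mul_mem (inv_mem hcE) hy) s)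
    · simpa [mul_assoc] using (r.symm.mul_right (Commute.refl c)).mul_right
        (hcC _ (mul_mem (inv_mem (mul_mem he hcE)) hy) s)
  -- the centre of `C_E(ω)` is `⟨z⟩`
  obtain ⟨r, hr, hrC, hrc⟩ : ∃ r ∈ E, (∀ p ∈ E, Commute p ω → Commute r p) ∧ ¬ Commute r c := by
    by_contra hno
    push Not at hno
    refine hcω (mem_centralizer_singleton_iff.mp ((h.dcc (E ⊓ centralizer {ω}) inf_le_left
      ⟨h.mem, mem_centralizer_singleton_iff.mpr hωz.eq.symm⟩ c hcE fun w hw hwd => ?_).2))
    exact (hno w hw fun p hp hpω => hwd p ⟨hp, mem_centralizer_singleton_iff.mpr hpω.eq⟩).symm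
  have hZ : ∀ p ∈ E, Commute p ω → (∀ q ∈ E, Commute q ω → Commute p q) → p = 1 ∨ p = z := by
    intro p hp hpω hpC
    have hpc : Commute p c := (hcC p hp hpω).symm
    have hpr : Commute p r := (hrC p hp hpω).symm
    have hpe : Commute p e := by
      rcases hcov' r hr with s | s | s | s
      · exact absurd (hcC r hr s).symm hrc
      · have h1 := hpC _ (mul_mem (inv_mem he) hr) s
        have h2 : Commute p e⁻¹ := by simpa using h1.mul_right hpr.inv_right
        simpa using h2.inv_right
      · refine absurd ?_ hrc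
        simpa using (Commute.refl c).mul_left (hcC _ (mul_mem (inv_mem hcE) hr) s).symm
      · have h1 := hpC _ (mul_mem (inv_mem (mul_mem he hcE)) hr) s
        have h2 : Commute p (e * c)⁻¹ := by simpa [mul_assoc] using h1.mul_right hpr.inv_right
        have h3 : Commute p (e * c) := by simpa using h2.inv_right
        simpa using h3.mul_right hpc.inv_right
    refine h.self p fun y hy => ?_
    rcases hcov' y hy with s | s | s | s
    · exact hpC y hy s
    · simpa using hpe.mul_right (hpC _ (mul_mem (inv_mem he) hy) s)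
    · simpa using hpc.mul_right (hpC _ (mul_mem (inv_mem hcE) hy) s)
    · simpa [mul_assoc] using (hpe.mul_right hpc).mul_right
        (hpC _ (mul_mem (inv_mem (mul_mem he hcE)) hy) s)
  have hD : ∀ d ∈ E, d ∈ E' → d = 1 := by
    intro d hd hd'
    refine (hZ d hd (h'.central d hd') fun p hp hpω => ?_).resolve_right fun t => hzE' (t ▸ hd')
    rcases h.comm p hp d hd with t | t
    · exact (mul_inv_eq_iff_eq_mul.mp t).symm
    · have h1 := h'.normalizes p hpω d hd'
      rw [t] at h1
      exact absurd ((E'.mul_mem_cancel_left hd').mp h1) hzE'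
  -- `C_{E'}(z)` centralises `C_E(ω)`
  have hcent : ∀ w ∈ E', Commute w z → ∀ p ∈ E, Commute p ω → Commute w p := by
    intro w hw hwz p hp hpω
    refine mul_inv_eq_iff_eq_mul.mp (mul_inv_eq_one.mp (hD (w * p * w⁻¹ * p⁻¹)
      (mul_mem (h.conj_mem_centralizer hw hwz hp hpω).1 (inv_mem hp)) ?_))
    rw [show w * p * w⁻¹ * p⁻¹ = w * (p * w⁻¹ * p⁻¹) by group]
    exact mul_mem hw (h'.normalizes p hpω _ (inv_mem hw))
  have hfix : ∀ w ∈ E', Commute w z → Commute w c → w = 1 := by
    intro w hw hwz hwc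
    have hwω : Commute w ω := h'.central w hw
    have hwe : w * e * w⁻¹ ∈ E := h.normalizes w hwz e he
    set p := e⁻¹ * (w * e * w⁻¹) with hp
    have hpE : p ∈ E := mul_mem (inv_mem he) hwe
    have hpω : Commute p ω := by
      have h1 : icomm ω (w * e * w⁻¹) = icomm ω e := by
        rw [← icomm_conj w e hwω]; exact mul_inv_eq_iff_eq_mul.mpr hwc.eq
      refine mul_inv_eq_iff_eq_mul.mp ?_
      calc p * ω * p⁻¹ = e⁻¹ * ((w * e * w⁻¹) * ω * (w * e * w⁻¹)⁻¹) * e := by rw [hp]; group
        _ = e⁻¹ * (e * ω * e⁻¹) * e := by rw [conj_eq_mul_icomm hω2, conj_eq_mul_icomm hω2, h1]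
        _ = ω := by group
    have hwp : w * e * w⁻¹ = e * p := by rw [hp, mul_inv_cancel_left]
    have hpz : p = 1 ∨ p = z := by
      refine hZ p hpE hpω fun q hq hqω => ?_
      have hqe : e * q * e⁻¹ ∈ E ∧ Commute (e * q * e⁻¹) ω := by
        refine ⟨mul_mem (mul_mem he hq) (inv_mem he), ?_⟩
        rcases h.comm e he q hq with t | t <;> rw [t]
        exacts [hqω, hqω.mul_left hωz.symm]
      have h1 := mul_inv_eq_iff_eq_mul.mpr (hcent w hw hwz _ hqe.1 hqe.2).eq
      have h2 := mul_inv_eq_iff_eq_mul.mpr (hcent w hw hwz q hq hqω).eq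
      refine mul_inv_eq_iff_eq_mul.mp ?_
      calc p * q * p⁻¹ = e⁻¹ * ((e * p) * q * (e * p)⁻¹) * e := by group
        _ = e⁻¹ * (w * (e * (w⁻¹ * (w * q * w⁻¹) * w) * e⁻¹) * w⁻¹) * e := by rw [← hwp, h2]; group
        _ = e⁻¹ * (e * q * e⁻¹) * e := by
          rw [show w⁻¹ * (w * q * w⁻¹) * w = q by group, h1]
        _ = q := by group
    have hall : ∀ v : G, (∀ q ∈ E, Commute q ω → Commute v q) → Commute v c → Commute v e →
        v = 1 ∨ v = z := fun v hvC hvc hve => by
      refine h.self v fun y hy => ?_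
      rcases hcov' y hy with s | s | s | s
      · exact hvC y hy s
      · simpa using hve.mul_right (hvC _ (mul_mem (inv_mem he) hy) s)
      · simpa using hvc.mul_right (hvC _ (mul_mem (inv_mem hcE) hy) s)
      · simpa [mul_assoc] using (hve.mul_right hvc).mul_right
          (hvC _ (mul_mem (inv_mem (mul_mem he hcE)) hy) s)
    rcases hpz with t | t
    · rw [t, mul_one] at hwp
      exact (hall w (hcent w hw hwz) hwc (mul_inv_eq_iff_eq_mul.mp hwp)).resolve_right
        fun s => hzE' (s ▸ hw)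
    · exfalso
      rw [t] at hwp
      have hcec : c * e * c⁻¹ = e * z := h.comm_symm hcE he fun s => hec' s.symm
      have h1 : Commute (c⁻¹ * w) e := mul_inv_eq_iff_eq_mul.mp (by
        calc c⁻¹ * w * e * (c⁻¹ * w)⁻¹ = c⁻¹ * (w * e * w⁻¹) * c := by group
          _ = c⁻¹ * (c * e * c⁻¹) * c := by rw [hwp, hcec]
          _ = e := by group)
      have hwE : w ∈ E := by
        rcases hall (c⁻¹ * w) (fun q hq hqω =>
          (hcC q hq hqω).inv_left.mul_left (hcent w hw hwz q hq hqω))
          ((Commute.refl c).inv_left.mul_left hwc) h1 with s | s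
        · rw [inv_mul_eq_one] at s; exact s ▸ hcE
        · rw [inv_mul_eq_iff_eq_mul] at s; exact s ▸ mul_mem hcE h.mem
      have hz1 : e * z = e := by rw [← hwp, hD w hwE hw]; group
      exact h.ne_one (mul_eq_left.mp hz1)
  -- hence only two elements
  have hsmall : ∀ w ∈ E', Commute w z → w = 1 ∨ w = ω := by
    intro w hw hwz
    have hval : ∀ v ∈ E', Commute v z → ¬ Commute v c → v * c * v⁻¹ = c * z := by
      intro v hv hvz hvc
      have hvω : Commute v ω := h'.central v hv
      have h1 : v * c * v⁻¹ = icomm ω (v * e * v⁻¹) := icomm_conj v e hvω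
      have h2 : v * e * v⁻¹ ∈ E := h.normalizes v hvz e he
      have hveω : ¬ Commute (v * e * v⁻¹) ω := fun s => hc1 (by
        have := (icomm_eq_one hω2).mpr s
        rw [← h1] at this
        exact conj_eq_one_iff.mp this)
      rcases hcov' _ h2 with s | s | s | s
      · exact absurd s hveω
      · refine absurd (mul_inv_eq_iff_eq_mul.mp ?_) hvc
        rw [h1]; exact (by simpa using icomm_mul_right hω2 e s)
      · exfalso; apply hcz
        have h3 : v * c * v⁻¹ = z := by
          rw [h1, ← hcc]; simpa using icomm_mul_right hω2 c s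
        calc c = v⁻¹ * (v * c * v⁻¹) * v := by group
          _ = z := by rw [h3, mul_assoc, ← hvz.eq, inv_mul_cancel_left]
      · rw [h1]
        have h3 : icomm ω (v * e * v⁻¹) = icomm ω (e * c) := by
          simpa [mul_assoc] using icomm_mul_right hω2 (e * c) s
        rw [h3, icomm_mul hω2, hcc, (h.central e he).eq, mul_inv_cancel_right]
    by_cases hwc : Commute w c
    · exact Or.inl (hfix w hw hwz hwc)
    right
    have e1 := hval w hw hwz hwc
    have e2 := hval ω h'.mem hωz fun s => hcω s.symm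
    have h1 : w⁻¹ * ω = 1 := by
      refine hfix _ (mul_mem (inv_mem hw) h'.mem) (hwz.inv_left.mul_left hωz)
        (mul_inv_eq_iff_eq_mul.mp ?_)
      calc w⁻¹ * ω * c * (w⁻¹ * ω)⁻¹ = w⁻¹ * (ω * c * ω⁻¹) * w := by group
        _ = w⁻¹ * (w * c * w⁻¹) * w := by rw [e1, e2]
        _ = c := by group
    exact inv_mul_eq_one.mp h1
  have h8 := h'.card_le_of_centralizer_small h.sq hωz.symm hsmall
  rw [hE', Subgroup.card_map_of_injective (MulAut.conj x).injective] at h8
  omega

end Cfsg.Agent.LargeExtraspecial
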