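import Cfsg.Agent.Lib.LargeExtraspecial.Smith

/-!
# Small tools for the transfer lemmas on large extraspecial subgroups
-/

set_option autoImplicit false

namespace Cfsg.Agent.LargeExtraspecial

open Subgroup

variable {G : Type*} [Group G] {A : Type*} [CommGroup A] {Q : Subgroup G} {z : G}

theorem card_le_two_mul [Finite G] {B C : Subgroup G} {y : G}
    (h : ∀ x ∈ B, x ∈ C ∨ y⁻¹ * x ∈ C) : Nat.card ↥B ≤ 2 * Nat.card ↥C := by
  classical
  have hle := Nat.card_le_card_of_injective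
    (fun x : ↥B => if hx : (x : G) ∈ C then ((Sum.inl ⟨x, hx⟩ : ↥C ⊕ ↥C))
      else Sum.inr ⟨y⁻¹ * x, (h x x.2).resolve_left hx⟩) (fun a b e => by
      apply Subtype.ext
      dsimp only at e
      split_ifs at e <;> simpa using e)
  rw [Nat.card_sum] at hle; omega

theorem Hub.z_inv (h : Hub Q z) : z⁻¹ = z := inv_eq_of_mul_eq_one_right h.sq

theorem Hub.comm_symm (h : Hub Q z) {p q : G} (hp : p ∈ Q) (hq : q ∈ Q)
    (hne : ¬ Commute p q) : p * q * p⁻¹ = q * z :=
  (h.comm p hp q hq).resolve_left fun e => hne (mul_inv_eq_iff_eq_mul.mp e)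

/-- Two elements moving `a` differ by one fixing it. -/
theorem Hub.commute_inv_mul (h : Hub Q z) {p q a : G} (hp : p ∈ Q) (hq : q ∈ Q) (ha : a ∈ Q)
    (hpa : ¬ Commute p a) (hqa : ¬ Commute q a) : Commute (p⁻¹ * q) a := by
  have e1 := h.comm_symm hp ha hpa
  have e2 := h.comm_symm hq ha hqa
  refine mul_inv_eq_iff_eq_mul.mp ?_
  calc p⁻¹ * q * a * (p⁻¹ * q)⁻¹ = p⁻¹ * (q * a * q⁻¹) * p := by group
    _ = p⁻¹ * (p * a * p⁻¹) * p := by rw [e1, e2]
    _ = a := by group

theorem Hub.exists_rep [Finite G] (h : Hub Q z) {B : Subgroup G} (hB : B ≤ Q) {a : G}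
    (ha : a ∈ Q) : ∃ y ∈ B, (∀ x ∈ B, Commute x a ∨ Commute (y⁻¹ * x) a) ∧
      Nat.card ↥B ≤ 2 * Nat.card ↥(B ⊓ centralizer ({a} : Set G) : Subgroup G) := by
  obtain ⟨y, hy, hrep⟩ : ∃ y ∈ B, ∀ x ∈ B, Commute x a ∨ Commute (y⁻¹ * x) a := by
    by_cases hall : ∀ x ∈ B, Commute x a
    · exact ⟨1, B.one_mem, fun x hx => Or.inl (hall x hx)⟩
    push Not at hall
    obtain ⟨y, hy, hya⟩ := hall
    exact ⟨y, hy, fun x hx => (em _).imp_right fun hxa =>
      h.commute_inv_mul (hB hy) (hB hx) ha hya hxa⟩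
  refine ⟨y, hy, hrep, card_le_two_mul (y := y) fun x hx => ?_⟩
  exact (hrep x hx).imp (fun e => ⟨hx, mem_centralizer_singleton_iff.mpr e.eq⟩)
    fun e => ⟨B.mul_mem (B.inv_mem hy) hx, mem_centralizer_singleton_iff.mpr e.eq⟩

/-- The elements centralising two given elements of `Q` do not commute, if `|Q| ≥ 128`. -/
theorem Hub.exists_noncommuting_two [Finite G] (h : Hub Q z) (hQ : 128 ≤ Nat.card ↥Q) {a b : G}
    (ha : a ∈ Q) (hb : b ∈ Q) :
    ∃ p₁ ∈ Q, ∃ p₂ ∈ Q, (Commute p₁ a ∧ Commute p₁ b) ∧ (Commute p₂ a ∧ Commute p₂ b) ∧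
      ¬ Commute p₁ p₂ := by
  by_contra hno
  push Not at hno
  set Q1 : Subgroup G := Q ⊓ centralizer ({a} : Set G) with hQ1
  set Q2 : Subgroup G := Q1 ⊓ centralizer ({b} : Set G) with hQ2
  have l1 : Q1 ≤ Q := inf_le_left
  have l2 : Q2 ≤ Q := inf_le_left.trans l1
  have hm2 : ∀ x ∈ Q2, Commute x a ∧ Commute x b := fun x hx =>
    ⟨mem_centralizer_singleton_iff.mp hx.1.2, mem_centralizer_singleton_iff.mp hx.2⟩
  obtain ⟨y1, hy1, r1, c1⟩ := h.exists_rep le_rfl ha
  obtain ⟨y2, hy2, r2, c2⟩ := h.exists_rep l1 hb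
  obtain ⟨-, -, -, c3⟩ := h.exists_rep l2 hy1
  set Q3 : Subgroup G := Q2 ⊓ centralizer ({y1} : Set G) with hQ3
  obtain ⟨-, -, -, c4⟩ := h.exists_rep (B := Q3) (inf_le_left.trans l2) (l1 hy2)
  rw [← hQ1] at c1
  rw [← hQ2] at c2
  set Q4 : Subgroup G := Q3 ⊓ centralizer ({y2} : Set G)
  classical
  have c5 : Nat.card ↥Q4 ≤ Nat.card ↥({1, z} : Finset G) := by
    refine Nat.card_le_card_of_injective (fun x : ↥Q4 => ⟨(x : G), ?_⟩) (fun u v e => Subtype.ext
      (congrArg (fun w : ↥({1, z} : Finset G) => (w : G)) e))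
    obtain ⟨⟨hx2, hxy1⟩, hxy2⟩ := x.2
    have hxy1' : Commute (x : G) y1 := mem_centralizer_singleton_iff.mp hxy1
    have hxy2' : Commute (x : G) y2 := mem_centralizer_singleton_iff.mp hxy2
    have hc2 : ∀ w ∈ Q, Commute w a → Commute w b → Commute (x : G) w := fun w hw h1 h2 =>
      hno x (l2 hx2) w hw (hm2 x hx2) ⟨h1, h2⟩
    have hc1 : ∀ w ∈ Q1, Commute (x : G) w := by
      intro w hw
      rcases r2 w hw with e | e
      · exact hc2 w (l1 hw) (mem_centralizer_singleton_iff.mp hw.2) e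
      · have hm : y2⁻¹ * w ∈ Q1 := mul_mem (inv_mem hy2) hw
        simpa using hxy2'.mul_right (hc2 _ (l1 hm) (mem_centralizer_singleton_iff.mp hm.2) e)
    have hall : ∀ w ∈ Q, Commute (x : G) w := by
      intro w hw
      rcases r1 w hw with e | e
      · exact hc1 w ⟨hw, mem_centralizer_singleton_iff.mpr e.eq⟩
      · simpa using hxy1'.mul_right
          (hc1 _ ⟨Q.mul_mem (Q.inv_mem hy1) hw, mem_centralizer_singleton_iff.mpr e.eq⟩)
    rcases h.self x hall with e | e <;> simp [e]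
  rw [Nat.card_eq_fintype_card (α := ↥({1, z} : Finset G)), Fintype.card_coe] at c5
  have h2 : ({1, z} : Finset G).card ≤ 2 := Finset.card_le_two
  omega

/-- An involution with centraliser `⟨z⟩` in `Q` only acts on small `Q`. -/
theorem Hub.card_le_of_centralizer_small [Finite G] (h : Hub Q z) {τ : G} (hτ : τ * τ = 1)
    (hτz : Commute τ z) (hC : ∀ v ∈ Q, Commute v τ → v = 1 ∨ v = z) : Nat.card ↥Q ≤ 8 := by
  classical
  have : Fintype ↥Q := Fintype.ofFinite _
  have hτi : τ⁻¹ = τ := inv_eq_of_mul_eq_one_right hτ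
  have e1 : ∀ t, τ * (τ * t) = t := fun t => by rw [← mul_assoc, hτ, one_mul]
  let f : ↥Q → G := fun v => τ * v * τ * (v : G)⁻¹
  have hfQ : ∀ v, f v ∈ Q := fun v => by
    have := h.normalizes τ hτz v v.2
    rw [hτi] at this
    exact mul_mem this (inv_mem v.2)
  -- the values are fixed or moved by `z`
  let P : G → Prop := fun s => s ∈ Q ∧ (τ * s * τ = s ∨ τ * s * τ = s * z)
  have hfP : ∀ v, P (f v) := fun v => by
    refine ⟨hfQ v, ?_⟩
    have e : τ * f v * τ = (f v)⁻¹ := by simp [f, mul_assoc, mul_inv_rev, hτi, e1]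
    rcases h.sq_cases _ (hfQ v) with r | r
    · exact Or.inl (e.trans (inv_eq_of_mul_eq_one_right r))
    · exact Or.inr (e.trans (inv_eq_of_mul_eq_one_right (by rw [← mul_assoc, r, h.sq])))
  have hfib : ∀ b ∈ Finset.univ.image f,
      (Finset.univ.filter fun v => f v = b).card ≤ 2 := by
    intro b hb
    obtain ⟨v0, -, hv0⟩ := Finset.mem_image.mp hb
    refine (Finset.card_le_card_of_injOn (fun v : ↥Q => (v0 : G)⁻¹ * v) (t := {1, z}) ?_ ?_).trans
      Finset.card_le_two
    · intro v hv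
      have hv' : f v = f v0 := by rw [hv0]; exact (Finset.mem_filter.mp hv).2
      have hc : Commute ((v0 : G)⁻¹ * v) τ := by
        have e : τ * ((v0 : G)⁻¹ * v) * τ = (v0 : G)⁻¹ * v := by
          calc _ = ((τ * v0 * τ))⁻¹ * (τ * v * τ) := by simp [mul_inv_rev, hτi, mul_assoc, e1]
            _ = (f v0 * v0)⁻¹ * (f v * v) := by simp only [f]; group
            _ = _ := by rw [hv']; group
        rw [← hτi] at e
        nth_rewrite 1 [hτi] at e
        exact (mul_inv_eq_iff_eq_mul.mp e).symm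
      simpa using hC _ (mul_mem (inv_mem v0.2) v.2) hc
    · intro v _ w _ e
      exact Subtype.ext (mul_left_cancel e)
  have himg : (Finset.univ.image f).card ≤ 4 := by
    by_cases hflip : ∃ s, P s ∧ τ * s * τ ≠ s
    · obtain ⟨s0, ⟨hs0, hs0'⟩, hne⟩ := hflip
      have hs0f := hs0'.resolve_left hne
      have hsub : Finset.univ.image f ⊆ {1, z, s0, s0 * z} := by
        intro b hb
        obtain ⟨v, -, rfl⟩ := Finset.mem_image.mp hb
        obtain ⟨hQ', r | r⟩ := hfP v
        · rcases hC _ hQ' (by rw [← hτi] at r; nth_rewrite 1 [hτi] at r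
                              exact (mul_inv_eq_iff_eq_mul.mp r).symm) with e | e <;> simp [e]
        · have hc : τ * (s0⁻¹ * f v) * τ = s0⁻¹ * f v := by
            calc _ = (τ * s0 * τ)⁻¹ * (τ * f v * τ) := by simp [mul_inv_rev, hτi, mul_assoc, e1]
              _ = z⁻¹ * (s0⁻¹ * f v * z) := by rw [hs0f, r]; group
              _ = _ := by
                rw [(h.central _ (mul_mem (inv_mem hs0) hQ')).eq, inv_mul_cancel_left]
          have hc' : Commute (s0⁻¹ * f v) τ := by
            rw [← hτi] at hc; nth_rewrite 1 [hτi] at hc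
            exact (mul_inv_eq_iff_eq_mul.mp hc).symm
          rcases hC _ (mul_mem (inv_mem hs0) hQ') hc' with e | e
          · rw [inv_mul_eq_one] at e; simp [← e]
          · rw [inv_mul_eq_iff_eq_mul] at e; simp [e]
      exact (Finset.card_le_card hsub).trans Finset.card_le_four
    · push Not at hflip
      have hsub : Finset.univ.image f ⊆ {1, z} := by
        intro b hb
        obtain ⟨v, -, rfl⟩ := Finset.mem_image.mp hb
        have r := hflip _ (hfP v)
        rcases hC _ (hfQ v) (by rw [← hτi] at r; nth_rewrite 1 [hτi] at r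
                                exact (mul_inv_eq_iff_eq_mul.mp r).symm) with e | e <;> simp [e]
      exact (Finset.card_le_card hsub).trans (Finset.card_le_two.trans (by norm_num))
  have := Finset.card_le_mul_card_image Finset.univ 2 hfib
  rw [Finset.card_univ, ← Nat.card_eq_fintype_card] at this
  omega

end Cfsg.Agent.LargeExtraspecial
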