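import Cfsg.Agent.Lib.LargeExtraspecial.SmithInter

/-!
# Transfer of elements of least order outside the kernel

* `transfer_eq_prod_fixed`: only fixed cosets count for such an element.
* `Hub.hom_eq_one_of_small`: `χ² = 1`, `χ` kills involutions: `χ = 1`.
* `Hub.hom_eq_one_of_wc`: `z` weakly closed in `E`, `|E| ≥ 128`: `χ = 1`.
-/

set_option autoImplicit false

namespace Cfsg.Agent.LargeExtraspecial

open Subgroup

variable {G : Type*} [Group G] {A : Type*} [CommGroup A]

open scoped Classical in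
theorem transfer_eq_prod_fixed [Finite G] {H : Subgroup G} [Fintype (G ⧸ H)] (χ : ↥H →* A)
    {t : G} (hmin : ∀ a : ↥H, orderOf (a : G) < orderOf t → χ a = 1) :
    MonoidHom.transfer χ t =
      ∏ q : G ⧸ H, if t • q = q then extOne χ (q.out⁻¹ * t * q.out) else 1 := by
  have hn : 0 < orderOf t := orderOf_pos t
  haveI : Fintype (Quotient (MulAction.orbitRel (zpowers t) (G ⧸ H))) := Fintype.ofFinite _
  rw [MonoidHom.transfer_eq_prod_quotient_orbitRel_zpowers_quot,
    ← Finset.prod_fiberwise Finset.univ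
      (fun q : G ⧸ H => (Quotient.mk'' q : Quotient (MulAction.orbitRel (zpowers t) (G ⧸ H))))
      (fun q => if t • q = q then extOne χ (q.out⁻¹ * t * q.out) else 1)]
  refine Finset.prod_congr rfl fun j _ => ?_
  have hfib : ∀ q : G ⧸ H,
      (Quotient.mk'' q : Quotient (MulAction.orbitRel (zpowers t) (G ⧸ H))) = j →
      ∃ i : ℤ, t ^ i • j.out = q := by
    intro q hq
    have h1 : q ∈ MulAction.orbit (zpowers t) j.out :=
      MulAction.orbitRel_apply.mp (Quotient.eq''.mp (hq.trans (Quotient.out_eq' j).symm))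
    obtain ⟨⟨g, hg⟩, rfl⟩ := h1
    obtain ⟨i, rfl⟩ := mem_zpowers_iff.mp hg
    exact ⟨i, rfl⟩
  by_cases hk : Function.minimalPeriod (t • ·) j.out = 1
  · have hfix : t • j.out = j.out := Function.minimalPeriod_eq_one_iff_isFixedPt.mp hk
    rw [Finset.prod_eq_single j.out]
    · rw [if_pos hfix]
      have hmem : j.out.out⁻¹ * t * j.out.out ∈ H := by
        simpa [hk] using QuotientGroup.out_conj_pow_minimalPeriod_mem H t j.out
      rw [extOne_of_mem χ hmem]
      exact congrArg χ (Subtype.ext (by simp [hk]))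
    · intro q hq hne
      obtain ⟨i, rfl⟩ := hfib q (Finset.mem_filter.mp hq).2
      refine absurd ?_ hne
      exact MulAction.mem_stabilizer_iff.mp
        (zpow_mem (show t ∈ MulAction.stabilizer G j.out from hfix) i)
    · intro hn'
      exact absurd (Finset.mem_filter.mpr ⟨Finset.mem_univ j.out, Quotient.out_eq' j⟩) hn'
  · have hdvd : Function.minimalPeriod (t • ·) j.out ∣ orderOf t := by
      rw [← MulAction.pow_smul_eq_iff_minimalPeriod_dvd, pow_orderOf_eq_one, one_smul]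
    set k := Function.minimalPeriod (t • ·) j.out
    rw [Finset.prod_eq_one fun q hq => if_neg fun hq' => hk ?_]
    · refine hmin _ ?_
      have e : orderOf (j.out.out⁻¹ * t ^ k * j.out.out) = orderOf (t ^ k) := by
        have := MulEquiv.orderOf_eq (MulAut.conj j.out.out⁻¹) (t ^ k)
        simpa using this
      show orderOf (j.out.out⁻¹ * t ^ k * j.out.out) < orderOf t
      rw [e, orderOf_pow, Nat.gcd_eq_right hdvd]
      exact Nat.div_lt_self hn ((Nat.two_le_iff _).mpr
        ⟨fun h0 => by rw [h0, zero_dvd_iff] at hdvd; omega, hk⟩)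
    · obtain ⟨i, rfl⟩ := hfib q (Finset.mem_filter.mp hq).2
      refine Function.minimalPeriod_eq_one_iff_isFixedPt.mpr ?_
      rw [← mul_smul, ← zpow_one_add, add_comm, zpow_add, zpow_one, mul_smul] at hq'
      exact smul_left_cancel_iff _ |>.mp hq'

variable {E : Subgroup G} {z : G}



/-- The value at `p` seen from the coset `q`. -/
noncomputable def atCoset {H : Subgroup G} (χ : ↥H →* A) (q : G ⧸ H) (p : G) : A :=
  extOne χ (q.out⁻¹ * p * q.out)

theorem smul_eq_iff_out {H : Subgroup G} (g : G) (q : G ⧸ H) :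
    g • q = q ↔ q.out⁻¹ * g * q.out ∈ H := by
  conv_lhs => rw [← QuotientGroup.out_eq' q]
  rw [eq_comm, MulAction.Quotient.smul_coe, QuotientGroup.eq, smul_eq_mul, mul_assoc]

theorem atCoset_mul {H : Subgroup G} (χ : ↥H →* A) {q : G ⧸ H} {p p' : G} (hp : p • q = q)
    (hp' : p' • q = q) : atCoset χ q (p * p') = atCoset χ q p * atCoset χ q p' := by
  rw [atCoset, atCoset, atCoset,
    ← extOne_mul χ ((smul_eq_iff_out p q).mp hp) ((smul_eq_iff_out p' q).mp hp')]
  congr 1; group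

theorem atCoset_smul {H : Subgroup G} (χ : ↥H →* A) (g : G) {q : G ⧸ H} {p : G}
    (hp : (g⁻¹ * p * g) • q = q) : atCoset χ (g • q) p = atCoset χ q (g⁻¹ * p * g) := by
  have h1 : g • q = ((g * q.out : G) : G ⧸ H) := by
    conv_lhs => rw [← QuotientGroup.out_eq' q]
    rfl
  obtain ⟨h, hh⟩ := QuotientGroup.mk_out_eq_mul H (g * q.out)
  rw [atCoset, atCoset, h1, hh, show (g * q.out * (h : G))⁻¹ * p * (g * q.out * h) =
    (h : G)⁻¹ * (q.out⁻¹ * (g⁻¹ * p * g) * q.out) * h by group,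
    extOne_conj χ h.2 ((smul_eq_iff_out _ q).mp hp)]

theorem smul_iff_commute (g : G) (q : G ⧸ centralizer ({z} : Set G)) :
    g • q = q ↔ Commute g (q.out * z * q.out⁻¹) := by
  rw [smul_eq_iff_out, mem_centralizer_singleton_iff]
  constructor
  · intro h
    calc g * (q.out * z * q.out⁻¹) = q.out * (q.out⁻¹ * g * q.out * z) * q.out⁻¹ := by group
      _ = q.out * (z * (q.out⁻¹ * g * q.out)) * q.out⁻¹ := by rw [h]
      _ = q.out * z * q.out⁻¹ * g := by group
  · intro h
    calc q.out⁻¹ * g * q.out * z = q.out⁻¹ * (g * (q.out * z * q.out⁻¹)) * q.out := by group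
      _ = q.out⁻¹ * (q.out * z * q.out⁻¹ * g) * q.out := by rw [h.eq]
      _ = z * (q.out⁻¹ * g * q.out) := by group

/-- A coset fixed by `t` and by `z` and different from the base coset. -/
def Moved (z t : G) (q : G ⧸ centralizer ({z} : Set G)) : Prop :=
  t • q = q ∧ z • q = q ∧ q ≠ ((1 : G) : G ⧸ centralizer ({z} : Set G))

/-- The part of `E` fixing a coset. -/
def fixE (E : Subgroup G) (z : G) (q : G ⧸ centralizer ({z} : Set G)) : Subgroup G := E ⊓ MulAction.stabilizer G q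

theorem mem_fixE {q : G ⧸ centralizer ({z} : Set G)} {p : G} : p ∈ fixE E z q ↔ p ∈ E ∧ p • q = q := Iff.rfl

section

variable (h : Hub E z) (hE : E ≤ centralizer ({z} : Set G)) {t : G} (htz : Commute t z) {q : G ⧸ centralizer ({z} : Set G)} (hq : Moved z t q)

include h hq in
theorem Hub.z_mem_fixE : z ∈ fixE E z q := ⟨h.mem, hq.2.1⟩

include h hq in
theorem Hub.conj_mem_fixE {e p : G} (he : e ∈ E) (hp : p ∈ fixE E z q) :
    e * p * e⁻¹ ∈ fixE E z q := by
  rcases h.comm e he p hp.1 with r | r <;> rw [r]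
  · exact hp
  · exact mul_mem hp (h.z_mem_fixE hq)

include h htz hq in
theorem Hub.tconj_mem_fixE {p : G} (hp : p ∈ fixE E z q) : t * p * t⁻¹ ∈ fixE E z q := by
  refine ⟨h.normalizes t htz p hp.1, ?_⟩
  show (t * p * t⁻¹) • q = q
  have h1 : t⁻¹ • q = q := inv_smul_eq_iff.mpr hq.1.symm
  rw [mul_smul, mul_smul, h1, show p • q = q from hp.2, hq.1]

include h hE htz hq in
theorem Hub.move {e : G} (he : e ∈ E) (hd : t * e * t⁻¹ * e⁻¹ ∈ fixE E z q) (χ : ↥(centralizer ({z} : Set G)) →* A) :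
    Moved z t (e • q) ∧ fixE E z (e • q) = fixE E z q ∧
      e⁻¹ * (t * e * t⁻¹ * e⁻¹) * e ∈ fixE E z q ∧
      atCoset χ (e • q) t = atCoset χ q (e⁻¹ * (t * e * t⁻¹ * e⁻¹) * e) * atCoset χ q t := by
  have hd' : e⁻¹ * (t * e * t⁻¹ * e⁻¹) * e ∈ fixE E z q := by
    simpa using h.conj_mem_fixE hq (inv_mem he) hd
  have ht : e⁻¹ * t * e = e⁻¹ * (t * e * t⁻¹ * e⁻¹) * e * t := by group
  have htq : (e⁻¹ * t * e) • q = q := by
    rw [ht, mul_smul, hq.1]; exact hd'.2
  refine ⟨⟨?_, ?_, ?_⟩, ?_, hd', ?_⟩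
  · rwa [mul_smul, mul_smul, inv_smul_eq_iff] at htq
  · rw [← mul_smul, ← (h.central e he).eq, mul_smul, hq.2.1]
  · intro hc
    apply hq.2.2
    rw [← inv_smul_smul e q, hc, MulAction.Quotient.smul_coe, QuotientGroup.eq, smul_eq_mul]
    simpa using hE he
  · have key : ∀ p ∈ E, (p • e • q = e • q ↔ (e⁻¹ * p * e) • q = q) := fun p _ => by
      rw [mul_smul, mul_smul, inv_smul_eq_iff]
    ext p
    rw [mem_fixE, mem_fixE]
    refine and_congr_right fun hp => ?_
    rw [key p hp]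
    constructor <;> intro hp'
    · have := h.conj_mem_fixE hq he (p := e⁻¹ * p * e)
        ⟨E.mul_mem (E.mul_mem (E.inv_mem he) hp) he, hp'⟩
      simpa [mul_assoc, mem_fixE, hp] using this
    · have := h.conj_mem_fixE hq (inv_mem he) (p := p) ⟨hp, hp'⟩
      simpa using this.2
  · rw [atCoset_smul χ e htq, ht, atCoset_mul χ hd'.2 hq.1]

/-- The elements whose commutator with `t` fixes `q`. -/
def moveS : Subgroup G where
  carrier := {e | e ∈ E ∧ t * e * t⁻¹ * e⁻¹ ∈ fixE E z q}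
  one_mem' := ⟨E.one_mem, by simp [one_mem]⟩
  mul_mem' := by
    rintro a b ⟨ha, ha'⟩ ⟨hb, hb'⟩
    refine ⟨mul_mem ha hb, ?_⟩
    rw [show t * (a * b) * t⁻¹ * (a * b)⁻¹ =
      (t * a * t⁻¹ * a⁻¹) * (a * (t * b * t⁻¹ * b⁻¹) * a⁻¹) by group]
    exact mul_mem ha' (h.conj_mem_fixE hq ha hb')
  inv_mem' := by
    rintro a ⟨ha, ha'⟩
    refine ⟨inv_mem ha, ?_⟩
    rw [show t * a⁻¹ * t⁻¹ * a⁻¹⁻¹ = a⁻¹ * (t * a * t⁻¹ * a⁻¹)⁻¹ * a⁻¹⁻¹ by group]
    exact h.conj_mem_fixE hq (inv_mem ha) (inv_mem ha')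

end

/-- A 2-element moving a proper invariant subgroup has fixed points outside it. -/
theorem Hub.exists_move_into (h : Hub E z) : ∀ (m : ℕ) {t : G}, t ^ 2 ^ m = 1 → Commute t z →
    ∀ D : Subgroup G, z ∈ D → (∀ p ∈ D, t * p * t⁻¹ ∈ D) → ∀ f ∈ E, f ∉ D →
    ∃ g ∈ E, g ∉ D ∧ t * g * t⁻¹ * g⁻¹ ∈ D := by
  intro m
  induction m with
  | zero =>
    intro t ht htz D hz _ f hf hfD
    rw [pow_zero, pow_one] at ht
    exact ⟨f, hf, hfD, by simp [ht, one_mem]⟩
  | succ m ih =>
    intro t ht htz D hz hD f hf hfD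
    obtain ⟨g, hg, hgD, hug⟩ := ih (t := t * t) (by rw [← pow_two, ← pow_mul, ← pow_succ']; exact ht)
      (htz.mul_left htz) D hz (fun p hp => by
        have := hD _ (hD p hp)
        rwa [show t * (t * p * t⁻¹) * t⁻¹ = t * t * p * (t * t)⁻¹ by group] at this) f hf hfD
    by_cases ha : t * g * t⁻¹ * g⁻¹ ∈ D
    · exact ⟨g, hg, hgD, ha⟩
    set a := t * g * t⁻¹ * g⁻¹ with haDef
    have haE : a ∈ E := mul_mem (h.normalizes t htz g hg) (inv_mem hg)
    refine ⟨a, haE, ha, ?_⟩
    rw [show t * a * t⁻¹ * a⁻¹ = (t * t * g * (t * t)⁻¹ * g⁻¹) * (a * a)⁻¹ by rw [haDef]; group]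
    refine mul_mem hug (inv_mem ?_)
    rcases h.sq_cases a haE with r | r <;> rw [r]
    exacts [one_mem D, hz]

open scoped Classical in
/-- The transfer of `t` reduces to the moved cosets. -/
theorem Hub.moved_prod_ne_one [Finite G] [Fintype (G ⧸ centralizer ({z} : Set G))]
    (χ : ↥(centralizer ({z} : Set G)) →* A) (hT : ∀ g, MonoidHom.transfer χ g = 1) (hsq : ∀ a, χ a * χ a = 1) {t : G} (ht : t ∈ centralizer ({z} : Set G))
    (htχ : χ ⟨t, ht⟩ ≠ 1) (hmin : ∀ a : ↥(centralizer ({z} : Set G)), orderOf (a : G) < orderOf t → χ a = 1)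
    (hz : z * z = 1) :
    ∏ q ∈ Finset.univ.filter (fun q => Moved z t q), atCoset χ q t ≠ 1 := by
  intro hprod
  have htz : Commute t z := mem_centralizer_singleton_iff.mp ht
  have hf : MonoidHom.transfer χ t = 1 := hT t
  rw [transfer_eq_prod_fixed χ hmin] at hf
  set F : G ⧸ centralizer ({z} : Set G) → A := fun q => if t • q = q then extOne χ (q.out⁻¹ * t * q.out) else 1
  have hzz : ∀ q : G ⧸ centralizer ({z} : Set G), z • z • q = q := fun q => by rw [← mul_smul, hz, one_smul]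
  have hfix : ∀ q : G ⧸ centralizer ({z} : Set G), t • z • q = z • q ↔ t • q = q := fun q => by
    rw [← mul_smul, htz.eq, mul_smul]; exact smul_left_cancel_iff _
  have hFz : ∀ q, F (z • q) * F q = 1 := by
    intro q
    have hsq' : ∀ g, g ∈ centralizer ({z} : Set G) → extOne χ g * extOne χ g = 1 := fun g hg => by
      rw [extOne_of_mem χ hg]; exact hsq _
    by_cases hq : t • q = q
    · simp only [F, if_pos hq, if_pos ((hfix q).mpr hq)]
      have e : (z⁻¹ * t * z) = t := by rw [mul_assoc, htz.eq, inv_mul_cancel_left]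
      have := atCoset_smul χ z (q := q) (p := t) (by rw [e]; exact hq)
      rw [e] at this
      rw [show extOne χ ((z • q).out⁻¹ * t * (z • q).out) = atCoset χ (z • q) t from rfl, this]
      exact hsq' _ ((smul_eq_iff_out t q).mp hq)
    · simp only [F, if_neg hq, if_neg (fun c => hq ((hfix q).mp c)), mul_one]
  rw [← Finset.prod_filter_mul_prod_filter_not Finset.univ (fun q : G ⧸ centralizer ({z} : Set G) => z • q = q)] at hf
  have h2 : ∏ q ∈ Finset.univ.filter (fun q : G ⧸ centralizer ({z} : Set G) => ¬ z • q = q), F q = 1 := by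
    refine Finset.prod_involution (fun q _ => z • q) (fun q _ => by rw [mul_comm]; exact hFz q)
      (fun q hq _ => (Finset.mem_filter.mp hq).2) (fun q hq => ?_) (fun q _ => hzz q)
    refine Finset.mem_filter.mpr ⟨Finset.mem_univ _, ?_⟩
    rw [hzz]; exact fun c => (Finset.mem_filter.mp hq).2 c.symm
  rw [h2, mul_one] at hf
  have hbase : ∀ g : G, g ∈ centralizer ({z} : Set G) → g • ((1 : G) : G ⧸ centralizer ({z} : Set G)) = ((1 : G) : G ⧸ centralizer ({z} : Set G)) := fun g hg => by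
    rw [MulAction.Quotient.smul_coe, QuotientGroup.eq, smul_eq_mul, mul_one, mul_one]
    exact inv_mem hg
  have hone : ((1 : G) : G ⧸ centralizer ({z} : Set G)) ∈
      Finset.univ.filter (fun q : G ⧸ centralizer ({z} : Set G) => z • q = q) :=
    Finset.mem_filter.mpr ⟨Finset.mem_univ _, hbase z (mem_centralizer_singleton_iff.mpr rfl)⟩
  rw [← Finset.mul_prod_erase _ _ hone] at hf
  have h3 : ∏ q ∈ (Finset.univ.filter (fun q : G ⧸ centralizer ({z} : Set G) => z • q = q)).erase ((1 : G) : G ⧸ centralizer ({z} : Set G)),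
      F q = 1 := by
    rw [← Finset.prod_filter_mul_prod_filter_not _ (fun q : G ⧸ centralizer ({z} : Set G) => t • q = q)]
    rw [Finset.prod_eq_one (fun q hq => if_neg (Finset.mem_filter.mp hq).2), mul_one, ← hprod]
    refine Finset.prod_congr ?_ fun q hq => if_pos (Finset.mem_filter.mp hq).2.1
    ext q
    constructor
    · intro hq
      obtain ⟨hq1, hq2⟩ := Finset.mem_filter.mp hq
      exact Finset.mem_filter.mpr ⟨Finset.mem_univ _, hq2,
        (Finset.mem_filter.mp (Finset.mem_erase.mp hq1).2).2, (Finset.mem_erase.mp hq1).1⟩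
    · intro hq
      obtain ⟨-, a, b, c⟩ := Finset.mem_filter.mp hq
      exact Finset.mem_filter.mpr
        ⟨Finset.mem_erase.mpr ⟨c, Finset.mem_filter.mpr ⟨Finset.mem_univ _, b⟩⟩, a⟩
  rw [h3, mul_one] at hf
  apply htχ
  obtain ⟨k, hk⟩ := QuotientGroup.mk_out_eq_mul (centralizer ({z} : Set G)) (1 : G)
  simp only [if_pos (hbase t ht), hk, one_mul] at hf
  rwa [extOne_conj χ k.2 ht, extOne_of_mem χ ht] at hf

end Cfsg.Agent.LargeExtraspecial
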