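import Cfsg.Agent.Lib.LargeExtraspecial.Basic

/-!
Singular subgroups for a large extraspecial 2-subgroup.
-/

set_option autoImplicit false

namespace Cfsg.Agent.LargeExtraspecial

variable {G : Type*} [Group G] [Finite G]

/-- `U` is a singular subgroup: elementary abelian, its involutions singular and pairwise
orthogonal. -/
structure SingularSubgroup (U : Subgroup G) : Prop where
  sq : ∀ u ∈ U, u * u = 1
  singular : ∀ u ∈ U, u ≠ 1 → Singular u
  orth : ∀ u ∈ U, ∀ v ∈ U, u ≠ 1 → v ≠ 1 → v ∈ coreAt u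

theorem SingularSubgroup.of_hyp {z : G} (hz : orderOf z = 2)
    (hE : Cfsg.IsExtraspecial 2 ↥(coreAt z))
    (hC : Subgroup.centralizer ((coreAt z : Subgroup G) : Set G) ≤ coreAt z) {U : Subgroup G}
    (hU2 : ∀ u ∈ U, u * u = 1) (hS : ∀ u ∈ U, u ≠ 1 → ∃ g : G, g * z * g⁻¹ = u)
    (hO : ∀ u ∈ U, ∀ v ∈ U, u ≠ 1 → v ≠ 1 → v ∈ coreAt u) : SingularSubgroup U := by
  refine ⟨hU2, fun u hu hu1 => ?_, hO⟩
  obtain ⟨g, rfl⟩ := hS u hu hu1
  exact (Singular.of_extraspecial hz hE hC).conj g

namespace SingularSubgroup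

variable {U : Subgroup G}

omit [Finite G] in
theorem comm (hU : SingularSubgroup U) {u v : G} (hu : u ∈ U) (hv : v ∈ U) : u * v = v * u := by
  have := hU.sq (u * v) (mul_mem hu hv)
  calc u * v = u * v * (v * u * (u * v))⁻¹ * (v * u * (u * v)) := by group
    _ = v * u := by
      rw [show v * u * (u * v) = v * (u * u) * v by group, hU.sq u hu, mul_one, hU.sq v hv]
      simp only [inv_one, mul_one]
      calc u * v = (v * v) * (u * v) := by rw [hU.sq v hv, one_mul]
        _ = v * (u * u) * (v * (u * v)) := by rw [hU.sq u hu]; group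
        _ = v * u * (u * v * (u * v)) := by group
        _ = v * u := by rw [this, mul_one]

omit [Finite G] in
theorem le_core (hU : SingularSubgroup U) {u : G} (hu : u ∈ U) (hu1 : u ≠ 1) : U ≤ coreAt u :=
  fun v hv => (eq_or_ne v 1).elim (fun h => h ▸ one_mem _) (hU.orth u hu v hv hu1)

theorem conj_mem (hU : SingularSubgroup U) {u q : G} (hu : u ∈ U) (hu1 : u ≠ 1)
    (hq : q ∈ coreAt u) {v : G} (hv : v ∈ U) : q * v * q⁻¹ ∈ U := by
  rcases (hU.singular u hu hu1).comm q hq v (hU.le_core hu hu1 hv) with e | e <;> rw [e]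
  exacts [hv, mul_mem hv hu]

theorem le_normalizer (hU : SingularSubgroup U) :
    (⨆ u ∈ ((U : Set G) \ {1}), coreAt u) ≤ Subgroup.normalizer (U : Set G) := by
  refine iSup₂_le fun u hu q hq => ?_
  rw [Subgroup.mem_normalizer_iff]
  refine fun v => ⟨hU.conj_mem hu.1 hu.2 hq, fun hv => ?_⟩
  simpa [mul_assoc] using hU.conj_mem hu.1 hu.2 (inv_mem hq) hv

omit [Finite G] in
/-- In an elementary abelian `U`, the subgroup generated by `c` and `W`. -/
theorem mem_closure_insert (hU : SingularSubgroup U) {c : G} (hc : c ∈ U) {W : Subgroup G}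
    (hW : W ≤ U) {a : G} (ha : a ∈ Subgroup.closure (insert c (W : Set G))) :
    a ∈ W ∨ c * a ∈ W := by
  suffices ha' : a ∈ U ∧ (a ∈ W ∨ c * a ∈ W) from ha'.2
  induction ha using Subgroup.closure_induction with
  | mem y hy =>
    rcases Set.mem_insert_iff.mp hy with rfl | hy
    · exact ⟨hc, Or.inr (by rw [hU.sq y hc]; exact one_mem _)⟩
    · exact ⟨hW hy, Or.inl hy⟩
  | one => exact ⟨one_mem _, Or.inl (one_mem _)⟩
  | mul y z _ _ hy hz =>
    refine ⟨mul_mem hy.1 hz.1, ?_⟩
    rcases hy.2 with hy' | hy' <;> rcases hz.2 with hz' | hz'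
    · exact Or.inl (mul_mem hy' hz')
    · refine Or.inr ?_
      rw [← mul_assoc, hU.comm hc hy.1, mul_assoc]
      exact mul_mem hy' hz'
    · exact Or.inr (by rw [← mul_assoc]; exact mul_mem hy' hz')
    · refine Or.inl ?_
      have := mul_mem hy' hz'
      rwa [mul_assoc, ← mul_assoc y c, hU.comm hy.1 hc, ← mul_assoc, ← mul_assoc, hU.sq c hc,
        one_mul] at this
  | inv y _ hy => rwa [inv_eq_of_mul_eq_one_right (hU.sq y hy.1)]

theorem exists_realize (hU : SingularSubgroup U) (φ : ↥U ≃* ↥U) :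
    ∃ g ∈ (⨆ u ∈ ((U : Set G) \ {1}), coreAt u), ∀ u : ↥U, g * (u : G) * g⁻¹ = (φ u : G) := by
  classical
  have := Fintype.ofFinite ↥U
  set L := ⨆ u ∈ ((U : Set G) \ {1}), coreAt u with hL
  suffices H : ∀ s : Finset ↥U, ∃ g ∈ L, ∀ u ∈ s, g * (u : G) * g⁻¹ = (φ u : G) by
    obtain ⟨g, hg, hgs⟩ := H Finset.univ
    exact ⟨g, hg, fun u => hgs u (Finset.mem_univ u)⟩
  intro s
  induction s using Finset.induction_on with
  | empty => exact ⟨1, one_mem _, by simp⟩
  | @insert v s _ ih =>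
    obtain ⟨g, hg, hgs⟩ := ih
    by_cases hv : g * (v : G) * g⁻¹ = (φ v : G)
    · exact ⟨g, hg, by simpa [hv] using hgs⟩
    have hcl : ∀ w ∈ Subgroup.closure (s : Set ↥U), g * (w : G) * g⁻¹ = (φ w : G) := by
      intro w hw
      induction hw using Subgroup.closure_induction with
      | mem w hw => exact hgs w hw
      | one => simp
      | mul a b _ _ ha hb => simp [map_mul, ← ha, ← hb, mul_assoc]
      | inv a _ ha => simp [map_inv, ← ha, mul_assoc]
    set W : Subgroup G := ((Subgroup.closure (s : Set ↥U)).map φ.toMonoidHom).map U.subtype with hW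
    have hWU : W ≤ U := fun w hw => by obtain ⟨a, -, rfl⟩ := hw; exact a.2
    set a := g * (v : G) * g⁻¹ with hadef
    set b := (φ v : G) with hb
    have haU : a ∈ U :=
      (Subgroup.mem_normalizer_iff.mp (hU.le_normalizer hg) (v : G)).mp v.2
    have hbU : b ∈ U := (φ v).2
    have key : ∀ w ∈ W, w ≠ a ∧ w ≠ b := by
      rintro _ ⟨_, ⟨w, hw, rfl⟩, rfl⟩
      have hwg := hcl w hw
      constructor <;> intro e <;> apply hv
      · have : (w : G) = v := by
          change (φ w : G) = a at e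
          rw [← hwg, hadef] at e
          exact mul_left_cancel (mul_right_cancel e)
        rw [hadef, ← this, hwg, hb, Subtype.ext this]
      · have : w = v := φ.injective (Subtype.ext e)
        rw [hadef, ← this, hwg, hb, this]
    set c := a * b with hc
    have hcU : c ∈ U := mul_mem haU hbU
    have hc1 : c ≠ 1 := fun e => hv (by
      rw [hc, mul_eq_one_iff_eq_inv, inv_eq_of_mul_eq_one_right (hU.sq b hbU)] at e
      exact e)
    have hnc : a ∉ Subgroup.closure (insert c ((Set.toFinite (W : Set G)).toFinset : Set G)) := by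
      rw [Set.Finite.coe_toFinset]
      intro h
      rcases hU.mem_closure_insert hcU hWU h with h | h
      · exact (key a h).1 rfl
      · rw [hc, mul_assoc, hU.comm hbU haU, ← mul_assoc, hU.sq a haU, one_mul] at h
        exact (key b h).2 rfl
    have hsc := hU.singular c hcU hc1
    have : ∃ q ∈ coreAt c, (∀ t ∈ W, q * t = t * q) ∧ q * a ≠ a * q := by
      by_contra hcon
      push Not at hcon
      exact hnc (hsc.double_centralizer _ (fun t ht => hU.le_core hcU hc1
        (hWU ((Set.Finite.mem_toFinset _).mp ht))) (hU.le_core hcU hc1 haU)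
        fun q hq hqT => hcon q hq fun t ht => hqT t ((Set.Finite.mem_toFinset _).mpr ht))
    obtain ⟨q, hq, hqW, hqa⟩ := this
    have hqa' : q * a * q⁻¹ = b := by
      rw [(hsc.comm q hq a (hU.le_core hcU hc1 haU)).resolve_left
        (fun e => hqa (mul_inv_eq_iff_eq_mul.mp e)), hc, ← mul_assoc, hU.sq a haU, one_mul]
    refine ⟨q * g, mul_mem ?_ hg, ?_⟩
    · rw [hL]
      exact (le_iSup₂ (f := fun u (_ : u ∈ ((U : Set G) \ {1})) => coreAt u) c ⟨hcU, hc1⟩) hq
    intro w hw
    rw [show q * g * (w : G) * (q * g)⁻¹ = q * (g * w * g⁻¹) * q⁻¹ by group]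
    rcases Finset.mem_insert.mp hw with rfl | hw
    · exact hqa'
    · have hqw : q * (φ w : G) = φ w * q :=
        hqW _ ⟨_, ⟨w, Subgroup.subset_closure hw, rfl⟩, rfl⟩
      rw [hgs w hw, hqw, mul_inv_cancel_right]

theorem commutator_mem (hU : SingularSubgroup U) {g : G}
    (hg : g ∈ ⨆ u ∈ ((U : Set G) \ {1}), coreAt u) {x : G}
    (hx : ∀ u ∈ U, u ≠ 1 → x ∈ coreAt u) : g * x * g⁻¹ * x⁻¹ ∈ U := by
  let K : Subgroup G :=
    { carrier := {g | g ∈ Subgroup.normalizer (U : Set G) ∧ g * x * g⁻¹ * x⁻¹ ∈ U}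
      one_mem' := ⟨one_mem _, by simp⟩
      mul_mem' := by
        rintro a b ⟨ha, ha'⟩ ⟨hb, hb'⟩
        refine ⟨mul_mem ha hb, ?_⟩
        rw [show a * b * x * (a * b)⁻¹ * x⁻¹ = a * (b * x * b⁻¹ * x⁻¹) * a⁻¹ * (a * x * a⁻¹ * x⁻¹)
          by group]
        exact mul_mem ((Subgroup.mem_normalizer_iff.mp ha _).mp hb') ha'
      inv_mem' := by
        rintro a ⟨ha, ha'⟩
        refine ⟨inv_mem ha, ?_⟩
        have := (Subgroup.mem_normalizer_iff.mp (inv_mem ha) _).mp (inv_mem ha')
        simpa [mul_assoc] using this }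
  have : (⨆ u ∈ ((U : Set G) \ {1}), coreAt u) ≤ K := by
    refine iSup₂_le fun u hu q hq => ⟨hU.le_normalizer ?_, ?_⟩
    · exact (le_iSup₂ (f := fun u (_ : u ∈ ((U : Set G) \ {1})) => coreAt u) u hu) hq
    · have hxu := hx u hu.1 hu.2
      rcases (hU.singular u hu.1 hu.2).comm q hq x hxu with e | e <;> rw [e]
      · simp
      · rw [← commute_of_mem_coreAt hxu, mul_inv_cancel_right]
        exact hu.1
  exact (this hg).2

theorem exists_translate (hU : SingularSubgroup U) {u x : G} (hu : u ∈ U) (hu1 : u ≠ 1)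
    (hx : x ∈ coreAt u) (hxU : x ∉ U) :
    ∃ q ∈ coreAt u, (∀ v ∈ U, v * q = q * v) ∧ q * x * q⁻¹ = x * u := by
  classical
  have hs := hU.singular u hu hu1
  by_contra hcon
  push Not at hcon
  have := hs.double_centralizer (Set.toFinite (U : Set G)).toFinset
    (fun t ht => hU.le_core hu hu1 ((Set.Finite.mem_toFinset _).mp ht)) hx fun q hq hqT => by
      rcases hs.comm q hq x hx with e | e
      · exact mul_inv_eq_iff_eq_mul.mp e
      · exact absurd e (hcon q hq fun v hv => (hqT v ((Set.Finite.mem_toFinset _).mpr hv)).symm)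
  rw [Set.Finite.coe_toFinset, Set.insert_eq_of_mem (show u ∈ (U : Set G) from hu),
    Subgroup.closure_eq] at this
  exact hxU this

theorem mem_core_of_closure (hU : SingularSubgroup U) {T : Set G}
    (hT : Subgroup.closure T = U) {x : G} (hx : ∀ t ∈ T, x ∈ coreAt t)
    {a : G} (ha : a ∈ U) (ha1 : a ≠ 1) : x ∈ coreAt a := by
  by_cases hxU : x ∈ U
  · exact hU.le_core ha ha1 hxU
  suffices H : a ∈ U ∧ (a = 1 ∨ x ∈ coreAt a) from H.2.resolve_left ha1
  clear ha1
  rw [← hT] at ha
  induction ha using Subgroup.closure_induction with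
  | mem t ht => exact ⟨hT ▸ Subgroup.subset_closure ht, Or.inr (hx t ht)⟩
  | one => exact ⟨one_mem _, Or.inl rfl⟩
  | inv t _ ht => rwa [inv_eq_of_mul_eq_one_right (hU.sq t ht.1)]
  | mul s t _ _ hs ht =>
    refine ⟨mul_mem hs.1 ht.1, ?_⟩
    rcases eq_or_ne s 1 with rfl | hs1
    · simpa using ht.2
    rcases eq_or_ne t 1 with rfl | ht1
    · simpa using hs.2
    rcases eq_or_ne (s * t) 1 with e | e
    · exact Or.inl e
    right
    have hxs := hs.2.resolve_left hs1
    have hxt := ht.2.resolve_left ht1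
    have hts : t ≠ s := fun h => e (by rw [h]; exact hU.sq s hs.1)
    obtain ⟨q, hq, hqx, hqt⟩ := (hU.singular s hs.1 hs1).exists_move hxs
      (hU.le_core hs.1 hs1 ht.1) ht1 hts (fun h => hxU (h ▸ ht.1))
      (fun h => hxU (by
        have : x = t * s⁻¹ := by rw [h]; group
        rw [this]; exact mul_mem ht.1 (inv_mem hs.1)))
    have := conj_mem_coreAt q hxt
    rwa [hqx, mul_inv_cancel_right, hqt, hU.comm ht.1 hs.1] at this

end SingularSubgroup

end Cfsg.Agent.LargeExtraspecial
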